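import Cfsg.Agent.FS.B.Tv
import Cfsg.Agent.FS.N.Defs

/-!
# S5288, engine B: the nodes which only use the trivial core (copies of `FS.B.nor_node`, `FS.B.tv_false`; helper23)
-/

set_option autoImplicit false

namespace Cfsg.Agent.FS.NB

open Cfsg Cfsg.FusionSystem Cfsg.Agent.H802 Cfsg.Agent.H752 Cfsg.Agent.FS.Th Cfsg.Agent.FS.B

variable {A : Type} [Group A]

theorem nor_node [Finite A] {F : FusionSystem (⊤ : Subgroup A)} (h : N.Hy0 F) {W : Subgroup A} (hW : W ≠ ⊥)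
    (hn : ∀ s, ∀ x ∈ W, s * x * s⁻¹ ∈ W) : Closed F (norP F W) ∧ (∃ P g, Mp F P g ∧ ¬ norP F W P g) ∧
      ∀ P g, Mp F P g → W ≤ P → (∀ w ∈ W, g w ∈ W) → norP F W P g := by
  refine ⟨closed_norP F le_top fun s _ => hn s, ?_, fun P g hg h1 h2 => (norP_iff_of_le h1 hg).2 h2⟩
  by_contra h1
  exact not_isNormal_of_core h.core hW (isNormal_of_norP F le_top fun P g hg => by_contra fun h2 => h1 ⟨P, g, hg, h2⟩)

theorem tv_false [Finite A] (hA : IsPGroup 2 A) {F : FusionSystem (⊤ : Subgroup A)} (hF : N.Hy0 F)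
    (L0 L1 : List (Subgroup A))
    (hAl : ∀ (θ : MulAut A) (Q : Subgroup A), F.IsEssential 2 Q →
      ∃ P ∈ L0 ++ L1, ∃ s : A, ∀ x, x ∈ Q ↔ s⁻¹ * θ x * s ∈ P)
    (h0 : ∀ P ∈ L0, ∃ t, TvP P t 1) (h1 : ∀ P ∈ L1, ∃ t c, TvP P t c)
    {V : Subgroup A} (hV : ∀ v ∈ V, Zc ⊤ v) (hc : 2 ^ L1.length < Nat.card V) : False := by
  classical
  have : Fact (Nat.Prime 2) := ⟨Nat.prime_two⟩
  have hS : IsPGroup 2 (⊤ : Subgroup A) := hA.to_subgroup ⊤
  have hcen : ∀ {Q : Subgroup A} {z : A}, F.IsEssential 2 Q → Zc ⊤ z → z ∈ Q := fun {Q z} hQ hz =>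
    hQ.1.2 Q (isConj_refl F le_top) ⟨Subgroup.mem_top z, Subgroup.mem_centralizer_iff.2 fun x _ =>
      hz.2.2 x (Subgroup.mem_top x)⟩
  have hmap : ∀ {f : A → A} {z : A}, Mp F ⊤ f → Zc ⊤ z → Zc ⊤ (f z) := fun hf hz =>
    hz.map hf fun _ _ => Subgroup.mem_top _
  let U : Subgroup A :=
    { carrier := {v | Zc ⊤ v ∧ ∀ f Q, Mp F ⊤ f → F.IsEssential 2 Q → Fx F Q (f v)}
      one_mem' := ⟨⟨Subgroup.mem_top _, one_mul _, fun x _ => by rw [mul_one, one_mul]⟩, fun f Q hf _ g hg _ s _ => by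
        rw [hf.one, hg.one, mul_one, mul_inv_cancel]⟩
      mul_mem' := fun {a b} ha hb => ⟨ha.1.mul hb.1, fun f Q hf hQ => by
        rw [hf.mul ha.1.1 hb.1.1]
        exact (ha.2 f Q hf hQ).mul (hb.2 f Q hf hQ) (hcen hQ (hmap hf ha.1)) (hcen hQ (hmap hf hb.1))⟩
      inv_mem' := fun {a} ha => by
        rw [inv_eq_of_mul_eq_one_right ha.1.2.1]
        exact ha }
  have hU : U ≠ ⊥ := by
    let Gd : Subgroup A → Prop := fun P => F.IsFullyNormalized P ∧ ∀ z, Zc ⊤ z → z ∈ P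
    have := Fintype.ofFinite V
    obtain ⟨x, y, hxy, h2⟩ := Fintype.exists_ne_map_eq_of_card_lt
      (fun (v : V) (i : Fin L1.length) => decide (Fx F L1[i] v)) (by
        rw [Fintype.card_fun, Fintype.card_bool, Fintype.card_fin, ← Nat.card_eq_fintype_card]
        exact hc)
    have hx := hV x x.2
    have hy := hV y y.2
    have h3 : ∀ P ∈ L0 ++ L1, Gd P → Fx F P (x * y) := fun P hP hG => by
      rcases List.mem_append.1 hP with h4 | h4
      · obtain ⟨t, ht⟩ := h0 P h4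
        exact fx_zero ht ((hx.mul hy).res (hG.2 _ (hx.mul hy)))
      · obtain ⟨t, c, ht⟩ := h1 P h4
        obtain ⟨i, rfl⟩ := List.mem_iff_get.1 h4
        have h5 : Fx F (L1.get i) x ↔ Fx F (L1.get i) y := decide_eq_decide.1 (congrFun h2 i)
        by_cases h6 : Fx F (L1.get i) x
        · exact h6.mul (h5.1 h6) (hG.2 _ hx) (hG.2 _ hy)
        · exact fx_one hA hF.sat hG.1 ht hx hy (hG.2 _ hx) (hG.2 _ hy) h6 fun h7 => h6 (h5.2 h7)
    intro h4
    have h5 : (x : A) * y ∈ U := ⟨hx.mul hy, fun f Q hf hQ => by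
      obtain ⟨θ, hθ⟩ := Mp.exists_top hf
      have h6 : Mp F ⊤ θ := hf.congr fun x _ => hθ x
      obtain ⟨P, hP, s, h7⟩ := hAl θ⁻¹ Q hQ
      have h8 : Mp F ⊤ (MulAut.conj s⁻¹ * θ⁻¹ : MulAut A) :=
        ((mp_inv h6).comp (mp_conj F le_rfl (Subgroup.mem_top s⁻¹)) fun _ _ => Subgroup.mem_top _).congr fun _ _ => rfl
      have h9 : ∀ x, x ∈ Q ↔ (MulAut.conj s⁻¹ * θ⁻¹ : MulAut A) x ∈ P := fun x => by
        rw [h7, MulAut.mul_apply, MulAut.conj_apply, inv_inv]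
      have hG : Gd P := ⟨isFullyNormalized_image hQ.2.1 (h8.res le_top) fun y => ⟨fun h10 =>
        ⟨_, (h9 _).2 (by rwa [MulAut.apply_inv_self]), MulAut.apply_inv_self _ _ _⟩,
          fun ⟨x, h10, h11⟩ => h11 ▸ (h9 x).1 h10⟩, fun z hz => by
        have h10 := (h9 _).1 (hcen hQ (hmap (mp_inv h8) hz))
        rwa [MulAut.apply_inv_self] at h10⟩
      have h10 := (h3 P hP hG).map (hG.2 _ (hx.mul hy)) h8 (mp_inv h8) h9
      rwa [mul_inv_rev, inv_inv, MulAut.mul_apply, ← map_inv, inv_inv, MulAut.conj_apply,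
        (hx.mul hy).conj (Subgroup.mem_top s), hθ] at h10⟩
    rw [h4, Subgroup.mem_bot, mul_eq_one_iff_eq_inv, inv_eq_of_mul_eq_one_right hy.2.1] at h5
    exact hxy (Subtype.ext h5)
  obtain ⟨h2, ⟨P, g, h3, h4⟩, h5⟩ := nor_node hF hU fun s x hx => by
    rw [hx.1.conj (Subgroup.mem_top s)]
    exact hx
  rcases exists_fail hA hF.sat h2 h3 h4 with ⟨f, hf⟩ | ⟨Q, hQ, h6⟩
  · exact hf.nm (h5 _ _ hf.mp le_top fun w hw => ⟨hmap hf.mp hw.1, fun f' Q hf' hQ =>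
      hw.2 (f' ∘ f) Q (hf.mp.comp hf' fun _ _ => Subgroup.mem_top _) hQ⟩)
  · obtain ⟨t, -, h7⟩ := exists_sq_mem hS le_top (ne_of_isEssential hS hF.sat hQ)
    obtain ⟨τ, f, -, hf, hd⟩ := h6 t h7
    refine hf.nm (h5 _ _ hf.mp (fun w hw => hcen hQ hw.1) fun w hw => ?_)
    have hwQ := hcen hQ hw.1
    have h8 : f (f w) = w := by
      have h9 := hd.inv w hwQ
      rwa [hw.2 (fun x => x) Q (mp_id F le_rfl) hQ f hf.mp hf.mem τ hd.tN, hw.1.conj (Subgroup.mem_top τ)] at h9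
    obtain ⟨r, k, hr, hr2, h9⟩ := hf.ord
    obtain ⟨m, hm⟩ := (hr.odd_of_ne_two hr2).pow (n := k)
    have h10 : ∀ n, f^[2 * n] w = w := fun n => by
      induction n with
      | zero => rfl
      | succ n ih => rw [show 2 * (n + 1) = 2 * n + 1 + 1 by ring, Function.iterate_succ_apply,
          Function.iterate_succ_apply, h8, ih]
    have h11 := h9 w hwQ
    rw [hm, add_comm, Function.iterate_add_apply, h10, Function.iterate_one] at h11
    rw [h11]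
    exact hw

end Cfsg.Agent.FS.NB
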