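import Cfsg.Agent.FS.N.B.Bas0

/-!
# The checker of part B: endomorphisms given by the images of the generators
-/

set_option autoImplicit false

namespace Cfsg.Agent.FS.NB

open Cfsg Cfsg.FusionSystem Cfsg.Agent.H752 Cfsg.Agent.FS.Th Cfsg.Agent.FS.Pc Cfsg.Agent.FS.Sw Cfsg.Agent.FS.B
open Asm (En)

namespace Gp.K

variable {g : Gp} (hK : g.K)
include hK

theorem atr_spec (B : ℕ) : ∀ j y, y < g.N → g.atr B j y < 2 ^ (16 * 2 ^ j) ∧ ∀ a, a < 2 ^ j → lk (g.atr B j y) a < g.N ∧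
    ∀ (A : Type) [Group A] (e : ℕ → A), En g.m g.N e → e (lk (g.atr B j y) a) = e y * el (fun i => e (g.by' B i)) j a := by
  intro j
  induction j with
  | zero =>
    intro y hy
    have h1 : y < 2 ^ 16 := hy.trans_le hK.N_le
    refine ⟨h1, fun a ha => ?_⟩
    rw [Nat.lt_one_iff.1 ha, lk_eq, show g.atr B 0 y = y from rfl, get_zero_of_lt h1]
    exact ⟨hy, fun A _ e _ => by rw [el_zero, mul_one]⟩
  | succ j ih =>
    intro y hy
    have h0 := hK.by_lt B j
    have h1 : g.atr B (j + 1) y = g.atr B j y + (g.atr B j (g.m y (g.by' B j))) <<< (16 * 2 ^ j) := by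
      rw [← hK.c_eq _ h0 y hy, ← shl_eq 16 j]
      rfl
    obtain ⟨h2, h3⟩ := ih y hy
    obtain ⟨h4, h5⟩ := ih _ (hK.m_lt y hy _ h0)
    rw [h1]
    refine ⟨by rw [pow_succ, Nat.mul_two, Nat.mul_add]; exact cat_lt h2 h4, fun a ha => ?_⟩
    by_cases h6 : a < 2 ^ j
    · rw [lk_eq, get_cat_lo _ h2 h6, ← lk_eq]
      exact ⟨(h3 a h6).1, fun A _ e he => by rw [(h3 a h6).2 A e he, el_of_lt _ h6 (Nat.le_succ j)]⟩
    · obtain ⟨b, rfl⟩ := Nat.exists_eq_add_of_le (not_lt.1 h6)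
      have h7 : b < 2 ^ j := by rw [pow_succ] at ha; omega
      rw [lk_eq, get_cat_hi _ h2, ← lk_eq]
      exact ⟨(h5 b h7).1, fun A _ e he => by
        rw [(h5 b h7).2 A e he, two_pow_add_eq_xor h7, el_top _ h7, he.mul y hy _ h0, mul_assoc]⟩

theorem aut_lt (B : ℕ) {a : ℕ} (ha : a < g.N) : lk (g.aut B) a < g.N := by
  unfold Gp.aut
  rw [frc_eq]
  exact ((hK.atr_spec (sl B) g.n 0 hK.N_pos).2 a (hK.hN ▸ ha)).1

variable {A : Type} [Group A] {e : ℕ → A} (he : En g.m g.N e)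
include he

/-- an endomorphism given by images of the generators -/
theorem aut_spec {B : ℕ} (h : g.autOK B = true) : En g.m g.N fun a => e (lk (g.aut B) a) := by
  have h0 : g.aut B = g.aut0 B := frc_eq _ _
  have h1 : ∀ a, a < g.N → e (lk (g.aut B) a) = el (fun i => e (g.by' (sl B) i)) g.n a := fun a ha => by
    rw [h0]
    exact (((hK.atr_spec (sl B) g.n 0 hK.N_pos).2 a (hK.hN ▸ ha)).2 A e he).trans (by rw [hK.e_zero he, one_mul])
  unfold Gp.autOK Gp.autOK0 at h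
  simp only [frc_eq, an_iff, allN_iff, beq_iff, ← h0] at h
  obtain ⟨h2, h3⟩ := h
  have hp : ∀ {k : ℕ}, k ≤ g.n → 2 ^ k ≤ g.N := fun h => hK.hN ▸ Nat.pow_le_pow_right (by norm_num) h
  have h4 : IsPc (fun i => e (g.by' (sl B) i)) 0 g.n 16 g.R := by
    refine ⟨fun i hi => absurd hi (Nat.not_lt_zero i), fun i hi => absurd hi (Nat.not_lt_zero i), fun k hk => ?_,
      fun k hk j hj => ?_⟩
    · have h5 := hK.rel_pw k hk
      rw [Nat.zero_add, ← lk_eq, ← el_of_lt _ h5 hk.le, ← h1 _ (h5.trans_le (hp hk.le)), ← (h3 k hk).1,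
        hK.e_q he (hK.by_lt (sl B) k)]
    · have h5 : lk g.R (tri k j) < 2 ^ k := by
        have h6 := hK.rel_cj k hk j hj
        have h7 := Nat.lt_mul_div_succ (lk g.R (tri k j)) (Nat.two_pow_pos j)
        rw [← Nat.shiftRight_eq_div_pow, h6] at h7
        exact h7.trans_le (Nat.pow_le_pow_right (n := 2) (by norm_num) (show j + 1 ≤ k from hj))
      have h6 := h5.trans_le (hp hk.le)
      rw [Nat.zero_add, Nat.zero_add, ← lk_eq, ← el_of_lt _ h5 hk.le, ← h1 _ h6,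
        ← he.mul _ (hK.by_lt (sl B) j) _ (hK.by_lt (sl B) k), ← he.mul _ (hK.by_lt (sl B) k) _ (hK.aut_lt B h6), (h3 k hk).2 j hj]
  have h5 : ∀ a, a < g.N → ∀ b, b < g.N → e (lk (g.aut B) (g.m a b)) = e (lk (g.aut B) a) * e (lk (g.aut B) b) :=
    fun a ha b hb => by
      have h6 := (h4.mul (by have := hK.n9; omega) (x := a) (y := b) (by rwa [Nat.zero_add, ← hK.hN])
        (by rwa [Nat.zero_add, ← hK.hN])).2
      rw [Nat.zero_add] at h6
      rw [h1 _ (hK.m_lt a ha b hb), h1 a ha, h1 b hb, h6, hK.m_eq a ha b hb]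
  have h6 : ∀ a, a < g.N → e (lk (g.aut B) a) = 1 → a = 0 := fun a ha h7 => by
    have h8 := congrArg (fun X => lk X a) h2
    by_contra h9
    simp only [lk_lor, hK.lk_nzm _ ha, lk_one, hK.lk_O ha, if_neg h9,
      if_pos ((hK.e_eq_one he (hK.aut_lt B ha)).1 h7)] at h8
    exact absurd h8 (by decide)
  have h7 : Function.Injective fun a : Fin g.N => e (lk (g.aut B) a) := fun a b hab => by
    have h8 := hK.i_lt b b.2
    have h9 := h5 b b.2 _ h8
    have h10 := h5 a a.2 _ h8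
    have h11 := h5 0 hK.N_pos 0 hK.N_pos
    rw [hK.m_zero] at h11
    rw [hK.m_i b b.2, left_eq_mul.1 h11] at h9
    rw [show e (lk (g.aut B) a) = e (lk (g.aut B) b) from hab, ← h9] at h10
    have h12 := he.mul a a.2 _ h8
    rw [h6 _ (hK.m_lt a a.2 _ h8) h10, hK.e_zero he, hK.e_i he b.2] at h12
    exact Fin.ext (he.inj a.2 b.2 (mul_inv_eq_one.1 h12.symm))
  obtain ⟨_, -⟩ := hK.pgroup he
  refine ⟨he.lt, h5, fun x => ?_, he.card⟩
  obtain ⟨a, ha⟩ := ((Nat.bijective_iff_injective_and_card _).2 ⟨h7, by rw [he.card, Nat.card_fin]⟩).2 x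
  exact ⟨a, a.2, ha⟩

end Gp.K

end Cfsg.Agent.FS.NB
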