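import Cfsg.Agent.FS.N.B.Main

/-!
# The checker of part B for S5288: lists of groups without systems
-/

set_option autoImplicit false

namespace Cfsg.Agent.FS.NB

/-- no group of the list carries a system -/
def Clf (n : ℕ) (l : List ℕ) : Prop := ∀ R ∈ l, ClF n R false []

variable {n R : ℕ} {l l' : List ℕ}

theorem Clf.nil : Clf n [] := fun _ h => absurd h List.not_mem_nil

theorem Clf.cons (h : ClF n R false []) (h2 : Clf n l) : Clf n (R :: l) := List.forall_mem_cons.2 ⟨h, h2⟩

theorem Clf.app (h : Clf n l) (h2 : Clf n l') : Clf n (l ++ l') := List.forall_mem_append.2 ⟨h, h2⟩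

end Cfsg.Agent.FS.NB
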