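import Cfsg.Agent.FS.N.B.Val

/-!
# The checker of part B: words and symmetries (statements helper80, proofs helper98; project FS)
-/

set_option autoImplicit false

namespace Cfsg.Agent.FS.NB

open Cfsg Cfsg.FusionSystem Cfsg.Agent.H752 Cfsg.Agent.FS.Th Cfsg.Agent.FS.Pc Cfsg.Agent.FS.Sw Cfsg.Agent.FS.B
open Asm (En)

theorem wd_id {A : Type} [Group A] {F : FusionSystem (⊤ : Subgroup A)} {M : Subgroup A → (A → A) → Prop}
    (hM : Closed F M) (P : Subgroup A) : M P fun x => x :=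
  hM.congr _ _ _ (mp_conj F le_top (Subgroup.mem_top 1)) (hM.conj P le_top 1 (Subgroup.mem_top 1)) fun x _ => by
    rw [one_mul, inv_one, mul_one]

theorem wd_hom {A B : Type} [Group A] [Group B] (θ : A →* B) {X : Set A} {K : Subgroup B} (h : ∀ x ∈ X, θ x ∈ K) :
    ∀ x ∈ Subgroup.closure X, θ x ∈ K := fun _ hx => (Subgroup.closure_le (K.comap θ)).2 h hx

theorem wd_conj {A : Type} [Group A] (s : A) {X : Set A} {K : Subgroup A} (h : ∀ x ∈ X, s * x * s⁻¹ ∈ K) :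
    ∀ x ∈ Subgroup.closure X, s * x * s⁻¹ ∈ K := wd_hom (MulAut.conj s).toMonoidHom h

theorem wd_gen {A : Type} [Group A] (e : ℕ → A) {s : PM} {p : ℕ × ℕ} (hp : p ∈ s.gs.ls) : e p.1 ∈ dom e s :=
  Subgroup.subset_closure ⟨p, hp, rfl⟩

theorem hm_s0 {A : Type} [Group A] {F : FusionSystem (⊤ : Subgroup A)} {M : Subgroup A → (A → A) → Prop}
    (hM : Closed F M) (e : ℕ → A) : HM F M e s0 :=
  ⟨fun x => x, mp_id F le_top, wd_id hM _, fun _ hp => absurd hp List.not_mem_nil⟩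

namespace Gp.K

variable {g : Gp} (hK : g.K) {A : Type} [Group A] {e : ℕ → A} (he : En g.m g.N e)
  {F : FusionSystem (⊤ : Subgroup A)} {M : Subgroup A → (A → A) → Prop}
include hK he

omit hK in
theorem wd_tabs (hM : Closed F M) {s : PM} (hs : WF g s) (h0 : HM F M e s) :
    (∃ D ψ, Mp F D ψ ∧ M D ψ ∧ Lk g e D ψ (lk s.tab)) ∧ ∃ D ψ, Mp F D ψ ∧ M D ψ ∧ Lk g e D ψ (lk s.itab) := by
  obtain ⟨f, h1, h2, h3⟩ := h0
  obtain ⟨h4, h5⟩ := lk_val hs (hs.val A e f _ he (hm_of_mp h1) h3) le_rfl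
  obtain ⟨R, χ, h6, h7, h8⟩ := word_inv hM h1 h2
  refine ⟨⟨_, f, h1, h2, h4⟩, R, χ, h6, h7, fun b hb => ?_⟩
  obtain ⟨a1, a2, a3, a4⟩ := h5 b hb
  exact ⟨a1, a2, a4 ▸ (h8 _ a3).1, by rw [← a4, (h8 _ a3).2]⟩

theorem wd_tb (hM : Closed F M) {L : List ℕ} (hL : HL g F M e L) {st : PM} (hs : WF g st) (h0 : HM F M e st) (j : ℕ) :
    ∃ D ψ, Mp F D ψ ∧ M D ψ ∧ Lk g e D ψ (lk (g.tb L st j)) := by
  have h1 := wd_tabs he hM hs h0
  have h2 : ∀ i, HM F M e (g.mkP (nth 0 L i)) := fun i => by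
    rcases nth_or 0 L i with h | h
    · exact hL _ h
    · rw [h, hK.mkP_zero]
      exact hm_s0 hM e
  have h3 := fun i => wd_tabs he hM (hK.wf_mkP (nth 0 L i)) (h2 i)
  unfold Gp.tb
  cases Nat.ble j 2
  · rw [iF_false, frc_eq]
    unfold Gp.tbL
    cases nz (Nat.land j 1)
    · exact (h3 _).2
    · exact (h3 _).1
  · rw [iF_true]
    cases nz j
    · refine ⟨⊤, fun x => x, mp_id F le_top, wd_id hM _, fun a ha => ?_⟩
      rw [iF_false] at ha ⊢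
      have h4 : a < g.N := lt_of_not_ge fun h => ha (lk_of_lt hK.id_lt h)
      rw [hK.id_eq a h4]
      exact ⟨h4, h4, Subgroup.mem_top _, rfl⟩
    · rw [iF_true]
      cases Nat.beq j 1
      · exact h1.2
      · exact h1.1

theorem wd_evk (hM : Closed F M) {L : List ℕ} (hL : HL g F M e L) {st : PM} (hs : WF g st) (h0 : HM F M e st) (w : ℕ)
    {X : Set ℕ} (k : ℕ) (hX : ∀ a ∈ X, a < g.N ∧ g.evk L st w k a ≠ 0) :
    ∃ ψ, Mp F (Subgroup.closure (e '' X)) ψ ∧ M (Subgroup.closure (e '' X)) ψ ∧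
      ∀ a ∈ X, g.evk L st w k a < g.N ∧ ψ (e a) = e (g.evk L st w k a) := by
  induction k with
  | zero => exact ⟨fun x => x, mp_id F le_top, wd_id hM _, fun a ha => ⟨(hX a ha).1, rfl⟩⟩
  | succ k ih =>
    obtain ⟨D, χ, h1, h2, h3⟩ := hK.wd_tb he hM hL hs h0 (lk w (Nat.succ (Nat.add k k)))
    have hs' := hK.by_lt w (Nat.add k k)
    have h4 : ∀ a, g.evk L st w (k + 1) a =
      lk (g.tb L st (lk w (Nat.succ (Nat.add k k)))) (g.cj0 (g.by' w (Nat.add k k)) (g.evk L st w k a)) := fun _ => rfl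
    obtain ⟨φ, h5, h6, h7⟩ := ih fun a ha => ⟨(hX a ha).1, fun h => by
      have h5 := (hX a ha).2
      rw [h4, h, (hK.cj0_eq_zero he hs' hK.N_pos).2 rfl] at h5
      obtain ⟨-, a2, -, a4⟩ := h3 0 h5
      rw [hK.e_zero he, h1.one] at a4
      exact h5 ((hK.e_eq_one he a2).1 a4.symm)⟩
    have h8 : ∀ a ∈ X, e (g.by' w (Nat.add k k)) * φ (e a) * (e (g.by' w (Nat.add k k)))⁻¹ =
        e (g.cj0 (g.by' w (Nat.add k k)) (g.evk L st w k a)) := fun a ha => by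
      rw [hK.e_cj0 he hs' (h7 a ha).1, (h7 a ha).2]
    obtain ⟨h9, h10⟩ := word_step hM rfl h5 h6 h1 h2 (s := e (g.by' w (Nat.add k k))) (by
      rintro _ ⟨a, ha, rfl⟩
      rw [h8 a ha]
      exact (h3 _ (hX a ha).2).2.2.1)
    refine ⟨_, h9, h10, fun a ha => ⟨(h3 _ (hX a ha).2).2.1, ?_⟩⟩
    show χ _ = _
    rw [h8 a ha]
    exact (h3 _ (hX a ha).2).2.2.2

/-- a word in the known maps, evaluated on the set `X` -/
theorem ev_spec (hM : Closed F M) {L : List ℕ} (hL : HL g F M e L) {st : PM} (hs : WF g st) (h0 : HM F M e st) (w : ℕ)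
    {X : Set ℕ} (hX : ∀ a ∈ X, a < g.N ∧ g.ev L st w a ≠ 0) :
    ∃ ψ, Mp F (Subgroup.closure (e '' X)) ψ ∧ M (Subgroup.closure (e '' X)) ψ ∧
      ∀ a ∈ X, g.ev L st w a < g.N ∧ ψ (e a) = e (g.ev L st w a) :=
  hK.wd_evk he hM hL hs h0 w (len2 w) hX

theorem wd_der1 (hM : Closed F M) {L : List ℕ} (hL : HL g F M e L) {st : PM} (hs : WF g st) (h0 : HM F M e st)
    {β : ℕ → ℕ} (hβ : ∀ a, a < g.N → β a < g.N) {s w : ℕ} (h : g.der1 L st β s w = true) :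
    HM F M (fun a => e (β a)) (g.mkP s) := by
  have h1 : ∀ p ∈ (g.mkP s).gs.ls, β p.2 ≠ 0 ∧ g.ev L st w (β p.1) = β p.2 := fun p hp => by
    have h1 := allP_iff.1 h p hp
    rwa [an_iff, nz_iff, beq_iff] at h1
  obtain ⟨ψ, h2, h3, h4⟩ := hK.ev_spec he hM hL hs h0 w (X := {a | ∃ p ∈ (g.mkP s).gs.ls, a = β p.1}) (by
    rintro _ ⟨p, hp, rfl⟩
    exact ⟨hβ _ ((hK.wf_mkP s).gs p hp).1, by rw [(h1 p hp).2]; exact (h1 p hp).1⟩)
  have h5 : Subgroup.closure (e '' {a | ∃ p ∈ (g.mkP s).gs.ls, a = β p.1}) = dom (fun a => e (β a)) (g.mkP s) := by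
    refine congrArg Subgroup.closure (Set.ext fun x => ⟨?_, ?_⟩)
    · rintro ⟨_, ⟨p, hp, rfl⟩, rfl⟩
      exact ⟨p, hp, rfl⟩
    · rintro ⟨p, hp, rfl⟩
      exact ⟨_, ⟨p, hp, rfl⟩, rfl⟩
  rw [h5] at h2 h3
  refine ⟨ψ, h2, h3, fun p hp => ⟨wd_gen (fun a => e (β a)) hp, ?_⟩⟩
  show ψ (e (β p.1)) = e (β p.2)
  rw [(h4 _ ⟨p, hp, rfl⟩).2, (h1 p hp).2]

theorem der_spec (hM : Closed F M) {L : List ℕ} (hL : HL g F M e L) {st : PM} (hs : WF g st) (h0 : HM F M e st)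
    {β : ℕ → ℕ} (hβ : ∀ a, a < g.N → β a < g.N) {Lt : List ℕ} {ws : ℕ} (h : g.der L st β Lt ws = true) :
    HL g F M (fun a => e (β a)) Lt := by
  induction Lt generalizing ws with
  | nil => exact fun _ hp => absurd hp List.not_mem_nil
  | cons s Lt ih =>
    obtain ⟨h1, h2⟩ := an_iff.1 h
    intro t ht
    rcases List.mem_cons.1 ht with rfl | ht
    · exact hK.wd_der1 he hM hL hs h0 hβ h1
    · exact ih h2 t ht

theorem hm_cj (hM : Closed F M) {s : PM} (hs : WF g s) (h0 : HM F M e s) {h : ℕ} (hh : h < g.N) :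
    HM F M (fun a => e (g.cj h a)) s := by
  obtain ⟨f, h1, h2, h3⟩ := h0
  obtain ⟨h4, h5⟩ := word_conj hM h1 h2 (e h) (P' := dom (fun a => e (g.cj h a)) s) fun y hy => by
    have h4 := wd_conj (e h)⁻¹ (K := dom e s) (by
      rintro _ ⟨p, hp, rfl⟩
      show (e h)⁻¹ * e (g.cj h p.1) * (e h)⁻¹⁻¹ ∈ _
      rw [hK.e_cj he hh (hs.gs p hp).1, show (e h)⁻¹ * (e h * e p.1 * (e h)⁻¹) * (e h)⁻¹⁻¹ = e p.1 by group]
      exact (h3 p hp).1) y hy
    rwa [inv_inv] at h4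
  refine ⟨_, h4, h5, fun p hp => ⟨wd_gen (fun a => e (g.cj h a)) hp, ?_⟩⟩
  show e h * f ((e h)⁻¹ * e (g.cj h p.1) * e h) * (e h)⁻¹ = e (g.cj h p.2)
  rw [hK.e_cj he hh (hs.gs p hp).1, hK.e_cj he hh (hs.gs p hp).2,
    show (e h)⁻¹ * (e h * e p.1 * (e h)⁻¹) * e h = e p.1 by group, (h3 p hp).2]

omit hK he in
/-- only the values below `N` matter -/
theorem dom_congr {e' : ℕ → A} (h : ∀ a, a < g.N → e' a = e a) {s : PM} (hs : WF g s) : dom e' s = dom e s :=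
  congrArg Subgroup.closure (Set.ext fun _ => exists_congr fun p => and_congr_right fun hp => by rw [h _ (hs.gs p hp).1])

omit hK he in
theorem hm_congr {e' : ℕ → A} (h : ∀ a, a < g.N → e' a = e a) {s : PM} (hs : WF g s) (h0 : HM F M e s) :
    HM F M e' s := by
  obtain ⟨f, h1, h2, h3⟩ := h0
  rw [← dom_congr h hs] at h1 h2 h3
  exact ⟨f, h1, h2, fun p hp => by rw [h _ (hs.gs p hp).1, h _ (hs.gs p hp).2]; exact h3 p hp⟩

omit hK in
theorem en_congr {e' : ℕ → A} (h : ∀ a, a < g.N → e' a = e a) : En g.m g.N e' :=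
  ⟨he.lt, fun a ha b hb => by rw [h _ (he.lt a ha b hb), h a ha, h b hb, he.mul a ha b hb], fun x => by
    obtain ⟨a, ha, h1⟩ := he.surj x
    exact ⟨a, ha, (h a ha).trans h1⟩, he.card⟩

omit he in
theorem gam_lt (x : Nx) (w : ℕ) {a : ℕ} (ha : a < g.N) : g.gam x w a < g.N := by
  refine hK.cj0_lt (hK.by_lt w 0) ?_
  cases nz (Nat.shiftRight w 32)
  · exact ha
  · exact hK.aut_lt _ ha

/-- the automorphism with the code `w` preserves the known maps -/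
theorem gam_spec (hM : Closed F M) {x : Nx} (hL : HL g F M e x.L) {w : ℕ} (h : g.good x (Nat.shiftRight w 32) = true) :
    En g.m g.N (fun a => e (g.gam x w a)) ∧ HL g F M (fun a => e (g.gam x w a)) x.L := by
  obtain ⟨β, h1, h2, h3, h4⟩ : ∃ β : ℕ → ℕ, (∀ a, a < g.N → β a < g.N) ∧ En g.m g.N (fun a => e (β a)) ∧
      HL g F M (fun a => e (β a)) x.L ∧ ∀ a, g.gam x w a = g.cj0 (g.by' w 0) (β a) := by
    unfold Gp.good at h
    unfold Gp.gam
    revert h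
    cases nz (Nat.shiftRight w 32)
    · exact fun _ => ⟨fun a => a, fun _ h => h, he, hL, fun _ => rfl⟩
    · intro h
      rw [iF_true, frc_eq] at h
      obtain ⟨h1, h2⟩ := an_iff.1 h
      exact ⟨_, fun _ => hK.aut_lt _, hK.aut_spec he h1,
        hK.der_spec he hM hL hK.ws_s0.toWF (hm_s0 hM e) (fun _ => hK.aut_lt _) h2, fun _ => rfl⟩
  obtain ⟨c, hc, h5⟩ := h2.surj (e (g.by' w 0))
  have h6 : ∀ a, a < g.N → e (g.gam x w a) = e (β (g.cj c a)) := fun a ha => by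
    rw [h4, hK.e_cj0 he (hK.by_lt w 0) (h1 a ha), ← h5]
    exact (hK.e_cj h2 hc ha).symm
  exact ⟨en_congr (hK.en_cj h2 hc) h6, fun s hs =>
    hm_congr h6 (hK.wf_mkP s) (hK.hm_cj h2 hM (hK.wf_mkP s) (h3 s hs) hc)⟩

/-- a subgroup which is mapped into itself -/
theorem dom_stab {γ : ℕ → ℕ} (hγ : ∀ a, a < g.N → γ a < g.N) (he' : En g.m g.N fun a => e (γ a)) {s : PM} (hs : WS g s)
    (h : (allP s.gs fun a _ => mem s (γ a)) = true) : dom (fun a => e (γ a)) s = dom e s := by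
  have := (hK.pgroup he).1
  obtain ⟨θ, hθ⟩ := he.exists_aut he'
  have h1 : dom (fun a => e (γ a)) s = (dom e s).map θ.toMonoidHom := by
    unfold dom
    rw [MonoidHom.map_closure]
    refine congrArg Subgroup.closure (Set.ext fun x => ⟨?_, ?_⟩)
    · rintro ⟨p, hp, rfl⟩
      exact ⟨_, ⟨p, hp, rfl⟩, hθ _ (hs.gs p hp).1⟩
    · rintro ⟨_, ⟨p, hp, rfl⟩, rfl⟩
      exact ⟨p, hp, hθ _ (hs.gs p hp).1⟩
  refine Subgroup.eq_of_le_of_card_ge ((Subgroup.closure_le _).2 ?_) ?_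
  · rintro _ ⟨p, hp, rfl⟩
    exact (hK.mem_ws he hs (hγ _ (hs.gs p hp).1)).1 (allP_iff.1 h p hp)
  · rw [h1, Subgroup.card_map_of_injective θ.injective]

/-- the image of a subgroup -/
theorem dom_img {γ : ℕ → ℕ} (hγ : ∀ a, a < g.N → γ a < g.N) (he' : En g.m g.N fun a => e (γ a)) {P P' : PM}
    (hP : WS g P) (hP' : WS g P') (h : (foP P.el fun a _ => pt 1 (γ a)) = g.msk P') :
    dom (fun a => e (γ a)) P = dom e P' := by
  classical
  have hv := val_ws he' hP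
  ext y
  obtain ⟨a, ha, rfl⟩ := he'.surj y
  have h1 := lk_foP_pt P.el γ (γ a)
  rw [h, hK.lk_msk P' (hγ a ha)] at h1
  refine Iff.trans ?_ (hK.mem_ws he hP' (hγ a ha))
  constructor
  · intro h2
    obtain ⟨b, hb⟩ := hv.cov a ha h2
    rw [if_pos (⟨_, hb, rfl⟩ : ∃ p ∈ P.el.ls, γ p.1 = γ a)] at h1
    by_contra h3
    rw [if_neg h3] at h1
    exact absurd h1 (by decide)
  · intro h2
    rw [if_pos h2] at h1
    obtain ⟨p, hp, h3⟩ : ∃ p ∈ P.el.ls, γ p.1 = γ a := by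
      by_contra h3
      rw [if_neg h3] at h1
      exact absurd h1 (by decide)
    have h4 : e (γ p.1) ∈ _ := (hv.el p hp).1
    rwa [h3] at h4

theorem okN_spec {P : PM} (hP : WS g P) {r : ℕ} (hr : r < g.N) (h : g.okN P r = true) : Nq (dom e P) (e r) := by
  unfold Gp.okN at h
  rw [frc_eq] at h
  obtain ⟨h1, h2⟩ := an_iff.1 h
  obtain ⟨h2, h3⟩ := an_iff.1 h2
  refine ⟨wd_conj _ ?_, fun h4 => nt_iff.1 h1 ((hK.mem_ws he hP hr).2 h4), ?_⟩
  · rintro _ ⟨p, hp, rfl⟩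
    rw [← hK.e_cj he hr (hP.gs p hp).1]
    exact (hK.mem_ws he hP (hK.cj_lt hr (hP.gs p hp).1)).1 (allP_iff.1 h3 p hp)
  · rw [← hK.e_q he hr]
    exact (hK.mem_ws he hP (hK.q_lt hr)).1 h2

theorem full_top {S : PM} (hS : WF g S) {φ : A → A} (hv : Val g e φ S) (h : g.full S = true) : dom e S = ⊤ := by
  refine top_le_iff.1 fun y _ => ?_
  obtain ⟨a, ha, rfl⟩ := he.surj y
  exact (hK.mem_val he hS hv ha).1 (hK.full_mem h ha)

/-- `W` is normal -/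
theorem nrm_spec {S W : PM} (hS : WS g S) (hW : WS g W) (hf : g.full S = true) (h : g.nrm S W = true) :
    ∀ s, ∀ x ∈ dom e W, s * x * s⁻¹ ∈ dom e W := by
  have := (hK.pgroup he).1
  have h1 : dom e S ≤ Subgroup.normalizer (dom e W : Set A) := (Subgroup.closure_le _).2 (by
    rintro _ ⟨p, hp, rfl⟩
    refine Subgroup.mem_normalizer_fintype (wd_conj _ ?_)
    rintro _ ⟨q, hq, rfl⟩
    rw [← hK.e_cj he (hS.gs p hp).1 (hW.gs q hq).1]
    exact (hK.mem_ws he hW (hK.cj_lt (hS.gs p hp).1 (hW.gs q hq).1)).1 (allP_iff.1 (allP_iff.1 h p hp) q hq))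
  rw [hK.full_top he hS.toWF (val_ws he hS) hf] at h1
  exact fun s x hx => (h1 (Subgroup.mem_top s) x).1 hx

theorem cms_spec {S W : PM} (hS : WS g S) (hW : WS g W) (hf : g.full S = true) (h : g.nrm S W = true)
    (hc : g.cms S W = true) : ∀ x y, x * y * x⁻¹ * y⁻¹ ∈ dom e W := by
  have hn : (dom e W).Normal := ⟨fun x hx s => hK.nrm_spec he hS hW hf h s x hx⟩
  have ht := hK.full_top he hS.toWF (val_ws he hS) hf
  let π := QuotientGroup.mk' (dom e W)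
  have h1 : ∀ x y, x * y * x⁻¹ * y⁻¹ ∈ dom e W ↔ π y ∈ Subgroup.centralizer {π x} := fun x y => by
    rw [Subgroup.mem_centralizer_singleton_iff, ← QuotientGroup.eq_one_iff]
    show π _ = 1 ↔ _
    rw [map_mul, map_mul, map_mul, map_inv, map_inv, mul_inv_eq_one, mul_inv_eq_iff_eq_mul, eq_comm]
  have h2 : ∀ x y, π y ∈ Subgroup.centralizer {π x} → π x ∈ Subgroup.centralizer {π y} := fun x y => by
    rw [Subgroup.mem_centralizer_singleton_iff, Subgroup.mem_centralizer_singleton_iff]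
    exact Eq.symm
  intro x y
  refine (h1 x y).2 (wd_hom π (X := gS e S.gs) ?_ y (by rw [← dom, ht]; exact Subgroup.mem_top y))
  rintro _ ⟨q, hq, rfl⟩
  refine h2 _ _ (wd_hom π (X := gS e S.gs) ?_ x (by rw [← dom, ht]; exact Subgroup.mem_top x))
  rintro _ ⟨p, hp, rfl⟩
  refine (h1 _ _).1 ?_
  rw [← hK.e_cm he (hS.gs q hq).1 (hS.gs p hp).1]
  exact (hK.mem_ws he hW (hK.cm_lt (hS.gs q hq).1 (hS.gs p hp).1)).1 (allP_iff.1 (allP_iff.1 hc q hq) p hp)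

theorem nrmz_spec {T K : PM} (hT : WS g T) (hK' : WS g K) (h : g.nrmz T K = true) :
    ∀ s, (∀ x ∈ gS e T.gs, s * x * s⁻¹ ∈ dom e T) → s ∈ dom e K := by
  intro s hs
  obtain ⟨a, ha, rfl⟩ := he.surj s
  rcases orr_iff.1 (allN_iff.1 h a ha) with h1 | h1
  · exact (hK.mem_ws he hK' ha).1 h1
  · refine absurd (allP_iff.2 fun p hp => ?_) (nt_iff.1 h1)
    refine (hK.mem_ws he hT (hK.cj_lt ha (hT.gs p hp).1)).2 ?_
    rw [hK.e_cj he ha (hT.gs p hp).1]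
    exact hs _ ⟨p, hp, rfl⟩

/-- the mask of the coset `t P` -/
theorem lk_cos {P : PM} (hP : WS g P) {t a : ℕ} (ht : t < g.N) (ha : a < g.N) :
    lk (g.cos P t) a ≠ 0 ↔ (e t)⁻¹ * e a ∈ dom e P := by
  classical
  have hv := val_ws he hP
  unfold Gp.cos
  rw [lk_foP_pt P.el (g.m t) a]
  constructor
  · intro h
    obtain ⟨p, hp, rfl⟩ : ∃ p ∈ P.el.ls, g.m t p.1 = a := by
      by_contra h1
      exact h (if_neg h1)
    rw [he.mul t ht _ (hP.el p hp).1, inv_mul_cancel_left]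
    exact (hv.el p hp).1
  · intro h
    obtain ⟨b, hb, h1⟩ := he.surj ((e t)⁻¹ * e a)
    obtain ⟨c, hc⟩ := hv.cov b hb (h1 ▸ h)
    rw [if_pos ⟨_, hc, he.inj (he.lt t ht b hb) ha (by rw [he.mul t ht b hb, h1, mul_inv_cancel_left])⟩]
    exact one_ne_zero

theorem dom_of_tab {P P' : PM} (hP : WS g P) (hP' : WS g P') (h : P.tab = P'.tab) : dom e P = dom e P' := by
  ext y
  obtain ⟨a, ha, rfl⟩ := he.surj y
  rw [← hK.mem_ws he hP ha, ← hK.mem_ws he hP' ha, mem_iff', mem_iff', h]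

end Gp.K

end Cfsg.Agent.FS.NB
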