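import Cfsg.Agent.FS.N.B.Inv
import Cfsg.Agent.FS.N.B.Wd

/-!
# The checker of part B for S5288: closed families of subgroups (nodes of the kind `5`; helper49)
-/

set_option autoImplicit false

namespace Cfsg.Agent.FS.NB

open Cfsg Cfsg.FusionSystem Cfsg.Agent.H752 Cfsg.Agent.FS.Th Cfsg.Agent.FS.Pc Cfsg.Agent.FS.Sw Cfsg.Agent.FS.B
open Asm (En)

variable {A : Type} [Group A]

/-- `Y` is the image of `X` -/
def Im (f : A → A) (X Y : Subgroup A) : Prop := ∀ y, y ∈ Y ↔ ∃ x ∈ X, f x = y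

/-- the map keeps the family `C` and its complement -/
def clsP (C : Subgroup A → Prop) (P : Subgroup A) (f : A → A) : Prop := ∀ X Y, X ≤ P → Im f X Y → (C X ↔ C Y)

variable {C : Subgroup A → Prop} {P Q R X Y Z : Subgroup A} {f k : A → A}

theorem Im.eq (h : Im f X Y) (h' : Im f X Z) : Y = Z := Subgroup.ext fun y => (h y).trans (h' y).symm

theorem im_map (θ : A →* A) (X : Subgroup A) : Im θ X (X.map θ) := fun _ => Subgroup.mem_map

theorem clsP.congr (h : clsP C P f) (h1 : ∀ x ∈ P, k x = f x) : clsP C P k := fun X Y hX h2 =>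
  h X Y hX fun y => (h2 y).trans (exists_congr fun x => and_congr_right fun hx => by rw [h1 x (hX hx)])

theorem clsP.comp (hf : ∀ X, X ≤ P → ∃ Z, Im f X Z) (h1 : clsP C P f) (h2 : clsP C Q k) (h : ∀ x ∈ P, f x ∈ Q) :
    clsP C P fun x => k (f x) := fun X Y hX h3 => by
  obtain ⟨Z, hZ⟩ := hf X hX
  refine (h1 X Z hX hZ).trans (h2 Z Y (fun z hz => ?_) fun y => (h3 y).trans ⟨?_, ?_⟩)
  · obtain ⟨x, hx, rfl⟩ := (hZ z).1 hz
    exact h x (hX hx)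
  · rintro ⟨x, hx, rfl⟩
    exact ⟨_, (hZ _).2 ⟨x, hx, rfl⟩, rfl⟩
  · rintro ⟨z, hz, rfl⟩
    obtain ⟨x, hx, rfl⟩ := (hZ z).1 hz
    exact ⟨x, hx, rfl⟩

theorem clsP.inv (h1 : clsP C P f) (h : ∀ y ∈ R, ∃ x ∈ P, f x = y ∧ k y = x) : clsP C R k := fun X Y hX h2 => by
  refine (h1 Y X (fun y hy => ?_) fun x => ⟨fun hx => ?_, ?_⟩).symm
  · obtain ⟨x, hx, rfl⟩ := (h2 y).1 hy
    obtain ⟨u, hu, -, h3⟩ := h x (hX hx)
    exact h3 ▸ hu
  · obtain ⟨u, -, h3, h4⟩ := h x (hX hx)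
    exact ⟨u, (h2 u).2 ⟨x, hx, h4⟩, h3⟩
  · rintro ⟨y, hy, rfl⟩
    obtain ⟨x, hx, rfl⟩ := (h2 y).1 hy
    obtain ⟨u, -, h3, h4⟩ := h x (hX hx)
    rwa [h4, h3]

theorem closed_clsP (F : FusionSystem (⊤ : Subgroup A)) (h : ∀ s : A, clsP C ⊤ fun x => s * x * s⁻¹) :
    Closed F (clsP C) :=
  ⟨fun _ _ _ _ h1 h2 => h1.congr h2,
    fun _ _ _ _ h1 _ h2 h3 h4 => clsP.comp (fun _ hX => (h1.exists_image hX).imp fun _ h5 => h5.1) h2 h3 h4,
    fun _ _ _ _ _ h1 _ h2 _ => h1.inv h2, fun _ _ s _ X Y _ h1 => h s X Y le_top h1⟩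

theorem cls_conj {S : Set A} (hS : Subgroup.closure S = ⊤) (h : ∀ s ∈ S, clsP C ⊤ fun x => s * x * s⁻¹) (s : A) :
    clsP C ⊤ fun x => s * x * s⁻¹ := by
  have hs : s ∈ Subgroup.closure S := hS ▸ Subgroup.mem_top s
  induction hs using Subgroup.closure_induction with
  | mem s hs => exact h s hs
  | one => exact fun X Y _ h1 => by rw [h1.eq (Z := X) fun y => by simp]
  | mul s t _ _ h1 h2 =>
    exact (clsP.comp (fun X _ => ⟨_, im_map (MulAut.conj t).toMonoidHom X⟩) h2 h1 fun _ _ => Subgroup.mem_top _).congr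
      fun x _ => by show _ = s * (t * x * t⁻¹) * s⁻¹; group
  | inv s _ h1 => exact h1.inv fun y _ => ⟨s⁻¹ * y * s⁻¹⁻¹, Subgroup.mem_top _, by group, rfl⟩

theorem im_of_le [Finite A] (hf : Set.InjOn f P) (hX : X ≤ P) (h : ∀ x ∈ X, f x ∈ Y) (hc : Nat.card X = Nat.card Y) :
    Im f X Y := fun y => ⟨fun hy => by
  obtain ⟨x, hx⟩ := ((Nat.bijective_iff_injective_and_card fun x : X => (⟨f x, h x x.2⟩ : Y)).2
    ⟨fun a b hab => Subtype.ext (hf (hX a.2) (hX b.2) (congrArg Subtype.val hab)), hc⟩).2 ⟨y, hy⟩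
  exact ⟨x, x.2, congrArg Subtype.val hx⟩, fun ⟨x, hx, h1⟩ => h1 ▸ h x hx⟩

/-- an automorphism which maps members into members -/
theorem cls_of [Finite A] (hc : ∀ X Y, C X → C Y → Nat.card X = Nat.card Y) (hf : Set.InjOn f Q) (hm : ∀ x ∈ Q, f x ∈ Q)
    (h : ∀ X, C X → X ≤ Q → ∃ Y, C Y ∧ ∀ x ∈ X, f x ∈ Y) : clsP C Q f := by
  have h0 : ∀ X, C X → X ≤ Q → ∃ Y, C Y ∧ Im f X Y := fun X h1 h2 =>
    (h X h1 h2).imp fun Y h3 => ⟨h3.1, im_of_le hf h2 h3.2 (hc X Y h1 h3.1)⟩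
  have h1 : ∀ {X Y : Subgroup A}, Im f X Y → f '' (X : Set A) = Y := fun h1 => Set.ext fun y => (h1 y).symm
  have h2 : ∀ {X Y : Subgroup A}, X ≤ Q → Im f X Y → Y ≤ Q := fun h2 h3 y hy => by
    obtain ⟨x, hx, rfl⟩ := (h3 y).1 hy
    exact hm x (h2 hx)
  refine fun X Y hX hXY => ⟨fun h3 => ?_, fun h3 => ?_⟩
  · obtain ⟨Z, h4, h5⟩ := h0 X h3 hX
    rwa [hXY.eq h5]
  · have h4 : Set.MapsTo (Set.image f) {s : Set A | ∃ X : Subgroup A, C X ∧ X ≤ Q ∧ (X : Set A) = s}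
        {s : Set A | ∃ X : Subgroup A, C X ∧ X ≤ Q ∧ (X : Set A) = s} := by
      rintro _ ⟨U, h4, h5, rfl⟩
      obtain ⟨V, h6, h7⟩ := h0 U h4 h5
      exact ⟨V, h6, h2 h5 h7, (h1 h7).symm⟩
    obtain ⟨_, ⟨U, h5, h6, rfl⟩, h7⟩ := (((Set.toFinite _).injOn_iff_bijOn_of_mapsTo h4).1 (by
      rintro _ ⟨U, -, h5, rfl⟩ _ ⟨V, -, h6, rfl⟩ h7
      exact (hf.image_eq_image_iff h5 h6).1 h7)).surjOn ⟨Y, h3, h2 hX hXY, rfl⟩
    rwa [SetLike.coe_injective ((hf.image_eq_image_iff hX h6).1 ((h1 hXY).trans h7.symm))]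

/-- all maps keep the family: a member with the largest normalizer is fully normalized -/
theorem fn_of_cls {F : FusionSystem (⊤ : Subgroup A)} (h : ∀ P f, Mp F P f → clsP C P f) {T : Subgroup A} (hT : C T)
    (hN : ∀ X, C X → Nat.card (normalizerIn ⊤ X) ≤ Nat.card (normalizerIn ⊤ T)) : F.IsFullyNormalized T := by
  refine ⟨le_top, ?_⟩
  rintro _ ⟨φ, hφ, rfl⟩
  refine hN _ ((h T _ (mp_ex hφ) T _ le_rfl fun y => ⟨?_, ?_⟩).1 hT)
  · rintro ⟨x, rfl⟩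
    exact ⟨x, x.2, ex_coe φ x⟩
  · rintro ⟨x, hx, rfl⟩
    exact ⟨⟨x, hx⟩, (ex_apply φ hx).symm⟩

/-- The extension axiom: `f` maps `U` onto the fully normalized subgroup `T`; `Y` generates `R`. -/
theorem ext_gens' [Finite A] (hA : IsPGroup 2 A) {F : FusionSystem (⊤ : Subgroup A)} (hF : F.IsSaturated 2)
    {X Y : Set A} {U T R : Subgroup A} (hU : U = Subgroup.closure X) (hT : F.IsFullyNormalized T) (hg : Mp F U f)
    (h1 : ∀ y, y ∈ T ↔ ∃ x ∈ U, f x = y) (hR : R = Subgroup.closure Y) (hUR : U ≤ R)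
    (h2 : ∀ s ∈ Y, (∀ x ∈ X, s * x * s⁻¹ ∈ U) ∧ ∃ s', ∀ x ∈ X, s' * f x = f (s * x * s⁻¹) * s') :
    ∃ k, Mp F R k ∧ ∀ x ∈ U, k x = f x := by
  have : Fact (Nat.Prime 2) := ⟨Nat.prime_two⟩
  refine H754.mp_extend (H802.isReceptive_of_isFullyNormalized (hA.to_subgroup ⊤) hF hT) hg h1 hUR fun s hs => ?_
  obtain ⟨h3, s', h4⟩ := conj_gens hU hg h2 s (hR ▸ hs)
  exact ⟨Subgroup.mem_top s, Subgroup.mem_normalizer_fintype h3, s', Subgroup.mem_top _, h4⟩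

/-! ### the checks -/

theorem exL_iff {α : Type} {L : List α} {p : α → Bool} : exL L p = true ↔ ∃ a ∈ L, p a = true := by
  induction L with
  | nil => exact ⟨fun h => absurd h Bool.false_ne_true, fun ⟨_, h, _⟩ => absurd h List.not_mem_nil⟩
  | cons a L ih => rw [show exL (a :: L) p = orr (p a) (exL L p) from rfl, orr_iff, ih]; simp

theorem inC_iff {cl : List PM} {X : PM} {p : PM → ℕ → Bool} :
    inC cl X p = true ↔ ∃ Y ∈ cl, ∀ q ∈ X.gs.ls, p Y q.1 = true := by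
  unfold inC
  simp only [exL_iff, allP_iff]

theorem cnN_eq (p : ℕ → Bool) : ∀ n, cnN n p = ((Finset.range n).filter fun i => p i = true).card := by
  intro n
  induction n with
  | zero => rfl
  | succ n ih =>
    show iF (p n) (Nat.succ (cnN n p)) (cnN n p) = _
    rw [Finset.range_add_one, Finset.filter_insert, ih]
    by_cases h : p n = true
    · rw [iF_pos h, if_pos h, Finset.card_insert_of_notMem (by simp)]
    · rw [iF_neg h, if_neg h]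

variable {g : Gp} {e : ℕ → A}

theorem card_sub (he : En g.m g.N e) {p : ℕ → Bool} (h : ∀ a, a < g.N → (p a = true ↔ e a ∈ X)) :
    ((Finset.range g.N).filter fun a => p a = true).card = Nat.card X := by
  rw [← Nat.card_eq_finsetCard]
  have h1 : ∀ i : ((Finset.range g.N).filter fun a => p a = true), i.1 < g.N := fun i =>
    Finset.mem_range.1 (Finset.mem_filter.1 i.2).1
  refine Nat.card_eq_of_bijective (fun i => (⟨e i.1, (h _ (h1 i)).1 (Finset.mem_filter.1 i.2).2⟩ : X))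
    ⟨fun i j hij => Subtype.ext (he.inj (h1 i) (h1 j) (congrArg Subtype.val hij)), fun x => ?_⟩
  obtain ⟨a, ha, h2⟩ := he.surj x
  exact ⟨⟨a, Finset.mem_filter.2 ⟨Finset.mem_range.2 ha, (h a ha).2 (h2 ▸ x.2)⟩⟩, Subtype.ext h2⟩

theorem msk_card (hK : g.K) (he : En g.m g.N e) {X : PM} (hX : WS g X) : g.msk X % 65535 = Nat.card (dom e X) := by
  have h1 := card_sub he fun a ha => hK.mem_ws he hX ha
  rw [InvAux.mod_sum _ _ (hK.msk_lt X), Finset.sum_congr rfl fun s hs => hK.lk_msk X (Finset.mem_range.1 hs),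
    ← Finset.card_filter, ← h1]
  refine Nat.mod_eq_of_lt ((Finset.card_filter_le _ _).trans_lt ?_)
  rw [Finset.card_range]
  exact hK.N_le9.trans_lt (by norm_num)

theorem nN_card (hK : g.K) (he : En g.m g.N e) {X : PM} (hX : WS g X) :
    g.nN X = Nat.card (normalizerIn ⊤ (dom e X)) := by
  have := (hK.pgroup he).1
  unfold Gp.nN
  rw [cnN_eq]
  refine card_sub he fun s hs => ?_
  rw [allP_iff]
  refine ⟨fun h => ⟨Subgroup.mem_top _, Subgroup.mem_normalizer_fintype (wd_conj _ ?_)⟩, fun h p hp => ?_⟩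
  · rintro _ ⟨p, hp, rfl⟩
    rw [← hK.e_cj he hs (hX.gs p hp).1]
    exact (hK.mem_ws he hX (hK.cj_lt hs (hX.gs p hp).1)).1 (h p hp)
  · rw [hK.mem_ws he hX (hK.cj_lt hs (hX.gs p hp).1), hK.e_cj he hs (hX.gs p hp).1]
    exact (h.2 _).1 (wd_gen e hp)

/-- the family of the list -/
def CL (e : ℕ → A) (cl : List PM) (C : Subgroup A → Prop) : Prop := ∀ Y, C Y ↔ ∃ X ∈ cl, dom e X = Y

/-- another enumeration gives the same family -/
theorem CL.tr {cl : List PM} (h : CL e cl C) (hw : ∀ X ∈ cl, WS g X) {e' : ℕ → A} {θ : MulAut A}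
    (hθ : ∀ a, a < g.N → θ (e a) = e' a) (h1 : clsP C ⊤ θ) : CL e' cl C := by
  have h2 : ∀ X ∈ cl, Im θ (dom e X) (dom e' X) := fun X hX => by
    have h2 : dom e' X = (dom e X).map θ.toMonoidHom := by
      unfold dom
      rw [MonoidHom.map_closure]
      refine congrArg Subgroup.closure (Set.ext fun x => ⟨?_, ?_⟩)
      · rintro ⟨p, hp, rfl⟩
        exact ⟨_, ⟨p, hp, rfl⟩, hθ _ ((hw X hX).gs p hp).1⟩
      · rintro ⟨_, ⟨p, hp, rfl⟩, rfl⟩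
        exact ⟨p, hp, hθ _ ((hw X hX).gs p hp).1⟩
    rw [h2]
    exact im_map θ.toMonoidHom _
  refine fun Y => ⟨fun h3 => ?_, ?_⟩
  · have h4 : Im θ (Y.comap θ.toMonoidHom) Y := fun y => ⟨fun hy => ⟨θ.symm y, by
      show θ (θ.symm y) ∈ Y
      rwa [θ.apply_symm_apply], θ.apply_symm_apply y⟩, fun ⟨_, hx, h4⟩ => h4 ▸ hx⟩
    obtain ⟨X, hX, h5⟩ := (h _).1 ((h1 _ _ le_top h4).2 h3)
    exact ⟨X, hX, (h2 X hX).eq (h5 ▸ h4)⟩
  · rintro ⟨X, hX, rfl⟩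
    exact (h1 _ _ le_top (h2 X hX)).1 ((h _).2 ⟨X, hX, rfl⟩)

/-- an automorphism which is checked on the generators -/
theorem CL.aut (hK : g.K) (he : En g.m g.N e) {cl : List PM} (h : CL e cl C) (hw : ∀ X ∈ cl, WS g X)
    (hc : ∀ X Y, C X → C Y → Nat.card X = Nat.card Y) {γ : ℕ → ℕ} (hγ : ∀ a, a < g.N → γ a < g.N) (θ : MulAut A)
    (hθ : ∀ a, a < g.N → θ (e a) = e (γ a)) (h1 : ∀ X ∈ cl, (inC cl X fun Y a => mem Y (γ a)) = true) :
    clsP C ⊤ θ := by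
  have := (hK.pgroup he).1
  refine cls_of hc θ.injective.injOn (fun _ _ => Subgroup.mem_top _) fun X hX _ => ?_
  obtain ⟨X, h2, rfl⟩ := (h X).1 hX
  obtain ⟨Y, h3, h4⟩ := inC_iff.1 (h1 X h2)
  refine ⟨_, (h _).2 ⟨Y, h3, rfl⟩, wd_hom θ.toMonoidHom ?_⟩
  rintro _ ⟨p, hp, rfl⟩
  have h5 := ((hw X h2).gs p hp).1
  show θ (e p.1) ∈ _
  rw [hθ _ h5]
  exact (hK.mem_ws he (hw Y h3) (hγ _ h5)).1 (h4 p hp)

/-- a known map -/
theorem CL.map (hK : g.K) (he : En g.m g.N e) {cl : List PM} (h : CL e cl C) (hw : ∀ X ∈ cl, WS g X)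
    (hc : ∀ X Y, C X → C Y → Nat.card X = Nat.card Y) {F : FusionSystem (⊤ : Subgroup A)} {s : PM} (hs : WF g s)
    (hf : Mp F (dom e s) f) (hg : Gens e f (dom e s) s.gs)
    (h1 : ∀ X ∈ cl, clM cl X s.tab = true ∧ clM cl X s.itab = true) : clsP C (dom e s) f := by
  have := (hK.pgroup he).1
  have hv := hs.val A e f _ he (hm_of_mp hf) hg
  refine fun X Y hX hXY => ⟨fun h2 => ?_, fun h2 => ?_⟩
  · obtain ⟨X, h3, rfl⟩ := (h X).1 h2
    have h4 : ∀ p ∈ X.gs.ls, p.1 < g.N ∧ e p.1 ∈ dom e s := fun p hp => ⟨((hw X h3).gs p hp).1, hX (wd_gen e hp)⟩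
    obtain ⟨Z, h5, h6⟩ := inC_iff.1 ((orr_iff.1 (h1 X h3).1).resolve_left fun h5 => nt_iff.1 h5
      (allP_iff.2 fun p hp => (hK.mem_val he hs hv (h4 p hp).1).2 (h4 p hp).2))
    have h7 := (h _).2 ⟨Z, h5, rfl⟩
    rwa [hXY.eq (im_of_le (fun _ hx _ hy => hf.inj hx hy) hX (mem_of_gens (X := gS e X.gs)
      (fun _ ⟨p, hp, h8⟩ => h8 ▸ (h4 p hp).2) hf ?_) (hc _ _ h2 h7))]
    rintro _ ⟨p, hp, rfl⟩
    obtain ⟨h8, h9⟩ := hK.tab_val he hs hv (h4 p hp).1 (h4 p hp).2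
    exact h9 ▸ (hK.mem_ws he (hw Z h5) h8).1 (h6 p hp)
  · obtain ⟨Y, h3, rfl⟩ := (h Y).1 h2
    obtain ⟨k, h4, h5, h6⟩ := hf.exists_symm hX hXY
    have h7 : ∀ p ∈ Y.gs.ls, lk s.itab p.1 < g.N ∧ k (e p.1) = e (lk s.itab p.1) := fun p hp => by
      obtain ⟨h7, h8⟩ := h6 _ (wd_gen e hp)
      obtain ⟨a, ha, h9⟩ := he.surj (k (e p.1))
      obtain ⟨b, hb⟩ := hv.cov a ha (h9 ▸ hX h7)
      obtain ⟨-, h10, -, h11⟩ := hv.el _ hb
      have h12 : b = p.1 := he.inj (hs.el _ hb).2 ((hw Y h3).gs p hp).1 (h10.symm.trans (h9 ▸ h8))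
      rw [← h12, show lk s.itab b = a from h11, h12]
      exact ⟨ha, h9.symm⟩
    obtain ⟨Z, h8, h9⟩ := inC_iff.1 ((orr_iff.1 (h1 Y h3).2).resolve_left fun h8 => nt_iff.1 h8
      (allP_iff.2 fun p hp => orr_iff.2 (or_iff_not_imp_left.2 fun h9 => beq_iff.2 (by
        have h10 := (h7 p hp).2
        rw [not_not.1 fun h11 => h9 (nz_iff.2 h11), hK.e_zero he, ← h4.one] at h10
        exact (hK.e_eq_one he ((hw Y h3).gs p hp).1).1 (h4.inj (wd_gen e hp) (Subgroup.one_mem _) h10)))))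
    have h10 := (h _).2 ⟨Z, h8, rfl⟩
    have h11 : Im k (dom e Y) X := fun x => ⟨fun hx => ⟨_, (hXY _).2 ⟨x, hx, rfl⟩, h5 x hx⟩,
      fun ⟨y, hy, h11⟩ => h11 ▸ (h6 y hy).1⟩
    rwa [h11.eq (im_of_le (fun _ hx _ hy => h4.inj hx hy) le_rfl (mem_of_gens (X := gS e Y.gs)
      (fun _ hx => Subgroup.subset_closure hx) h4 ?_) (hc _ _ h2 h10))]
    rintro _ ⟨p, hp, rfl⟩
    exact (h7 p hp).2 ▸ (hK.mem_ws he (hw Z h8) (h7 p hp).1).1 (h9 p hp)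

/-- the check of the family -/
theorem clsOK_spec (hK : g.K) (he : En g.m g.N e) {x : Nx} (h : CL e x.cl C) (hw : ∀ X ∈ x.cl, WS g X) {S T : PM}
    (hS : WS g S) (hf : g.full S = true) (hT : WS g T) (hl : g.clsOK S x T = true) :
    C (dom e T) ∧ (∀ X Y, C X → C Y → Nat.card X = Nat.card Y) ∧ (∀ s : A, clsP C ⊤ fun x => s * x * s⁻¹) ∧
      (∀ X, C X → Nat.card (normalizerIn ⊤ X) ≤ Nat.card (normalizerIn ⊤ (dom e T))) ∧
      ∀ s ∈ x.L, ∀ X ∈ x.cl, clM x.cl X (g.mkP s).tab = true ∧ clM x.cl X (g.mkP s).itab = true := by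
  unfold Gp.clsOK at hl
  simp only [an_iff, frc_eq, exL_iff, allL_iff, allP_iff, beq_iff, ble_iff] at hl
  obtain ⟨⟨Y, h1, h2⟩, hl⟩ := hl
  have hc : ∀ X Y, C X → C Y → Nat.card X = Nat.card Y := fun X Y h3 h4 => by
    obtain ⟨X, h5, rfl⟩ := (h X).1 h3
    obtain ⟨Y, h6, rfl⟩ := (h Y).1 h4
    rw [← msk_card hK he (hw X h5), ← msk_card hK he (hw Y h6)]
    exact (hl X h5).1.trans (hl Y h6).1.symm
  refine ⟨(h _).2 ⟨Y, h1, hK.dom_of_tab he (hw Y h1) hT h2⟩, hc,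
    cls_conj (hK.full_top he hS.toWF (Gp.K.val_ws he hS) hf) ?_, fun X h3 => ?_, fun s hs X hX => (hl X hX).2.2.2 s hs⟩
  · rintro _ ⟨p, hp, rfl⟩
    have h3 := (hS.gs p hp).1
    exact h.aut hK he hw hc (fun _ ha => hK.cj_lt h3 ha) (MulAut.conj (e p.1)) (fun _ ha => (hK.e_cj he h3 ha).symm)
      fun X hX => (hl X hX).2.2.1 p hp
  · obtain ⟨X, h4, rfl⟩ := (h X).1 h3
    rw [← nN_card hK he (hw X h4), ← nN_card hK he hT]
    exact (hl X h4).2.1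

end Cfsg.Agent.FS.NB
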