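import Cfsg.Agent.FS.N.B.Main
import Cfsg.Agent.FS.N.B.Tv

/-!
# The checker of part B for S5288 (port of FS/B to cells of 16 bits): groups with a large centre and transvections
-/

set_option autoImplicit false

namespace Cfsg.Agent.FS.NB

open Cfsg Cfsg.FusionSystem Cfsg.Agent.H752 Cfsg.Agent.FS.Th Cfsg.Agent.FS.Pc Cfsg.Agent.FS.Sw Cfsg.Agent.FS.B
open Asm (En)

noncomputable def cntN (n : ℕ) (p : ℕ → Bool) : ℕ := Nat.rec 0 (fun i r => iF (p i) (Nat.succ r) r) n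

theorem cntN_eq (p : ℕ → Bool) : ∀ n, cntN n p = ((Finset.range n).filter fun i => p i = true).card := by
  intro n
  induction n with
  | zero => rfl
  | succ n ih =>
    show iF (p n) (Nat.succ (cntN n p)) (cntN n p) = _
    rw [Finset.range_add_one, Finset.filter_insert, ih]
    by_cases h : p n = true
    · rw [iF_pos h, if_pos h, Finset.card_insert_of_notMem (by simp)]
    · rw [iF_neg h, if_neg h]

namespace Gp

variable (g : Gp)

noncomputable def tvP (P : PM) (t c : ℕ) : Bool :=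
  an (allN g.N fun s => orr (mem P s) (orr (mem P (g.m (g.i t) s)) (nt (allP P.gs fun a _ => mem P (g.cj s a)))))
    (allP P.el fun z _ => orr (nz (g.q z)) (orr (nt (allP P.gs fun a _ => Nat.beq (g.m a z) (g.m z a)))
      (orr (Nat.beq (g.cj t z) z) (Nat.beq (g.cj t z) (g.m z c)))))

/-- the second field of a candidate is the commutator -/
noncomputable def tv (AL : List Ds) (V : PM) : Bool :=
  an (allL AL fun d => g.tvP (g.mkS d.P) (g.by' d.t0 0) (g.by' d.pr 0))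
    (an (allP V.el fun v _ => an (Nat.beq (g.q v) 0) (Nat.beq (g.r v) (g.c v)))
      (Nat.blt (Nat.shiftLeft 1 (AL.filter fun d => nz (g.by' d.pr 0)).length) (cntN g.N (mem V))))

end Gp

variable {A : Type} [Group A] {g : Gp} {e : ℕ → A}

theorem tvP_spec (hK : g.K) (he : En g.m g.N e) {P : PM} (hP : WS g P) {t c : ℕ} (ht : t < g.N) (hc : c < g.N)
    (h : g.tvP P t c = true) : TvP (dom e P) (e t) (e c) := by
  unfold Gp.tvP at h
  simp only [an_iff, orr_iff, nt_iff, nz_iff, beq_iff, allP_iff, allN_iff] at h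
  refine ⟨fun s hs => ?_, fun z hz => ?_⟩
  · obtain ⟨j, hj, rfl⟩ := he.surj s
    rcases h.1 j hj with h1 | h1 | h1
    · exact Or.inl ((hK.mem_ws he hP hj).1 h1)
    · rw [← hK.e_i he ht, ← he.mul _ (hK.i_lt _ ht) _ hj]
      exact Or.inr ((hK.mem_ws he hP (he.lt _ (hK.i_lt _ ht) _ hj)).1 h1)
    · refine absurd (fun p hp => ?_) h1
      rw [hK.mem_ws he hP (hK.cj_lt hj (hP.gs p hp).1), hK.e_cj he hj (hP.gs p hp).1]
      exact hs _ (gS_mem hp)
  · obtain ⟨j, hj, rfl⟩ := he.surj z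
    obtain ⟨b, hb⟩ := (Gp.K.val_ws he hP).cov j hj hz.1
    rcases h.2 _ hb with h1 | h1 | h1 | h1
    · exact absurd ((hK.e_eq_one he (hK.q_lt hj)).1 ((hK.e_q he hj).trans hz.2.1)) h1
    · refine absurd (fun p hp => he.inj (he.lt _ (hP.gs p hp).1 _ hj) (he.lt _ hj _ (hP.gs p hp).1) ?_) h1
      rw [he.mul _ (hP.gs p hp).1 _ hj, he.mul _ hj _ (hP.gs p hp).1]
      exact hz.2.2 _ (gS_mem hp)
    · rw [← hK.e_cj he ht hj]
      exact Or.inl (congrArg e h1)
    · rw [← hK.e_cj he ht hj, ← he.mul _ hj _ hc]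
      exact Or.inr (congrArg e h1)

theorem en_aut (he : En g.m g.N e) (θ : MulAut A) : En g.m g.N fun a => θ (e a) :=
  ⟨he.lt, fun a ha b hb => by rw [he.mul a ha b hb, map_mul], fun x => by
    obtain ⟨a, ha, h1⟩ := he.surj (θ⁻¹ x)
    exact ⟨a, ha, by rw [h1, MulAut.apply_inv_self]⟩, he.card⟩

theorem tv_spec (hK : g.K) (he : En g.m g.N e) {F : FusionSystem (⊤ : Subgroup A)} (hF : N.Hy0 F) {AL : List Ds}
    (hA : Alive g F AL) {V : PM} (hV : WS g V) (h : g.tv AL V = true) : False := by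
  obtain ⟨_, hp⟩ := hK.pgroup he
  unfold Gp.tv at h
  simp only [an_iff, beq_iff, allP_iff, allL_iff, blt_iff] at h
  obtain ⟨h1, h2, h3⟩ := h
  have h4 : ∀ d ∈ AL, TvP (dom e (g.mkS d.P)) (e (g.by' d.t0 0)) (e (g.by' d.pr 0)) := fun d hd =>
    tvP_spec hK he (hK.ws_mkS _) (hK.by_lt _ _) (hK.by_lt _ _) (h1 d hd)
  refine tv_false hp hF ((AL.filter fun d => nt (nz (g.by' d.pr 0))).map fun d => dom e (g.mkS d.P))
    ((AL.filter fun d => nz (g.by' d.pr 0)).map fun d => dom e (g.mkS d.P)) (fun θ Q hQ => ?_) (fun P hP => ?_)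
    (fun P hP => ?_) (V := dom e V) (fun v hv => ?_) ?_
  · have he' := en_aut he θ⁻¹
    obtain ⟨d, hd, s, hs, h5⟩ := hA _ he' Q hQ
    refine ⟨dom e (g.mkS d.P), ?_, e s, fun x => ?_⟩
    · by_cases h6 : nz (g.by' d.pr 0) = true
      · exact List.mem_append_right _ (List.mem_map.2 ⟨d, List.mem_filter.2 ⟨hd, h6⟩, rfl⟩)
      · exact List.mem_append_left _ (List.mem_map.2 ⟨d, List.mem_filter.2 ⟨hd, nt_iff.2 h6⟩, rfl⟩)
    · obtain ⟨j, hj, rfl⟩ := (hK.en_cj he' hs).surj x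
      rw [← h5, ← hK.mem_ws (hK.en_cj he' hs) (hK.ws_mkS _) hj, hK.mem_ws he (hK.ws_mkS _) hj, MulAut.apply_inv_self,
        hK.e_cj he hs hj, mul_assoc, mul_assoc, mul_assoc, inv_mul_cancel, mul_one, inv_mul_cancel_left]
  · obtain ⟨d, hd, rfl⟩ := List.mem_map.1 hP
    obtain ⟨h5, h6⟩ := List.mem_filter.1 hd
    have h7 := h4 d h5
    rw [not_not.1 fun h8 => nt_iff.1 h6 (nz_iff.2 h8), hK.e_zero he] at h7
    exact ⟨_, h7⟩
  · obtain ⟨d, hd, rfl⟩ := List.mem_map.1 hP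
    exact ⟨_, _, h4 d (List.mem_filter.1 hd).1⟩
  · obtain ⟨j, hj, rfl⟩ := he.surj v
    obtain ⟨b, hb⟩ := (Gp.K.val_ws he hV).cov j hj hv
    obtain ⟨h5, h6⟩ := h2 _ hb
    refine ⟨Subgroup.mem_top _, by rw [← hK.e_q he hj, h5, hK.e_zero he], fun x _ => ?_⟩
    obtain ⟨k, hk, rfl⟩ := he.surj x
    rw [← he.mul _ hk _ hj, ← he.mul _ hj _ hk, ← hK.c_eq _ hj _ hk, ← h6]
    rfl
  · rw [List.length_map, ← one_shl]
    refine h3.trans_le ?_
    rw [cntN_eq, ← Nat.card_eq_finsetCard]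
    refine Nat.card_le_card_of_injective (fun i => (⟨e i.1, (hK.mem_ws he hV
      (Finset.mem_range.1 (Finset.mem_filter.1 i.2).1)).1 (Finset.mem_filter.1 i.2).2⟩ : dom e V)) fun i j hij => ?_
    exact Subtype.ext (he.inj (Finset.mem_range.1 (Finset.mem_filter.1 i.2).1)
      (Finset.mem_range.1 (Finset.mem_filter.1 j.2).1) (congrArg Subtype.val hij))

/-- the whole check -/
noncomputable def Gh.tv (c : Gh) (DL : List Ds) (C pool : ℕ) (ps : Ct) (V : ℕ) : Bool :=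
  mkG c.n c.R c.I fun g => an g.ok (an (g.alv c.AL DL (fun _ _ _ => false) C pool ps) (g.tv c.AL (g.mkS V)))

theorem Gh.clT {c : Gh} {DL : List Ds} {C pool : ℕ} {ps : Ct} {V : ℕ} (h : c.tv DL C pool ps V = true)
    (pf : Bool) : ClF c.n c.R pf [] := by
  intro A _ y F hy hF _
  unfold Gh.tv at h
  rw [mkG_eq, an_iff, an_iff] at h
  obtain ⟨hK, he⟩ := gp_K h.1 hy.card hy.pc hy.span
  exact (tv_spec hK he hF.toHy0 (alv_spec hK hF.sat h.2.1) (hK.ws_mkS V) h.2.2).elim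

end Cfsg.Agent.FS.NB
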