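import Cfsg.Agent.FS.N.B.Def
import Cfsg.Agent.FS.N.Defs

/-!
# The certificate checker of part B for S5288: the verdicts on the types (definitions)
-/

set_option autoImplicit false

namespace Cfsg.Agent.FS.NB

open Cfsg Cfsg.FusionSystem Cfsg.Agent.FS.Pc Cfsg.Agent.FS.Sw

/-- the hypothesis of the engine -/
structure Hy {A : Type} [Group A] (pf : Bool) (F : N.Sys A) : Prop extends N.Hy0 F where
  pf : pf = true → N.hyp F = ⊤

/-- the claim on a group -/
def ClF (n R : ℕ) (pf : Bool) (L : List N.Ent) : Prop := N.ClC n R (fun _ _ F => pf = true → N.hyp F = ⊤) L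

/-- The verdict on a type.  `T ≠ 0`: decomposable, with the pair `T`, `R` and one conjugating element per map in `ss`.
`T = 0`: the entry `j`, with the generators `w`, the kernel `S` of the parity and `r` outside; the types `ts` of the entry;
the program `pr` of the invariant table. -/
structure Vd where
  T : ℕ
  R : ℕ
  ss : ℕ
  j : ℕ
  w : ℕ
  S : ℕ
  r : ℕ
  ts : List ℕ
  pr : ℕ

def vd0 : Vd := ⟨0, 0, 0, 0, 0, 0, 0, [], 0⟩

def en0 : N.Ent × ℕ := (⟨⟨0, 0, 0, 0, 0, []⟩, 0, 0⟩, 0)

noncomputable def anyP (l : PL) (p : ℕ → ℕ → Bool) : Bool := PL.rec false (fun a b _ ih => orr (p a b) ih) l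

noncomputable def anyL {α : Type} (L : List α) (p : α → Bool) : Bool := List.rec false (fun a _ ih => orr (p a) ih) L

noncomputable def anyN (n : ℕ) (p : ℕ → Bool) : Bool := Nat.rec false (fun i ih => orr (p i) ih) n

/-- the table of the parities of the numbers below `2 ^ n` -/
noncomputable def parT (n : ℕ) : ℕ := vec (Nat.shiftLeft 1 n) fun a => iF (Pc.par n a) 1 0

namespace Gp

variable (g : Gp)

/-- the subgroup generated by `T` and `R` -/
noncomputable def jn (T R : PM) : PM := PL.rec T (fun a _ _ ih => g.ad ih a a) R.gs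

/-- `s` conjugates the generators of `T` into `R` -/
noncomputable def cjI (s : ℕ) (T R : PM) : Bool := allP T.gs fun a _ => mem R (g.cj s a)

noncomputable def pairOK (S T R : PM) : Bool :=
  an (nz T.tab) (an (nz R.tab) (an (Nat.beq (Nat.land (g.msk T) (g.msk R)) 1)
    (an (allP T.gs fun a _ => allP R.gs fun b _ => Nat.beq (g.m a b) (g.m b a))
      (allP S.gs fun s _ => orr (an (g.cjI s T T) (g.cjI s R R)) (an (g.cjI s T R) (g.cjI s R T))))))

noncomputable def dec0 (T R U : PM) (a c : ℕ) : Bool :=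
  an (mem U (g.m (g.i a) c)) (an (iF (mem T a) (mem T c) (nt (mem T c))) (iF (mem R a) (mem R c) (nt (mem R c))))

noncomputable def decL (T R U : PM) (L : List ℕ) : ℕ → Bool :=
  List.rec (fun _ => true) (fun s _ ih ss =>
    an (allP (g.mkP s).el fun a b => frc (g.cj0 (g.by' ss 0) b) (g.dec0 T R U a)) (ih (Nat.shiftRight ss 16))) L

/-- the maps of the list respect the pair -/
noncomputable def vdD (S : PM) (L : List ℕ) (v : Vd) : Bool :=
  an (g.pairOK S (g.mkS v.T) (g.mkS v.R)) (g.decL (g.mkS v.T) (g.mkS v.R) (g.jn (g.mkS v.T) (g.mkS v.R)) L v.ss)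

/-- the subgroup generated by the elements `a⁻¹ b` for the generating pairs of the maps -/
noncomputable def foc (L : List ℕ) : PM :=
  List.rec s0 (fun s _ ih => PL.rec ih (fun a b _ K => frc (g.m (g.i a) b) fun c => g.ad K c c) (g.mkP s).gs) L

/-- `K` is the kernel of the parity `lam` and the maps of the list are trivial modulo `K` -/
noncomputable def ker (pa : ℕ) (S K : PM) (L : List ℕ) (D : Real.PcD) (lam w r : ℕ) : Bool :=
  an (nt (mem K r)) (an (Nat.beq (Nat.lor (g.msk K) (g.cos K r)) g.O) (an (g.nrm S K) (an (g.cms S K)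
    (an (allL L fun s => allP (g.mkP s).gs fun a b => mem K (g.m (g.i a) b))
      (allN g.N fun a => Nat.beq (lk pa (Nat.land a lam)) (iF (mem K (Asm.imgT g.m 0 (lk w) D.n a)) 0 1))))))

/-- the sum of the entries of `V` on the mask `X` -/
def sm (V X : ℕ) : ℕ := Nat.mod (Nat.land V (Nat.mul X 65535)) 65535

/-- no automorphism maps the elements `a⁻¹ b` of the maps of the list into the subgroup of index two with the sum `c` -/
noncomputable def exc (pa V c : ℕ) (L : List ℕ) : Bool :=
  allN g.N fun mu => orr (anyL L fun s => anyP (g.mkP s).gs fun a b => nz (lk pa (Nat.land (g.m (g.i a) b) mu)))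
    (orr (anyN g.n fun k => orr (nz (lk pa (Nat.land (g.q (Nat.shiftLeft 1 k)) mu)))
        (anyN k fun j => nz (lk pa (Nat.land (g.cm (Nat.shiftLeft 1 k) (Nat.shiftLeft 1 j)) mu))))
      (ne (sm V (vec g.N fun a => Nat.xor 1 (lk pa (Nat.land a mu)))) c))

/-- the type belongs to an entry and the other types do not -/
noncomputable def vdE (pf : Bool) (pa : ℕ) (S : PM) (Xs : List (List ℕ)) (E : List (N.Ent × ℕ)) (vs : List Vd)
    (L : List ℕ) (v : Vd) (p : N.Ent × ℕ) : Bool :=
  an (Nat.blt v.j E.length) (an (Nat.beq p.1.D.N g.N) (an (Asm.chkT p.1.D g.m 0 (lk v.w)) (an (Nat.beq v.ts.length p.2)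
    (iF (nz p.1.lam)
      (an (nt pf) (an (g.ker pa S (g.mkS v.S) L p.1.D p.1.lam v.w (g.by' v.r 0))
        (frc (g.fvt S v.pr) fun V => frc (sm V (g.msk (g.mkS v.S))) fun c => allN Xs.length fun t =>
          orr (anyL v.ts (Nat.beq t)) (orr (nz (nth vd0 vs t).T) (g.exc pa V c (nth [] Xs t))))))
      (an (orr pf (g.full (g.foc L))) (allN Xs.length fun t =>
        orr (anyL v.ts (Nat.beq t)) (orr (nz (nth vd0 vs t).T) (nz (nth en0 E (nth vd0 vs t).j).1.lam))))))))

/-- all types -/
noncomputable def vds (pf : Bool) (S : PM) (Xs : List (List ℕ)) (E : List (N.Ent × ℕ)) (vs : List Vd) : Bool :=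
  an (g.full S) (frc (parT g.n) fun pa => allN Xs.length fun t => iF (nz (nth vd0 vs t).T)
    (g.vdD S (nth [] Xs t) (nth vd0 vs t))
    (g.vdE pf pa S Xs E vs (nth [] Xs t) (nth vd0 vs t) (nth en0 E (nth vd0 vs t).j)))

end Gp

/-- the last node has no known maps and the verdicts hold -/
noncomputable def Gh.finR (c : Gh) (cuts : List (List ℕ)) (E : List (N.Ent × ℕ)) (vs : List Vd) : Bool :=
  an (List.beq (nth [1] cuts 0) []) (mkG c.n c.R c.I fun g => g.vds c.pf (g.mkS c.dT.P) c.Xs E vs)

end Cfsg.Agent.FS.NB
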