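import Cfsg.Agent.FS.N.B.Node

/-!
# The checker of part B for S5288 (port of FS/B to cells of 16 bits): the claims on a group
-/

set_option autoImplicit false

namespace Cfsg.Agent.FS.NB

open Cfsg Cfsg.FusionSystem Cfsg.Agent.H752 Cfsg.Agent.FS.Th Cfsg.Agent.FS.Pc Cfsg.Agent.FS.Sw Cfsg.Agent.FS.B
open Asm (En TyL)

theorem nodes_spec {A : Type} [Group A] {g : Gp} (hK : g.K) {pf : Bool} {F : FusionSystem (⊤ : Subgroup A)} (hF : Hy pf F)
    {Xs : List (List ℕ)} {AL : List Ds} (hA : Alive g F AL) {dT : Ds} : ∀ (l : List Nd) (cuts : List (List ℕ)),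
      (∀ L ∈ cuts, NC g F Xs L) → g.nodes pf Xs AL dT l cuts = true →
        ∀ L ∈ l.foldl (fun cs nd => nd.L :: cs) cuts, NC g F Xs L := by
  intro l
  induction l with
  | nil => exact fun _ h _ => h
  | cons nd l ih =>
    intro cuts h0 h
    have h' : an (g.node pf Xs AL dT (fun _ _ _ => false) cuts nd) (g.nodes pf Xs AL dT l (nd.L :: cuts)) = true := h
    rw [an_iff] at h'
    have h1 := node_spec (cu := fun _ _ _ => false) hK hF hA h0 (fun _ _ _ _ _ => ⟨fun _ _ _ _ h => absurd h Bool.false_ne_true,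
      fun _ _ _ _ _ _ h => absurd h Bool.false_ne_true⟩) h'.1
    exact ih _ (fun L hL => (List.mem_cons.1 hL).elim (fun h2 => h2 ▸ h1) (h0 L)) h'.2

namespace Gh

variable (c : Gh)

noncomputable def g : Gp := gp c.n c.R c.I

/-- the list of candidates is complete -/
def Base : Prop := c.g.ok = true ∧
  ∀ (A : Type) [Group A] (F : FusionSystem (⊤ : Subgroup A)), c.g.K → F.IsSaturated 2 → Alive c.g F c.AL

/-- the claims of the finished nodes -/
def NCs (cuts : List (List ℕ)) : Prop :=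
  ∀ (A : Type) [Group A] (F : FusionSystem (⊤ : Subgroup A)), c.g.K → Hy c.pf F → ∀ L ∈ cuts, NC c.g F c.Xs L

/-- the lists of the finished nodes -/
noncomputable def aft (l : List Nd) (cuts : List (List ℕ)) : List (List ℕ) := l.foldl (fun cs nd => nd.L :: cs) cuts

variable {c}

theorem base {DL : List Ds} {C pool : ℕ} {ps : Ct} (h : c.alv DL C pool ps = true) : c.Base := by
  unfold alv at h
  rw [mkG_eq, an_iff] at h
  exact ⟨h.1, fun A _ F hK hF => alv_spec hK hF h.2⟩

theorem nil : c.NCs [] := fun _ _ _ _ _ _ h => absurd h List.not_mem_nil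

theorem step (hb : c.Base) {l : List Nd} {cuts : List (List ℕ)} (h0 : c.NCs cuts) (h : c.nodes l cuts = true) :
    c.NCs (aft l cuts) := fun A _ F hK hF => by
  unfold nodes at h
  rw [mkG_eq] at h
  exact nodes_spec hK hF (hb.2 A F hK hF.sat) l cuts (h0 A F hK hF) h

theorem goal {cuts : List (List ℕ)} (h : c.NCs cuts) (h0 : List.beq (nth [1] cuts 0) [] = true) {A : Type} [Group A]
    (hK : c.g.K) {F : FusionSystem (⊤ : Subgroup A)} (hF : Hy c.pf F) {e : ℕ → A} (he : En c.g.m c.g.N e) :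
    Goal c.g F c.Xs := by
  have h1 := lbeq_eq h0
  rcases nth_or [1] cuts 0 with h2 | h2
  · exact h A F hK hF _ (h1 ▸ h2) e he fun _ h3 => absurd h3 List.not_mem_nil
  · rw [h1] at h2
    exact absurd h2 (List.cons_ne_nil _ _).symm

/-- the last node has no known maps and there are no types -/
noncomputable def fin0 (c : Gh) (cuts : List (List ℕ)) : Bool :=
  an (List.beq (nth [1] cuts 0) []) (Nat.beq c.Xs.length 0)

theorem cl0 (hb : c.Base) {cuts : List (List ℕ)} (h : c.NCs cuts) (h0 : c.fin0 cuts = true) : ClF c.n c.R c.pf [] := by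
  intro A _ y F hy hF0 hpf
  have hF : Hy c.pf F := ⟨hF0.toHy0, hpf⟩
  obtain ⟨hK, he⟩ := gp_K hb.1 hy.card hy.pc hy.span
  unfold fin0 at h0
  rw [an_iff, beq_iff] at h0
  obtain ⟨_, -, t, ht, -⟩ := goal h h0.1 hK hF he
  omega

theorem cl1 {DL : List Ds} {C pool : ℕ} {ps : Ct} {nd : Nd} (h : c.one DL C pool ps nd = true) :
    ClF c.n c.R c.pf [] := by
  intro A _ y F hy hF0 hpf
  have hF : Hy c.pf F := ⟨hF0.toHy0, hpf⟩
  unfold one at h
  rw [mkG_eq, an_iff, an_iff, an_iff] at h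
  obtain ⟨h1, h2, h3, h4⟩ := h
  obtain ⟨hK, he⟩ := gp_K h1 hy.card hy.pc hy.span
  obtain ⟨_, -, t, ht, -⟩ := node_spec (cu := fun _ _ _ => false) hK hF (alv_spec hK hF.sat h2) (fun _ h => absurd h List.not_mem_nil)
    (fun _ _ _ _ _ => ⟨fun _ _ _ _ h => absurd h Bool.false_ne_true,
      fun _ _ _ _ _ _ h => absurd h Bool.false_ne_true⟩) h4 _ he (by
        rw [lbeq_eq h3]
        exact fun _ h => absurd h List.not_mem_nil)
  exact absurd ht (Nat.not_lt_zero t)

end Gh

/-- claims for a list of groups -/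
def Cls (pf : Bool) (l : List (ℕ × ℕ)) : Prop := ∀ p ∈ l, ClF p.1 p.2 pf []

theorem Cls.nil {pf : Bool} : Cls pf [] := fun _ h => absurd h List.not_mem_nil

theorem Cls.cons {pf : Bool} {n R : ℕ} {l : List (ℕ × ℕ)} (h : ClF n R pf []) (h' : Cls pf l) : Cls pf ((n, R) :: l) :=
  fun p hp => (List.mem_cons.1 hp).elim (fun h1 => h1 ▸ h) (h' p)

theorem Cls.app {pf : Bool} {l l' : List (ℕ × ℕ)} (h : Cls pf l) (h' : Cls pf l') : Cls pf (l ++ l') :=
  fun p hp => (List.mem_append.1 hp).elim (h p) (h' p)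

end Cfsg.Agent.FS.NB
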