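import Cfsg.Agent.FS.N.B.FinA
import Cfsg.Agent.FS.N.B.Main
import Cfsg.Agent.FS.N.D.Sub
import Cfsg.Agent.FS.N.Tw

/-!
# The checker of part B for S5288: the verdicts on the types (helper48)

`Gh.clR` : the claim on a group from the finished nodes, the models of the entries and the check `finR`.
-/

set_option autoImplicit false

namespace Cfsg.Agent.FS.NB

open Cfsg Cfsg.FusionSystem Cfsg.Agent.H752 Cfsg.Agent.FS.Th Cfsg.Agent.FS.Pc Cfsg.Agent.FS.Sw Cfsg.Agent.FS.B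
open Asm (En TyL)

namespace Fn

variable {A : Type} [Group A] {g : Gp} {e : ℕ → A} {F : N.Sys A}

theorem ty_gen {L : List ℕ} (h : TyL F e (g.ty L)) {M : Subgroup A → (A → A) → Prop} (hM : Closed F M)
    (h1 : ∀ s ∈ L, ∀ f, Mp F (dom e (g.mkP s)) f → Gens e f (dom e (g.mkP s)) (g.mkP s).gs → M (dom e (g.mkP s)) f) :
    ∀ P f, Mp F P f → M P f := by
  refine h.gen M hM fun L' hL' f h2 h3 => ?_
  obtain ⟨s, hs, rfl⟩ := List.mem_map.1 hL'
  exact h1 s hs f h2 fun p hp => ⟨gS_mem hp, h3 p hp⟩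

theorem e_div (hK : g.K) (he : En g.m g.N e) {a b : ℕ} (ha : a < g.N) (hb : b < g.N) :
    e (g.m (g.i a) b) = (e a)⁻¹ * e b := by rw [he.mul _ (hK.i_lt a ha) b hb, hK.e_i he ha]

theorem ty_foc (hK : g.K) (he : En g.m g.N e) {L : List ℕ} (h : TyL F e (g.ty L)) {M : Subgroup A} (hM : N.FocLe F M) :
    ∀ s ∈ L, ∀ p ∈ (g.mkP s).gs.ls, e (g.m (g.i p.1) p.2) ∈ M := fun s hs p hp => by
  obtain ⟨f, h1, h2⟩ := h.has _ (List.mem_map.2 ⟨s, hs, rfl⟩)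
  rw [e_div hK he ((hK.wf_mkP s).gs p hp).1 ((hK.wf_mkP s).gs p hp).2, ← h2 p hp]
  exact hM _ f h1 _ (Subgroup.subset_closure ⟨p, hp, rfl⟩)

theorem ad_ws (hK : g.K) {s : PM} (hs : WS g s) {a : ℕ} (ha : a < g.N) {U : Subgroup A} (h1 : dom e s ≤ U) (h2 : e a ∈ U) :
    WS g (g.ad s a a) ∧ dom e (g.ad s a a) ≤ U := by
  obtain ⟨h3, h4 | h4⟩ := hK.ad_spec hs.toWF ha ha
  · rw [h4]
    exact ⟨hs, h1⟩
  · refine ⟨⟨h3, fun p hp => ?_⟩, dom_le fun p hp => ?_⟩ <;> rw [h4] at hp <;> rcases List.mem_cons.1 hp with rfl | hp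
    exacts [rfl, hs.dg p hp, h2, h1 (gS_mem hp)]

theorem jn_spec (hK : g.K) {T R : PM} (hT : WS g T) (hR : WS g R) :
    WS g (g.jn T R) ∧ dom e (g.jn T R) ≤ dom e T ⊔ dom e R := by
  have h : ∀ p ∈ R.gs.ls, p.1 < g.N ∧ e p.1 ∈ dom e T ⊔ dom e R := fun p hp =>
    ⟨(hR.gs p hp).1, Subgroup.mem_sup_right (gS_mem hp)⟩
  unfold Gp.jn
  generalize R.gs = l at h
  induction l with
  | nil => exact ⟨hT, le_sup_left⟩
  | cons a b l ih =>
    obtain ⟨h1, h2⟩ := ih fun p hp => h p (List.mem_cons_of_mem _ hp)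
    exact ad_ws hK h1 (h (a, b) List.mem_cons_self).1 h2 (h (a, b) List.mem_cons_self).2

theorem foc_spec (hK : g.K) {M : Subgroup A} {L : List ℕ}
    (h : ∀ s ∈ L, ∀ p ∈ (g.mkP s).gs.ls, e (g.m (g.i p.1) p.2) ∈ M) : WS g (g.foc L) ∧ dom e (g.foc L) ≤ M := by
  induction L with
  | nil => exact ⟨hK.ws_s0, dom_le fun _ hp => absurd hp List.not_mem_nil⟩
  | cons s L ih =>
    have h1 := ih fun s hs => h s (List.mem_cons_of_mem _ hs)
    have h2 : ∀ p ∈ (g.mkP s).gs.ls, g.m (g.i p.1) p.2 < g.N ∧ e (g.m (g.i p.1) p.2) ∈ M := fun p hp =>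
      ⟨hK.m_lt _ (hK.i_lt _ ((hK.wf_mkP s).gs p hp).1) _ ((hK.wf_mkP s).gs p hp).2, h s List.mem_cons_self p hp⟩
    have h3 : g.foc (s :: L) =
      PL.rec (g.foc L) (fun a b _ K => frc (g.m (g.i a) b) fun c => g.ad K c c) (g.mkP s).gs := rfl
    rw [h3]
    generalize (g.mkP s).gs = l at h2
    induction l with
    | nil => exact h1
    | cons a b l ih' =>
      obtain ⟨h4, h5⟩ := ih' fun p hp => h2 p (List.mem_cons_of_mem _ hp)
      have h6 := ad_ws hK h4 (h2 (a, b) List.mem_cons_self).1 h5 (h2 (a, b) List.mem_cons_self).2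
      show WS g (frc _ _) ∧ dom e (frc _ _) ≤ M
      rw [frc_eq]
      exact h6

theorem ne_bot (hK : g.K) (he : En g.m g.N e) {W : PM} (hW : WS g W) (h : W.tab ≠ 0) : dom e W ≠ ⊥ := fun h8 => by
  have hWl := (Gp.K.lk_val hW.toWF (Gp.K.val_ws he hW) le_rfl).1
  obtain ⟨i, hi⟩ : ∃ i, lk W.tab i ≠ 0 := by
    by_contra h10
    exact h (eq_of_lk (N := W.tab) (Nat.lt_two_pow_self.trans_le (Nat.pow_le_pow_right (by norm_num) (by omega)))
      (Nat.two_pow_pos _) fun i _ => by rw [lk_zero]; exact not_not.1 fun h11 => h10 ⟨i, h11⟩)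
  obtain ⟨h10, -, h11, -⟩ := hWl i hi
  rw [h8, Subgroup.mem_bot, hK.e_eq_one he h10] at h11
  exact hi (by rw [h11]; exact hWl.zero hK he (hm_id _))

theorem cjI_spec (hK : g.K) (he : En g.m g.N e) {T R : PM} (hT : WS g T) (hR : WS g R) {s : ℕ} (hs : s < g.N)
    (h : g.cjI s T R = true) : ∀ x ∈ dom e T, e s * x * (e s)⁻¹ ∈ dom e R := by
  refine wd_conj _ ?_
  rintro _ ⟨p, hp, rfl⟩
  rw [← hK.e_cj he hs (hT.gs p hp).1]
  exact (hK.mem_ws he hR (hK.cj_lt hs (hT.gs p hp).1)).1 (allP_iff.1 h p hp)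

theorem pair_spec (hK : g.K) (he : En g.m g.N e) {S T R : PM} (hS : WS g S) (hf : g.full S = true) (hT : WS g T)
    (hR : WS g R) (h : g.pairOK S T R = true) : N.Pair (dom e T) (dom e R) := by
  have := (hK.pgroup he).1
  unfold Gp.pairOK at h
  simp only [an_iff, nz_iff, beq_iff, allP_iff, orr_iff] at h
  obtain ⟨h1, h2, h3, h4, h5⟩ := h
  refine ⟨ne_bot hK he hT h1, ne_bot hK he hR h2, le_bot_iff.1 fun x hx => ?_, comm_closure ?_, fun s => ?_⟩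
  · obtain ⟨a, ha, rfl⟩ := he.surj x
    have h6 := congrArg (fun X => lk X a) h3
    simp only [lk_land, hK.lk_msk _ ha, lk_one, if_pos ((hK.mem_ws he hT ha).2 hx.1),
      if_pos ((hK.mem_ws he hR ha).2 hx.2)] at h6
    refine Subgroup.mem_bot.2 ((hK.e_eq_one he ha).2 (by_contra fun h7 => ?_))
    rw [if_neg h7] at h6
    exact absurd h6 (by decide)
  · rintro _ ⟨p, hp, rfl⟩ _ ⟨q, hq, rfl⟩
    rw [← he.mul _ (hT.gs p hp).1 _ (hR.gs q hq).1, ← he.mul _ (hR.gs q hq).1 _ (hT.gs p hp).1, h4 p hp q hq]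
  · refine sw_closure (X := gS e S.gs) ?_ s (by
      rw [← dom, hK.full_top he hS.toWF (Gp.K.val_ws he hS) hf]
      exact Subgroup.mem_top s)
    rintro _ ⟨p, hp, rfl⟩
    have h6 := (hS.gs p hp).1
    exact (h5 p hp).imp (fun k => ⟨cjI_spec hK he hT hT h6 k.1, cjI_spec hK he hR hR h6 k.2⟩)
      fun k => ⟨cjI_spec hK he hT hR h6 k.1, cjI_spec hK he hR hT h6 k.2⟩

theorem decL_spec (hK : g.K) {T R U : PM} : ∀ (L : List ℕ) (ss : ℕ), g.decL T R U L ss = true →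
    ∀ s ∈ L, ∃ r, r < g.N ∧ ∀ p ∈ (g.mkP s).el.ls, g.dec0 T R U p.1 (g.cj0 r p.2) = true := by
  intro L
  induction L with
  | nil => exact fun _ _ s hs => absurd hs List.not_mem_nil
  | cons s L ih =>
    intro ss h s' hs'
    have h' : an (allP (g.mkP s).el fun a b => frc (g.cj0 (g.by' ss 0) b) (g.dec0 T R U a))
      (g.decL T R U L (Nat.shiftRight ss 16)) = true := h
    rw [an_iff, allP_iff] at h'
    rcases List.mem_cons.1 hs' with rfl | hs'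
    · exact ⟨_, hK.by_lt ss 0, fun p hp => by have h1 := h'.1 p hp; rwa [frc_eq] at h1⟩
    · exact ih _ h'.2 s' hs'

/-- a decomposable type -/
theorem vdD_false (hK : g.K) (he : En g.m g.N e) {S : PM} (hS : WS g S) (hf : g.full S = true) (hF : N.Hy2 F)
    {L : List ℕ} (hL : TyL F e (g.ty L)) {v : Vd} (h : g.vdD S L v = true) : False := by
  obtain ⟨_, hA⟩ := hK.pgroup he
  unfold Gp.vdD at h
  rw [an_iff] at h
  have hT := hK.ws_mkS v.T
  have hR := hK.ws_mkS v.R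
  have hp := pair_spec hK he hS hf hT hR h.1
  obtain ⟨hU, hle⟩ := jn_spec (e := e) hK hT hR
  refine hF.nd (N.D.dec_of hA hF.toHy0 hp fun P f hf' => N.D.decQ.decP
    (ty_gen hL (N.D.closed_decQ F hp) (fun s hs k h1 h2 => ?_) P f hf'))
  obtain ⟨r, hr, h3⟩ := decL_spec hK L _ h.2 s hs
  have hv := (hK.wf_mkP s).val A e k _ he (hm_of_mp h1) h2
  refine ⟨(e r)⁻¹, fun x hx => ?_⟩
  obtain ⟨a, ha, rfl⟩ := he.surj x
  obtain ⟨b, hb⟩ := hv.cov a ha hx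
  have hb' : b < g.N := ((hK.wf_mkP s).el _ hb).2
  have hc := hK.cj0_lt hr hb'
  have h4 := h3 _ hb
  unfold Gp.dec0 at h4
  rw [an_iff, an_iff] at h4
  rw [inv_inv, (hv.el _ hb).2.1, ← hK.e_cj0 he hr hb', ← hK.mem_ws he hT ha, ← hK.mem_ws he hR ha, ← hK.mem_ws he hT hc,
    ← hK.mem_ws he hR hc, ← e_div hK he ha hc]
  exact ⟨hle ((hK.mem_ws he hU (hK.m_lt _ (hK.i_lt a ha) _ hc)).1 h4.1), iF_same h4.2.1, iF_same h4.2.2⟩

theorem lk_pa (hK : g.K) {a : ℕ} (ha : a < g.N) (mu : ℕ) :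
    lk (parT g.n) (Nat.land a mu) = if Pc.par g.n (a &&& mu) = true then 1 else 0 :=
  lk_parT (Nat.and_le_left.trans_lt (hK.hN ▸ ha))

/-- the kernel of the parity -/
theorem ker_spec (hK : g.K) (he : En g.m g.N e) {S K : PM} (hW : WS g K) {L : List ℕ} {D : Real.PcD} {lam w r : ℕ}
    (hr : r < g.N) (h : g.ker (parT g.n) S K L D lam w r = true) :
    Ix (dom e K) ∧ dom e K ≠ ⊤ ∧ (∀ F : N.Sys A, TyL F e (g.ty L) → N.FocLe F (dom e K)) ∧
      (D.N = g.N → Asm.chkT D g.m 0 (lk w) = true → ∀ a, a < D.N →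
        (Real.el (fun i => e (lk w i)) D.n a ∈ dom e K ↔ ¬ Pc.par D.n (a &&& lam) = true)) := by
  unfold Gp.ker at h
  simp only [an_iff, nt_iff, beq_iff, allL_iff, allP_iff, allN_iff] at h
  obtain ⟨h1, h2, -, -, h3, h4⟩ := h
  have hm : ∀ {b : ℕ}, b < g.N → (mem K b = true ↔ e b ∈ dom e K) := fun hb => hK.mem_ws he hW hb
  have hI : Ix (dom e K) := ix_of (r := e r) fun u hu => by
    obtain ⟨j, hj, rfl⟩ := he.surj u
    refine (hK.lk_cos he hW hr hj).1 fun h13 => ?_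
    have h14 : lk (Nat.lor (g.msk K) (g.cos K r)) j = 0 :=
      lk_lor_eq_zero.2 ⟨by rw [hK.lk_msk _ hj, if_neg fun h14 => hu ((hm hj).1 h14)], h13⟩
    rw [h2, hK.lk_O hj] at h14
    exact one_ne_zero h14
  refine ⟨hI, fun h5 => h1 ((hm hr).2 (h5 ▸ Subgroup.mem_top _)), fun F hL => ty_gen hL
    (closed_focP F _ fun x _ y _ => hI.cm x y) fun s hs k h5 h6 =>
      focP_of_gens hI.cj h5 (X := gS e (g.mkP s).gs) rfl ?_, fun h5 h6 a ha => ?_⟩
  · rintro _ ⟨p, hp, rfl⟩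
    obtain ⟨h7, h8⟩ := (hK.wf_mkP s).gs p hp
    rw [(h6 p hp).2, ← e_div hK he h7 h8]
    exact (hm (hK.m_lt _ (hK.i_lt _ h7) _ h8)).1 (h3 s hs p hp)
  · have h7 : D.n = g.n := Nat.pow_right_injective le_rfl (show 2 ^ D.n = 2 ^ g.n from h5.trans hK.hN)
    obtain ⟨h8, h9⟩ := imgT_spec he hK.N_pos (hK.e_zero he) (fun i hi => h5 ▸ chkT_lt h6 i hi) a D.n le_rfl
    have h10 := h4 a (h5 ▸ ha)
    rw [lk_pa hK (h5 ▸ ha), ← h7] at h10
    rw [h9, ← hm h8]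
    generalize mem K _ = b at h10 ⊢
    generalize Pc.par D.n _ = c at h10 ⊢
    cases b <;> cases c <;> simp_all [iF]

/-- the types which are excluded by an invariant -/
theorem exc_false (hK : g.K) (he : En g.m g.N e) {S K : PM} (hS : WS g S) (hf : g.full S = true) (hW : WS g K)
    (hI : Ix (dom e K)) {e' : ℕ → A} (he' : En g.m g.N e') {L : List ℕ} (hL : TyL F e' (g.ty L))
    (hF : N.FocLe F (dom e K)) {pr : ℕ}
    (h : g.exc (parT g.n) (g.fvt S pr) (Gp.sm (g.fvt S pr) (g.msk K)) L = true) : False := by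
  classical
  obtain ⟨mu, h1, h2⟩ := hI.mu (fun i => e' (2 ^ i)) g.n
  have h3 : ∀ a, a < g.N → lk (parT g.n) (Nat.land a mu) = if e' a ∈ dom e K then 0 else 1 := fun a ha => by
    rw [lk_pa hK ha, (hK.pc A e' he').2 a ha]
    by_cases h4 : Pc.par g.n (a &&& mu) = true
    · rw [if_pos h4, if_neg fun h5 => (h2 a).1 h5 h4]
    · rw [if_neg h4, if_pos ((h2 a).2 h4)]
  have h4 : ∀ a, a < g.N → e' a ∈ dom e K → ¬ nz (lk (parT g.n) (Nat.land a mu)) = true := fun a ha h5 h6 =>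
    nz_iff.1 h6 (by rw [h3 a ha, if_pos h5])
  have hp : ∀ {k : ℕ}, k < g.n → Nat.shiftLeft 1 k < g.N := fun hk => by
    rw [one_shl, hK.hN]
    exact Nat.pow_lt_pow_right (by norm_num) hk
  rcases orr_iff.1 (allN_iff.1 h mu (hK.hN ▸ h1)) with h5 | h5
  · obtain ⟨s, hs, h6⟩ := anyL_ex h5
    obtain ⟨p, hp', h7⟩ := anyP_ex h6
    obtain ⟨h8, h9⟩ := (hK.wf_mkP s).gs p hp'
    exact h4 _ (hK.m_lt _ (hK.i_lt _ h8) _ h9) (ty_foc hK he' hL hF s hs p hp') h7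
  rcases orr_iff.1 h5 with h5 | h5
  · obtain ⟨k, hk, h6⟩ := anyN_ex h5
    rcases orr_iff.1 h6 with h6 | h6
    · exact h4 _ (hK.q_lt (hp hk)) (hK.e_q he' (hp hk) ▸ hI.sq _) h6
    · obtain ⟨j, hj, h7⟩ := anyN_ex h6
      exact h4 _ (hK.cm_lt (hp hk) (hp (hj.trans hk))) (hK.e_cm he' (hp hk) (hp (hj.trans hk)) ▸ hI.cm _ _) h7
  · have h6 : ∀ a, a < g.N → Nat.xor 1 (lk (parT g.n) (Nat.land a mu)) = if e' a ∈ dom e K then 1 else 0 :=
      fun a ha => by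
        rw [h3 a ha]
        split_ifs <;> rfl
    have h7 : ∀ a, a < g.N → Nat.xor 1 (lk (parT g.n) (Nat.land a mu)) ≤ 1 := fun a ha => by
      rw [h6 a ha]
      split_ifs <;> omega
    have h8 := fun a ha => (h7 a ha).trans_lt (show 1 < 65536 by norm_num)
    refine ne_iff.1 h5 ?_
    rw [sm_eq _ (vec_lt _ h8) fun s hs => by rw [lk_vec _ h8 hs]; exact h7 s hs,
      sm_eq _ (hK.msk_lt K) fun s hs => by rw [hK.lk_msk K hs]; split_ifs <;> omega]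
    obtain ⟨θ, hθ⟩ := he.exists_aut he'
    have hT := hK.full_top he hS.toWF (Gp.K.val_ws he hS) hf
    have h9 : ∀ Q : Subgroup A, Hm Q θ := fun Q => ⟨fun x _ y _ => map_mul θ x y, fun x _ y _ h => θ.injective h⟩
    have h10 := hK.fvt_inv he hS (h9 _) (fun x _ => hT ▸ Subgroup.mem_top _) pr
    refine congrArg (· % 65535) (InvAux.sum_inv he (h9 ⊤) (fun _ _ => Subgroup.mem_top _)
      (fun s _ h11 => absurd (Subgroup.mem_top _) h11) (fun s _ h11 => absurd (Subgroup.mem_top _) h11)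
      fun s hs t ht _ h11 => ?_)
    rw [lk_vec _ h8 hs, h6 s hs, hK.lk_msk K ht, h10 s hs t ht (hT ▸ Subgroup.mem_top _) h11, ← hθ s hs, h11]
    simp only [hK.mem_ws he hW ht]

theorem vds_spec (hK : g.K) {pf : Bool} {S : PM} (hS : WS g S) {Xs : List (List ℕ)}
    {E : List (N.Ent × ℕ)} (hE : ∀ q ∈ E, N.Models2 q.1 q.2 ∧ q.1.D.Ok) {vs : List Vd}
    (hG : ∀ F : N.Sys A, Hy pf F → Goal g F Xs) (h : g.vds pf S Xs E vs = true) (hF : N.Hy2 F)
    (hpf : pf = true → N.hyp F = ⊤) : ∃ p ∈ E.map Prod.fst, N.Hit p F := by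
  unfold Gp.vds at h
  rw [an_iff, frc_eq, allN_iff] at h
  obtain ⟨hf, h⟩ := h
  have hv : ∀ (F' : N.Sys A) (e' : ℕ → A) (t : ℕ), N.Hy2 F' → En g.m g.N e' → t < Xs.length →
      TyL F' e' (g.ty (nth [] Xs t)) → ¬ nz (nth vd0 vs t).T = true ∧ g.vdE pf (parT g.n) S Xs E vs (nth [] Xs t)
        (nth vd0 vs t) (nth en0 E (nth vd0 vs t).j) = true := fun F' e' t h1 h2 h3 h4 =>
    (iF_iff.1 (h t h3)).resolve_left fun h5 => vdD_false hK h2 hS hf h1 h4 h5.2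
  obtain ⟨e, he, t, ht, hT⟩ := hG F ⟨hF.toHy0, hpf⟩
  obtain ⟨_, hA⟩ := hK.pgroup he
  have h0 := (hv F e t hF he ht hT).2
  generalize nth vd0 vs t = v at h0
  generalize hp : nth en0 E v.j = p at h0
  unfold Gp.vdE at h0
  simp only [an_iff, blt_iff, beq_iff, iF_iff, nt_iff, frc_eq, allN_iff, orr_iff] at h0
  obtain ⟨h1, h2, h3, h4, h5⟩ := h0
  have hpE : p ∈ E := hp ▸ nth_mem en0 h1
  have hx := Asm.gen_of_table (hE p hpE).2 (h2 ▸ he) h3
  have key : N.Mode p.1.D (fun i => e (lk v.w i)) p.1.lam F → (∀ F' : N.Sys A, N.Hy2 F' →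
      N.Mode p.1.D (fun i => e (lk v.w i)) p.1.lam F' → Hy pf F' ∧ ∀ e' t', En g.m g.N e' → t' < Xs.length →
        TyL F' e' (g.ty (nth [] Xs t')) → anyL v.ts (Nat.beq t') = true) → ∃ p ∈ E.map Prod.fst, N.Hit p F := by
    refine fun h6 h7 => ⟨p.1, List.mem_map.2 ⟨p, hpE, rfl⟩, N.boxTw.2 p.1 p.2 (hE p hpE).1 A _ hx
      (fun F' i => ∃ e', En g.m g.N e' ∧ TyL F' e' (g.ty (nth [] Xs (nth 0 v.ts i)))) (fun F' h8 h9 => ?_)
      (fun _ _ i ⟨_, h8, h9⟩ ⟨_, h10, h11⟩ => TyL.tw (fun L hL q hq => ?_) h8 h10 h9 h11) F hF h6⟩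
    · obtain ⟨e', he', t', ht', hT'⟩ := hG F' (h7 F' h8 h9).1
      obtain ⟨a, ha, h10⟩ := anyL_ex ((h7 F' h8 h9).2 e' t' he' ht' hT')
      obtain ⟨i, hi, h11⟩ := nth_of_mem 0 ha
      exact ⟨⟨i, h4 ▸ hi⟩, e', he', by rw [show nth 0 v.ts i = t' from h11.trans (beq_iff.1 h10).symm]; exact hT'⟩
    · obtain ⟨s, -, rfl⟩ := List.mem_map.1 hL
      exact (hK.wf_mkP s).gs q hq
  rcases h5 with ⟨h5, h6, h7, h8⟩ | ⟨h5, h6, h7⟩
  · obtain ⟨k1, -, k3, k4⟩ := ker_spec hK he (hK.ws_mkS _) (hK.by_lt _ _) h7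
    have h9 := mode_iff hx k1 (k4 h2 h3)
    refine key ⟨fun h10 => absurd h10 (nz_iff.1 h5), fun _ => (h9 F).1 (k3 F hT)⟩
      fun F' h10 h11 => ⟨⟨h10.toHy0, fun h12 => absurd h12 h6⟩, fun e' t' he' ht' hT' => ?_⟩
    rcases h8 t' ht' with h12 | h12 | h12
    · exact h12
    · exact absurd h12 (hv F' e' t' h10 he' ht' hT').1
    · exact (exc_false hK he hS hf (hK.ws_mkS _) k1 he' hT' ((h9 F').2 (h11.2 (nz_iff.1 h5))) h12).elim
  · have h8 : p.1.lam = 0 := not_not.1 fun h8 => h5 (nz_iff.2 h8)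
    refine key ⟨fun _ => h6.elim hpf fun h9 => by_contra fun h10 => ?_, fun h9 => absurd h8 h9⟩
      fun F' h10 h11 => ⟨⟨h10.toHy0, fun _ => h11.1 h8⟩, fun e' t' he' ht' hT' => ?_⟩
    · obtain ⟨M, h11, h12⟩ := (N.D.boxD3 A hA F hF).1 h10
      obtain ⟨h13, h14⟩ := foc_spec hK (ty_foc hK he hT h12)
      rw [hK.full_top he h13.toWF (Gp.K.val_ws he h13) h9, top_le_iff] at h14
      rw [h14, Subgroup.index_top] at h11
      exact absurd h11 (by decide)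
    · rcases h7 t' ht' with h12 | h12 | h12
      · exact h12
      · exact absurd h12 (hv F' e' t' h10 he' ht' hT').1
      · have h13 := (hv F' e' t' h10 he' ht' hT').2
        unfold Gp.vdE at h13
        rw [iF_pos h12] at h13
        simp only [an_iff] at h13
        obtain ⟨-, k2, k3, -⟩ := ker_spec hK he' (hK.ws_mkS _) (hK.by_lt _ _) h13.2.2.2.2.2.1
        exact absurd (top_le_iff.1 ((h11.1 h8).ge.trans ((hyperfocal_le_focal' F' 2).trans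
          (focal_le_of_focP F' _ (k3 F' hT'))))) k2

end Fn

/-- **The claim on a group.** -/
theorem Gh.clR {c : Gh} (hb : c.Base) {cuts : List (List ℕ)} (h : c.NCs cuts) {E : List (N.Ent × ℕ)}
    (hE : ∀ q ∈ E, N.Models2 q.1 q.2 ∧ q.1.D.Ok) {vs : List Vd} (h0 : c.finR cuts E vs = true) :
    ClF c.n c.R c.pf (E.map Prod.fst) := by
  intro A _ y F hy hF hpf
  obtain ⟨hK, he⟩ := gp_K hb.1 hy.card hy.pc hy.span
  unfold Gh.finR at h0
  rw [an_iff, mkG_eq] at h0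
  exact Fn.vds_spec hK (hK.ws_mkS _) hE (fun F' hF' => Gh.goal h h0.1 hK hF' he) h0.2 hF hpf

end Cfsg.Agent.FS.NB
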