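import Cfsg.Agent.FS.N.B.Cl

/-!
# The checker of part B for S5288: the verdicts on the types, basic lemmas (helper48)
-/

set_option autoImplicit false

namespace Cfsg.Agent.FS.NB

open Cfsg Cfsg.FusionSystem Cfsg.Agent.H752 Cfsg.Agent.FS.Th Cfsg.Agent.FS.Pc Cfsg.Agent.FS.Sw Cfsg.Agent.FS.B
open Asm (En TyL)

namespace Fn

/-! ### Booleans and cells -/

theorem anyP_ex {l : PL} {p : ℕ → ℕ → Bool} (h : anyP l p = true) : ∃ q ∈ l.ls, p q.1 q.2 = true := by
  induction l with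
  | nil => exact absurd h Bool.false_ne_true
  | cons a b l ih =>
    rcases orr_iff.1 (show orr (p a b) (anyP l p) = true from h) with h1 | h1
    · exact ⟨(a, b), List.mem_cons_self, h1⟩
    · obtain ⟨q, hq, h2⟩ := ih h1
      exact ⟨q, List.mem_cons_of_mem _ hq, h2⟩

theorem anyL_ex {α : Type} {L : List α} {p : α → Bool} (h : anyL L p = true) : ∃ a ∈ L, p a = true := by
  induction L with
  | nil => exact absurd h Bool.false_ne_true
  | cons a L ih =>
    rcases orr_iff.1 (show orr (p a) (anyL L p) = true from h) with h1 | h1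
    · exact ⟨a, List.mem_cons_self, h1⟩
    · obtain ⟨q, hq, h2⟩ := ih h1
      exact ⟨q, List.mem_cons_of_mem _ hq, h2⟩

theorem anyN_ex {n : ℕ} {p : ℕ → Bool} (h : anyN n p = true) : ∃ i, i < n ∧ p i = true := by
  induction n with
  | zero => exact absurd h Bool.false_ne_true
  | succ n ih =>
    rcases orr_iff.1 (show orr (p n) (anyN n p) = true from h) with h1 | h1
    · exact ⟨n, Nat.lt_succ_self n, h1⟩
    · obtain ⟨q, hq, h2⟩ := ih h1
      exact ⟨q, Nat.lt_succ_of_lt hq, h2⟩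

theorem nth_of_mem {α : Type} (d : α) {L : List α} {a : α} (h : a ∈ L) : ∃ i, i < L.length ∧ nth d L i = a := by
  induction L with
  | nil => exact absurd h List.not_mem_nil
  | cons b L ih =>
    rcases List.mem_cons.1 h with rfl | h1
    · exact ⟨0, Nat.succ_pos _, rfl⟩
    · obtain ⟨i, hi, h2⟩ := ih h1
      exact ⟨i + 1, Nat.succ_lt_succ hi, h2⟩

theorem iF_same {a b : Bool} (h : iF a b (nt b) = true) : a = true ↔ b = true := by
  cases a <;> cases b <;> simp_all [iF, nt]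

theorem lk_succ (X s : ℕ) : lk X (s + 1) = lk (X / 65536) s := by
  rw [lk_eq, lk_eq]
  unfold Pc.get
  rw [Nat.mul_succ, Nat.add_comm, Nat.shiftRight_add, Nat.shiftRight_eq_div_pow X 16]

theorem lk_low (X : ℕ) : lk X 0 = X % 65536 := by rw [lk_eq]; rfl

theorem lk_full : ∀ N X : ℕ, X < 2 ^ (16 * N) → (∀ s, s < N → lk X s ≤ 1) →
    X * 65535 < 2 ^ (16 * N) ∧ ∀ s, s < N → lk (X * 65535) s = lk X s * 65535
  | 0, X, h, _ => by
    have h1 : X = 0 := by simpa using h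
    rw [h1]
    exact ⟨Nat.one_pos, fun s hs => absurd hs (Nat.not_lt_zero s)⟩
  | N + 1, X, h, h0 => by
    rw [Nat.mul_succ 16 N, Nat.pow_add] at h ⊢
    obtain ⟨h1, h2⟩ := lk_full N (X / 65536) ((Nat.div_lt_iff_lt_mul (by norm_num)).2 h)
      fun s hs => lk_succ X s ▸ h0 _ (Nat.succ_lt_succ hs)
    have h3 := h0 0 (Nat.succ_pos N)
    rw [lk_low] at h3
    have h4 : X * 65535 / 65536 = X / 65536 * 65535 := by omega
    refine ⟨(Nat.div_lt_iff_lt_mul (by norm_num)).1 (h4.trans_lt h1), fun s hs => ?_⟩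
    cases s with
    | zero =>
      rw [lk_low, lk_low]
      omega
    | succ s => rw [lk_succ, lk_succ, h4, h2 s (Nat.lt_of_succ_lt_succ hs)]

theorem sm_eq {N X : ℕ} (V : ℕ) (h : X < 2 ^ (16 * N)) (h0 : ∀ s, s < N → lk X s ≤ 1) :
    Gp.sm V X = (∑ s ∈ Finset.range N, lk X s * lk V s) % 65535 := by
  obtain ⟨h1, h2⟩ := lk_full N X h h0
  unfold Gp.sm
  refine (InvAux.mod_sum N _ (Nat.and_lt_two_pow V h1)).trans ?_
  refine congrArg (· % 65535) (Finset.sum_congr rfl fun s hs => ?_)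
  have h3 := Finset.mem_range.1 hs
  rw [show V &&& X * 65535 = Nat.land V (X * 65535) from rfl, lk_land, h2 s h3]
  rcases Nat.le_one_iff_eq_zero_or_eq_one.1 (h0 s h3) with h4 | h4
  · rw [h4, Nat.zero_mul, Nat.zero_mul, Nat.and_zero]
  · rw [h4, Nat.one_mul, Nat.one_mul, show 65535 = 2 ^ 16 - 1 from rfl, Nat.and_two_pow_sub_one_eq_mod]
    exact Nat.mod_eq_of_lt (lk_lt V s)

theorem lk_parT {n c : ℕ} (hc : c < 2 ^ n) : lk (parT n) c = if Pc.par n c = true then 1 else 0 := by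
  unfold parT
  rw [lk_vec _ (fun a _ => by cases Pc.par n a <;> decide) (by rwa [one_shl])]
  cases Pc.par n c <;> rfl

/-! ### groups -/

variable {A : Type} [Group A]

/-- a subgroup of index at most two -/
def Ix (K : Subgroup A) : Prop := ∀ u v, u * v ∈ K ↔ (u ∈ K ↔ v ∈ K)

theorem ix_of {K : Subgroup A} {r : A} (h : ∀ u, u ∉ K → r⁻¹ * u ∈ K) : Ix K := fun u v => by
  by_cases hu : u ∈ K
  · rw [K.mul_mem_cancel_left hu]
    exact ⟨fun h1 => iff_of_true hu h1, fun h1 => h1.1 hu⟩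
  · by_cases hv : v ∈ K
    · rw [K.mul_mem_cancel_right hv]
      exact ⟨fun h1 => absurd h1 hu, fun h1 => h1.2 hv⟩
    · have h1 := K.mul_mem (K.inv_mem (h u⁻¹ fun h2 => hu (K.inv_mem_iff.1 h2))) (h v hv)
      rw [mul_inv_rev, inv_inv, inv_inv, mul_assoc, mul_inv_cancel_left] at h1
      exact iff_of_true h1 (iff_of_false hu hv)

theorem Ix.div {K : Subgroup A} (h : Ix K) (u v : A) : u⁻¹ * v ∈ K ↔ (u ∈ K ↔ v ∈ K) := by rw [h, K.inv_mem_iff]

theorem Ix.sq {K : Subgroup A} (h : Ix K) (u : A) : u * u ∈ K := (h u u).2 Iff.rfl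

theorem Ix.cj {K : Subgroup A} (h : Ix K) (s : A) (x : A) (hx : x ∈ K) : s * x * s⁻¹ ∈ K := by
  rw [h, h, K.inv_mem_iff]
  tauto

theorem Ix.cm {K : Subgroup A} (h : Ix K) (x y : A) : x * y * x⁻¹ * y⁻¹ ∈ K := by
  rw [h, h, h, K.inv_mem_iff, K.inv_mem_iff]
  tauto

/-- a subgroup of index two is the kernel of a parity -/
theorem Ix.mu {K : Subgroup A} (h : Ix K) (y : ℕ → A) (n : ℕ) :
    ∃ mu, mu < 2 ^ n ∧ ∀ a, el y n a ∈ K ↔ ¬ Pc.par n (a &&& mu) = true := by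
  classical
  refine ⟨Nat.ofBits fun i : Fin n => decide (y i ∉ K), Nat.ofBits_lt_two_pow _, fun a => ?_⟩
  have h1 : ∀ k, k ≤ n → (el y k a ∈ K ↔ ¬ Pc.par k (a &&& Nat.ofBits fun i : Fin n => decide (y i ∉ K)) = true) := by
    intro k
    induction k with
    | zero => exact fun _ => iff_of_true K.one_mem Bool.false_ne_true
    | succ k ih =>
      intro hk
      rw [el_succ, h, ih (by omega), Pc.par, Nat.testBit_and, Nat.testBit_ofBits_lt _ _ hk]
      generalize Pc.par k _ = b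
      by_cases h2 : y k ∈ K <;> cases a.testBit k <;> cases b <;> simp [h2]
  exact h1 n le_rfl

theorem comm_closure {X Y : Set A} (h : ∀ a ∈ X, ∀ b ∈ Y, a * b = b * a) :
    ∀ x ∈ Subgroup.closure X, ∀ y ∈ Subgroup.closure Y, x * y = y * x := fun x hx y hy => by
  have h1 : ∀ b ∈ Y, x * b = b * x := fun b hb => Subgroup.mem_centralizer_singleton_iff.1
    ((Subgroup.closure_le _).2 (fun a ha => Subgroup.mem_centralizer_singleton_iff.2 (h a ha b hb)) hx)
  exact (Subgroup.mem_centralizer_singleton_iff.1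
    ((Subgroup.closure_le _).2 (fun b hb => Subgroup.mem_centralizer_singleton_iff.2 (h1 b hb).symm) hy)).symm

/-- `s` fixes or swaps `T` and `R` -/
def Sw (T R : Subgroup A) (s : A) : Prop := ((∀ x ∈ T, s * x * s⁻¹ ∈ T) ∧ ∀ x ∈ R, s * x * s⁻¹ ∈ R) ∨
  ((∀ x ∈ T, s * x * s⁻¹ ∈ R) ∧ ∀ x ∈ R, s * x * s⁻¹ ∈ T)

theorem Sw.mul {T R : Subgroup A} {s t : A} (hs : Sw T R s) (ht : Sw T R t) : Sw T R (s * t) := by
  have h : ∀ x, s * t * x * (s * t)⁻¹ = s * (t * x * t⁻¹) * s⁻¹ := fun x => by group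
  unfold Sw
  simp only [h]
  rcases hs with hs | hs <;> rcases ht with ht | ht
  · exact Or.inl ⟨fun x hx => hs.1 _ (ht.1 x hx), fun x hx => hs.2 _ (ht.2 x hx)⟩
  · exact Or.inr ⟨fun x hx => hs.2 _ (ht.1 x hx), fun x hx => hs.1 _ (ht.2 x hx)⟩
  · exact Or.inr ⟨fun x hx => hs.1 _ (ht.1 x hx), fun x hx => hs.2 _ (ht.2 x hx)⟩
  · exact Or.inl ⟨fun x hx => hs.2 _ (ht.1 x hx), fun x hx => hs.1 _ (ht.2 x hx)⟩

theorem sw_closure [Finite A] {T R : Subgroup A} {X : Set A} (h : ∀ s ∈ X, Sw T R s) :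
    ∀ s ∈ Subgroup.closure X, Sw T R s := fun s hs => by
  have h1 : Sw T R 1 := Or.inl ⟨fun x hx => by simpa using hx, fun x hx => by simpa using hx⟩
  induction hs using Subgroup.closure_induction with
  | mem s hs => exact h s hs
  | one => exact h1
  | mul s t _ _ a b => exact a.mul b
  | inv s _ a =>
    have h2 : ∀ k, Sw T R (s ^ k) := fun k => by
      induction k with
      | zero => rwa [pow_zero]
      | succ k ih => exact pow_succ s k ▸ ih.mul a
    obtain ⟨k, hk⟩ := (Submonoid.mem_powers_iff _ _).1 (mem_powers_iff_mem_zpowers.2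
      ((Subgroup.zpowers s).inv_mem (Subgroup.mem_zpowers s)))
    exact hk ▸ h2 k

theorem imgT_spec {mul : ℕ → ℕ → ℕ} {N : ℕ} {e : ℕ → A} (h : En mul N e) {o : ℕ} (ho : o < N) (he : e o = 1) {w : ℕ → ℕ}
    {n : ℕ} (hw : ∀ i, i < n → w i < N) (a : ℕ) : ∀ k, k ≤ n →
      Asm.imgT mul o w k a < N ∧ Real.el (fun i => e (w i)) k a = e (Asm.imgT mul o w k a) := by
  intro k
  induction k with
  | zero => exact fun _ => ⟨ho, he.symm⟩
  | succ k ih =>
    intro hk
    obtain ⟨h5, h6⟩ := ih (by omega)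
    have h7 : Asm.imgT mul o w (k + 1) a =
      bif Real.tb a k then mul (Asm.imgT mul o w k a) (w k) else Asm.imgT mul o w k a := rfl
    rw [h7, Real.el_succ, h6]
    cases Real.tb a k
    · exact ⟨h5, rfl⟩
    · exact ⟨h.lt _ h5 _ (hw k hk), (h.mul _ h5 _ (hw k hk)).symm⟩

theorem chkT_lt {D : Real.PcD} {mul : ℕ → ℕ → ℕ} {o : ℕ} {w : ℕ → ℕ} (hc : Asm.chkT D mul o w = true) :
    ∀ i, i < D.n → w i < D.N := by
  unfold Asm.chkT at hc
  simp only [Bool.and_eq_true] at hc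
  exact fun i hi => Real.blt_lt (Real.allB_spec hc.1.1.1.2 hi)

/-- the second half of `Mode` for the kernel of the parity -/
theorem mode_iff {D : Real.PcD} {x : ℕ → A} (hx : Real.Gen D ⊤ x) {lam : ℕ} {K : Subgroup A} (hK : Ix K)
    (h : ∀ a, a < D.N → (Real.el x D.n a ∈ K ↔ ¬ Pc.par D.n (a &&& lam) = true)) (F : N.Sys A) :
    N.FocLe F K ↔ ∀ P f, Mp F P f → ∀ a b, a < D.N → b < D.N → Real.el x D.n a ∈ P →
      f (Real.el x D.n a) = Real.el x D.n b → Pc.par D.n (a &&& lam) = Pc.par D.n (b &&& lam) := by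
  refine ⟨fun h1 P f hf a b ha hb h2 h3 => ?_, fun h1 P f hf y hy => ?_⟩
  · have h4 := h1 P f hf _ h2
    rw [h3, hK.div, h a ha, h b hb, not_iff_not] at h4
    exact Bool.eq_iff_iff.2 h4
  · obtain ⟨a, ha, rfl⟩ := (hx.mem y).1 (Subgroup.mem_top y)
    obtain ⟨b, hb, h2⟩ := (hx.mem (f (Real.el x D.n a))).1 (Subgroup.mem_top _)
    rw [← h2, hK.div, h a ha, h b hb, h1 P f hf a b ha hb hy h2.symm]

end Fn

end Cfsg.Agent.FS.NB
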