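import Cfsg.Agent.FS.N.B.Lg

/-!
# The checker of part B: the search
-/

set_option autoImplicit false

namespace Cfsg.Agent.FS.NB

open Cfsg Cfsg.FusionSystem Cfsg.Agent.H752 Cfsg.Agent.FS.Th Cfsg.Agent.FS.Pc Cfsg.Agent.FS.Sw Cfsg.Agent.FS.B
open Asm (En)

variable {A : Type} [Group A] {g : Gp} {cx : Cx} {a : Ab A} {Q : Subgroup A} {τ : A} {t : ℕ} {e : ℕ → A} {f : A → A}
  {st : PM}

theorem ad_gens (hK : g.K) (hs : WF g st) {x y : ℕ} (hx : x < g.N) (hy : y < g.N) (hg : Gens e f Q st.gs)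
    (hQ : e x ∈ Q) (hxy : f (e x) = e y) : Gens e f Q (g.ad st x y).gs := by
  rcases (hK.ad_spec hs hx hy).2 with h | h
  · rwa [h]
  · rw [h]
    intro p hp
    rcases List.mem_cons.1 hp with rfl | hp
    · exact ⟨hQ, hxy⟩
    · exact hg p hp

theorem nxt_wf (hK : g.K) (hs : WF g st) (ht : t < g.N) {x y : ℕ} (hx : x < g.N) (hy : y < g.N) (fl : ℕ) :
    WF g (g.nxt t st x y fl) := by
  unfold Gp.nxt
  cases an (nz fl) (nz t)
  · exact (hK.ad_spec hs hx hy).1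
  · exact (hK.ad_spec (hK.ad_spec hs hx hy).1 (hK.cj_lt ht hy) (hK.cj_lt ht hx)).1

theorem nxt_gens (hK : g.K) (hc : CxOK g cx) (h : Hb g cx a Q τ t e f) (hs : WF g st) (ht : t < g.N) {x y : ℕ}
    (hx : x < g.N) (hy : y < g.N) (fl : ℕ) (hg : Gens e f Q st.gs) (hQ : e x ∈ Q) (hxy : f (e x) = e y) :
    Gens e f Q (g.nxt t st x y fl).gs := by
  unfold Gp.nxt
  by_cases h1 : an (nz fl) (nz t) = true
  · rw [iF_pos h1]
    obtain ⟨h2, h3⟩ := h.pair hK hc ht (nz_iff.1 (an_iff.1 h1).2) hx hy hQ hxy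
    exact ad_gens hK (hK.ad_spec hs hx hy).1 (hK.cj_lt ht hy) (hK.cj_lt ht hx) (ad_gens hK hs hx hy hg hQ hxy) h2 h3
  · rw [iF_neg h1]
    exact ad_gens hK hs hx hy hg hQ hxy

theorem stN_spec (hK : g.K) {x : Nx} (ha : AbOK g x a) (h : RN g x a e) {w : ℕ} (hl : g.stN x w = true) :
    RN g x a fun b => e (g.gam x w b) := by
  unfold Gp.stN at hl
  rw [an_iff, an_iff, an_iff, allL_iff] at hl
  obtain ⟨h1, h2⟩ := hK.gam_spec h.en ha.cl h.hl hl.1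
  obtain ⟨θ, hθ⟩ := h.en.exists_aut h1
  refine ⟨h1, h2, (hK.dom_stab h.en (fun _ hb => hK.gam_lt x w hb) h1 ha.wW hl.2.1).trans h.W, ?_,
    h.C.tr ha.wC hθ (h.C.aut hK h.en ha.wC ha.cC (fun _ hb => hK.gam_lt x w hb) θ hθ hl.2.2.2)⟩
  have h3 := hK.gam_lt x w ha.z_lt
  have h4 := (hK.mem_ws h.en ha.wW (h.en.lt _ (hK.i_lt _ ha.z_lt) _ h3)).1 hl.2.2.1
  rw [h.en.mul _ (hK.i_lt _ ha.z_lt) _ h3, hK.e_i h.en ha.z_lt, h.W] at h4
  have h5 := a.W.mul_mem h.z h4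
  rwa [mul_assoc, mul_inv_cancel_left] at h5

theorem dyn_spec (hK : g.K) (hc : CxOK g cx) (ha : AbOK g cx.nx a) (hs : WF g st) {x y w : ℕ} (hy : y < g.N)
    (hl : g.dyn cx t st x w = true) (h0 : Cy g cx a Q τ t st x y) :
    Cy g cx a Q τ t st x (g.cj0 (g.by' w 1) (g.gam cx.nx w y)) := by
  intro e f h hg hx1 hx0
  have he := h.rn.en
  unfold Gp.dyn Gp.stC at hl
  simp only [an_iff, nz_iff, beq_iff, allP_iff, orr_iff] at hl
  obtain ⟨⟨h1, h2, h3, h4⟩, h5, h6, h7⟩ := hl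
  have hγ : ∀ b, b < g.N → g.gam cx.nx w b < g.N := fun _ hb => hK.gam_lt _ w hb
  have hc' := hK.by_lt w 1
  have h8 := stN_spec hK ha h.rn h1
  have h9 : ¬ cx.ex = true → e (g.by' w 1) = 1 := fun h10 => by rw [h4.resolve_right h10, hK.e_zero he]
  have h10 : ¬ cx.ex = true → (fun u => (e (g.by' w 1))⁻¹ * f u * e (g.by' w 1)) = f := fun h10 => by
    funext u
    rw [h9 h10, inv_one, one_mul, mul_one]
  refine h0 (fun b => e (g.gam cx.nx w b)) (fun u => (e (g.by' w 1))⁻¹ * f u * e (g.by' w 1))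
    ⟨h8, (hK.dom_stab he hγ h8.en hc.wP (allP_iff.2 h2)).trans h.P, ?_, ?_, fun h11 => ?_, fun h11 => ?_,
      fun h11 => ?_⟩ (fun p hp => ?_) (fun h11 => ?_) fun h11 => ?_
  · have h11 := (h.mem hK hc (he.lt _ hc.t0 _ (hK.i_lt _ (hγ _ hc.t0)))).1 h3
    rw [he.mul _ hc.t0 _ (hK.i_lt _ (hγ _ hc.t0)), hK.e_i he (hγ _ hc.t0)] at h11
    have h12 := Q.mul_mem h.t0 h11
    rwa [mul_assoc, inv_mul_cancel_left] at h12
  · exact (h.mp.comp (mp_conj a.F le_top (Subgroup.mem_top (e (g.by' w 1))⁻¹)) fun _ _ => Subgroup.mem_top _).congr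
      fun u _ => by rw [inv_inv]
  · rw [h10 h11]
    exact h.au h11
  · rw [h10 (hc.nex' h11)]
    exact h.di h11
  · show _ ∧ e (g.gam cx.nx w t) = τ
    rw [h5]
    exact h.t h11
  · obtain ⟨h11, h12⟩ := h7 p hp
    have h13 := hγ _ (hs.gs p hp).2
    obtain ⟨-, -, h14, h15⟩ := (h.lk hs hg).1 (g.gam cx.nx w p.1) (by
      rw [h12]
      exact fun h14 => h11 ((hK.cj0_eq_zero he hc' h13).1 h14))
    refine ⟨h14, ?_⟩
    show (e (g.by' w 1))⁻¹ * f (e (g.gam cx.nx w p.1)) * e (g.by' w 1) = e (g.gam cx.nx w p.2)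
    rw [h15, h12, hK.e_cj0 he hc' h13]
    group
  · show (e (g.by' w 1))⁻¹ * f (e (g.gam cx.nx w x)) * e (g.by' w 1) = e (g.gam cx.nx w y)
    rw [h6, hx1 h11, hK.e_cj0 he hc' (hγ _ hy)]
    group
  · obtain ⟨h12, h13⟩ := hx0 h11
    refine ⟨h12, ?_⟩
    rw [hK.e_cj0 he hc' (hγ _ hy), h9 (hc.nex' h12), one_mul, inv_one, mul_one] at h13
    exact h13

/-- the values of the mask are settled -/
def Ms (g : Gp) (cx : Cx) (a : Ab A) (Q : Subgroup A) (τ : A) (t : ℕ) (st : PM) (x M : ℕ) : Prop :=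
  ∀ y, y < g.N → lk M y ≠ 0 → Cy g cx a Q τ t st x y

theorem Ms.lor {x M M' : ℕ} (h : Ms g cx a Q τ t st x M) (h' : Ms g cx a Q τ t st x M') :
    Ms g cx a Q τ t st x (Nat.lor M M') := fun y hy h1 => by
  by_cases h2 : lk M y = 0
  · exact h' y hy fun h3 => h1 (lk_lor_eq_zero.2 ⟨h2, h3⟩)
  · exact h y hy h2

theorem ms_zero {x : ℕ} : Ms g cx a Q τ t st x 0 := fun y _ h => absurd (lk_zero y) h

theorem ms_pt {x y : ℕ} (h : y < g.N → Cy g cx a Q τ t st x y) : Ms g cx a Q τ t st x (pt 1 y) := fun z hz h1 => by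
  rw [lk_pt (by norm_num)] at h1
  by_cases h2 : z = y
  · exact h2 ▸ h (h2 ▸ hz)
  · rw [if_neg h2] at h1
    exact absurd rfl h1

theorem ms_iF {x y : ℕ} {b : Bool} (h : b = true → y < g.N → Cy g cx a Q τ t st x y) :
    Ms g cx a Q τ t st x (iF b (pt 1 y) 0) := by
  cases b
  · exact ms_zero
  · exact ms_pt (h rfl)

theorem syms_spec (hK : g.K) (hc : CxOK g cx) (ha : AbOK g cx.nx a) (hs : WF g st) {x gv sy M : ℕ}
    (h : Ms g cx a Q τ t st x M) : ∀ k, Ms g cx a Q τ t st x (g.syms cx t st x gv sy M k) := by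
  intro k
  induction k with
  | zero => exact h
  | succ k ih =>
    show Ms g cx a Q τ t st x (frc _ (g.sym1 cx t st x (g.syms cx t st x gv sy M k) (g.by' sy (Nat.add k k))))
    rw [frc_eq]
    unfold Gp.sym1
    generalize Nat.land _ 18446744073709551615 = w
    by_cases h1 : an (nz (lk (g.syms cx t st x gv sy M k) (g.by' sy (Nat.add k k)))) (g.dyn cx t st x w) = true
    · rw [iF_pos h1]
      rw [an_iff, nz_iff] at h1
      exact ih.lor (ms_pt fun _ => dyn_spec hK hc ha hs (hK.by_lt _ _) h1.2 (ih _ (hK.by_lt _ _) h1.1))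
    · rw [iF_neg h1]
      exact ih

/-- the true image is not excluded -/
theorem flt_zero (hK : g.K) (hc : CxOK g cx) (h : Hb g cx a Q τ t e f) (hs : WF g st) (hg : Gens e f Q st.gs)
    {x y : ℕ} (hx : x < g.N) (hy : y < g.N) (hQ : e x ∈ Q) (hxy : f (e x) = e y) : lk (g.flt cx st x) y = 0 := by
  have he := h.rn.en
  have hv := h.val hs hg
  unfold Gp.flt
  rw [lk_lor_eq_zero, lk_lor_eq_zero, lk_xor_eq_zero, hK.lk_mul_O (lk_lt _ _) hy, lk_foP_eq_zero]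
  refine ⟨(h.inv hK hc x hx y hy hQ hxy).symm, ?_, fun p hp => ?_⟩
  · by_cases h1 : mem st (g.q x) = true
    · rw [iF_pos h1, lk_xor_eq_zero, hK.lk_mul_O (lk_lt _ _) hy]
      obtain ⟨h2, h3⟩ := hK.tab_val he hs hv (hK.q_lt hx) ((hK.mem_val he hs hv (hK.q_lt hx)).1 h1)
      refine he.inj (hK.q_lt hy) h2 ?_
      rw [← h3, hK.e_q he hx, h.mp.mul hQ hQ, hxy]
      exact hK.e_q he hy
    · rw [iF_neg h1, lk_zero]
  · by_cases h1 : nz (lk st.tab (g.cj x p.1)) = true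
    · rw [iF_pos h1]
      obtain ⟨-, h2, h3, h4⟩ := (h.lk hs hg).1 _ (nz_iff.1 h1)
      rw [hK.tw_zero he (hs.gs p hp).2 h2 hy, ← h4, ← hxy, ← (hg p hp).2, ← h.mp.mul hQ (hg p hp).1,
        ← h.mp.mul h3 hQ, hK.e_cj he hx (hs.gs p hp).1, inv_mul_cancel_right]
    · rw [iF_neg h1, lk_zero]

theorem cov_lt (hK : g.K) (hc : CxOK g cx) (he : En g.m g.N e) {x M : ℕ} (hl : g.cov cx st x M = true) :
    x < g.N ∧ mem cx.P x = true ∧ x ≠ 0 := by
  unfold Gp.cov at hl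
  rw [an_iff, nz_iff] at hl
  have h1 := (Gp.K.lk_val hc.wP.toWF (Gp.K.val_ws he hc.wP) le_rfl).1
  exact ⟨(h1 x hl.1).1, mem_iff'.2 (Or.inl hl.1), fun h2 => hl.1 (by rw [h2]; exact h1.zero hK he (hm_id _))⟩

theorem cov_spec (hK : g.K) (hc : CxOK g cx) (h : Hb g cx a Q τ t e f) (hs : WF g st) (hg : Gens e f Q st.gs)
    {x M : ℕ} (hl : g.cov cx st x M = true) (hM : Ms g cx a Q τ t st x M) : a.G := by
  have he := h.rn.en
  obtain ⟨hx, h1, h0⟩ := cov_lt hK hc he hl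
  have hQ := (h.mem hK hc hx).1 h1
  unfold Gp.cov at hl
  rw [an_iff, an_iff, beq_iff, beq_iff] at hl
  obtain ⟨-, h2, h3⟩ := hl
  obtain ⟨y, hy, hxy⟩ := he.surj (f (e x))
  refine hM y hy (fun h4 => ?_) e f h hg (fun _ => hxy.symm) fun h4 => absurd h4 h0
  have h5 : lk (Nat.lor (Nat.lor (g.nzm (Nat.lor (g.flt cx st x) st.itab)) 1) (Nat.lor cx.ntg M)) y = 0 := by
    rw [lk_lor_eq_zero, lk_lor_eq_zero, lk_lor_eq_zero, hK.lk_nzm _ hy, lk_one]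
    refine ⟨⟨if_pos (lk_lor_eq_zero.2 ⟨flt_zero hK hc h hs hg hx hy hQ hxy.symm, ?_⟩), if_neg fun h5 => ?_⟩, ?_, h4⟩
    · by_contra h5
      have hv := h.val hs hg
      obtain ⟨-, h6, h7, h8⟩ := (h.lk hs hg).2 y h5
      have h9 : lk st.itab y = x := he.inj h6 hx (h.mp.inj h7 hQ (h8.trans hxy))
      have h10 := (hv.el _ (hv.itab y h5)).2.2.1
      rw [h9, h2] at h10
      have h11 : y = 0 := h10.symm
      rw [h11, hK.e_zero he, ← h.mp.one] at hxy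
      exact h0 ((hK.e_eq_one he hx).1 (h.mp.inj hQ Q.one_mem hxy.symm))
    · rw [h5, hK.e_zero he, ← h.mp.one] at hxy
      exact h0 ((hK.e_eq_one he hx).1 (h.mp.inj hQ Q.one_mem hxy.symm))
    · by_cases h5 : cx.ex = true
      · rw [(hc.ex h5).2.1, lk_zero]
      · rw [(hc.nex h5).1, lk_xor_eq_zero, hK.lk_O hy, hK.lk_msk _ hy,
          if_pos ((h.mem hK hc hy).2 (hxy ▸ (h.au h5).mem _ hQ))]
  rw [h3, hK.lk_O hy] at h5
  exact one_ne_zero h5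

theorem covT_spec (hK : g.K) (hc : CxOK g cx) (h : Hb g cx a Q τ t e f) (hg : Gens e f Q st.gs)
    {M : ℕ} (hl : g.covT cx M = true) (hM : Ms g cx a Q τ t st 0 M) : a.G := by
  have he := h.rn.en
  unfold Gp.covT at hl
  rw [an_iff, nz_iff, beq_iff] at hl
  obtain ⟨y, hy, h1⟩ := he.surj τ
  refine hM y hy (fun h2 => ?_) e f h hg (fun h2 => absurd rfl h2) fun _ => ⟨hl.1, h1⟩
  have hd := h.di hl.1
  refine (hK.lk_cos he hc.wP hc.t0 hy).2 ?_ ?_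
  · rw [h.P, h1]
    have h3 := Q.mul_mem (Q.mul_mem (Q.inv_mem hd.tsq) (hd.tN _ h.t0)) hd.tsq
    have h4 : (τ * τ)⁻¹ * (τ * (τ * (e cx.t0)⁻¹) * τ⁻¹) * (τ * τ) = (e cx.t0)⁻¹ * τ := by group
    rwa [h4] at h3
  · rw [← hl.2, lk_land, h2, Nat.and_zero]

theorem go_spec (hK : g.K) (hc : CxOK g cx) (ha : AbOK g cx.nx a)
    (hcu : ∀ t w, cx.cu t w = true → Cl g cx a Q τ t (g.mkP w)) (c : Ct) : ∀ t st, t < g.N → WF g st →
      ((g.go cx c).1 t st = true → Cl g cx a Q τ t st) ∧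
        ∀ x, x < g.N → mem cx.P x = true → Ms g cx a Q τ t st x ((g.go cx c).2 t st x) := by
  induction c with
  | nil => exact fun t st _ _ => ⟨fun h => absurd h Bool.false_ne_true, fun _ _ _ => ms_zero⟩
  | cons y fl sub rest ih1 ih2 =>
    refine fun t st ht hs => ⟨fun h => absurd h Bool.false_ne_true, fun x hx hP => ?_⟩
    refine Ms.lor (ms_iF fun h1 hy e f h hg hx1 hx0 => ?_) ((ih2 t st ht hs).2 x hx hP)
    rcases iF_iff.1 h1 with ⟨h2, h3⟩ | ⟨h2, h3⟩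
    · exact (ih1 t _ ht (nxt_wf hK hs ht hx hy fl)).1 h3 e f h
        (nxt_gens hK hc h hs ht hx hy fl hg ((h.mem hK hc hx).1 hP) (hx1 (nz_iff.1 h2)))
    · obtain ⟨h4, h5⟩ := hx0 (not_not.1 fun h4 => h2 (nz_iff.2 h4))
      have h6 : e (g.q y) = τ * τ := by rw [hK.e_q h.rn.en hy, h5]
      exact (ih1 y _ hy (hK.ad_spec hs (hK.q_lt hy) (hK.q_lt hy)).1).1 h3 e f
        ⟨h.rn, h.P, h.t0, h.mp, h.au, h.di, fun _ => ⟨h4, h5⟩⟩
        (ad_gens hK hs (hK.q_lt hy) (hK.q_lt hy) hg (h6 ▸ (h.di h4).tsq) (h6 ▸ (h.di h4).fix))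
  | br x gv sy kids ih =>
    refine fun t st ht hs => ⟨fun h1 e f h hg => ?_, fun _ _ _ => ms_zero⟩
    rcases iF_iff.1 h1 with ⟨-, h3⟩ | ⟨h2, h3⟩
    · obtain ⟨h4, h5, -⟩ := cov_lt hK hc h.rn.en h3
      exact cov_spec hK hc h hs hg h3 (syms_spec hK hc ha hs ((ih t st ht hs).2 x h4 h5) _)
    · have h4 : x = 0 := not_not.1 fun h4 => h2 (nz_iff.2 h4)
      subst h4
      exact covT_spec hK hc h hg h3
        (syms_spec hK hc ha hs ((ih t st ht hs).2 0 hK.N_pos (mem_iff'.2 (Or.inr rfl))) _)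
  | kil y fl d rest ih =>
    refine fun t st ht hs => ⟨fun h => absurd h Bool.false_ne_true, fun x hx hP => ?_⟩
    exact Ms.lor (ms_iF fun h1 hy e f h hg hx1 _ =>
      (kil_false hK hc h ht hs hg hx hy ((h.mem hK hc hx).1 hP) hx1 h1).elim) ((ih t st ht hs).2 x hx hP)
  | lf d =>
    exact fun t st ht hs => ⟨fun h1 e f h hg => (lfK_false hK hc h ht (h.lk hs hg).1 (h.lk hs hg).2 h1).elim,
      fun _ _ _ => ms_zero⟩
  | mc w => exact fun t st _ hs => ⟨fun h1 e f h hg => (lfMc_false hK hc ha h hs hg h1).elim, fun _ _ _ => ms_zero⟩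
  | ur ch => exact fun t st _ hs => ⟨fun h1 e f h hg => (lfUr_false hK hc h hs hg h1).elim, fun _ _ _ => ms_zero⟩
  | v1 T K w k =>
    exact fun t st _ hs => ⟨fun h1 e f h hg => (lfV1_false hK hc ha h hs hg (hK.ws_mkS T) (hK.ws_mkS K) h1).elim,
      fun _ _ _ => ms_zero⟩
  | ine w => exact fun t st _ hs => ⟨fun h1 e f h hg => (lfIn_false hK hc ha h hs hg h1).elim, fun _ _ _ => ms_zero⟩
  | ref k B ws => exact fun t st _ hs => ⟨fun h1 e f h hg => lfRef_goal hK ha h hs hg h1, fun _ _ _ => ms_zero⟩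
  | cut w => exact fun t st _ hs => ⟨fun h1 e f h hg => lfCut_goal hcu h hs hg h1, fun _ _ _ => ms_zero⟩

end Cfsg.Agent.FS.NB
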