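import Cfsg.Agent.FS.N.B.Go
import Cfsg.Agent.FS.N.B.Dx

/-!
# The checker of part B for S5288, second version: the search
-/

set_option autoImplicit false

namespace Cfsg.Agent.FS.NB

open Cfsg Cfsg.FusionSystem Cfsg.Agent.H752 Cfsg.Agent.FS.Th Cfsg.Agent.FS.Pc Cfsg.Agent.FS.Sw Cfsg.Agent.FS.B
open Asm (En)

section

variable {A : Type} [Group A] {F : FusionSystem (⊤ : Subgroup A)}

theorem iter_top {k : A → A} (hk : Mp F ⊤ k) (h : ∀ x, k x * x⁻¹ ∈ Sq (⊤ : Subgroup A)) :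
    ∀ n, Mp F ⊤ k^[n] ∧ ∀ x, k^[n] x * x⁻¹ ∈ Sq (⊤ : Subgroup A)
  | 0 => ⟨mp_id F le_rfl, fun x => by
    rw [Function.iterate_zero_apply, mul_inv_cancel]
    exact Subgroup.one_mem _⟩
  | n + 1 => by
    obtain ⟨h1, h2⟩ := iter_top hk h n
    refine ⟨hk.comp h1 fun _ _ => Subgroup.mem_top _, fun x => ?_⟩
    have h3 := Subgroup.mul_mem _ (h2 (k x)) (h x)
    rwa [mul_assoc, inv_mul_cancel_left] at h3

/-- an automorphism of the system which is trivial modulo the squares is inner -/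
theorem inn_of_triv [Finite A] (hA : IsPGroup 2 A) (hF : F.IsSaturated 2) : ∀ n, 0 < n → ∀ k : A → A, Mp F ⊤ k →
    (∀ x, k x * x⁻¹ ∈ Sq (⊤ : Subgroup A)) → (∀ x, k^[n] x = x) → ∃ s, ∀ x, k x = s * x * s⁻¹ := by
  intro n
  induction n using Nat.strong_induction_on with
  | _ n ih =>
    intro hn k hk h1 h2
    have t := fun y : A => Subgroup.mem_top y
    by_cases h3 : n = 1
    · subst h3
      exact ⟨1, fun x => by rw [one_mul, inv_one, mul_one]; exact h2 x⟩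
    obtain ⟨m, hm⟩ := Nat.minFac_dvd n
    have hr := Nat.minFac_prime h3
    generalize n.minFac = r at hm hr
    have h4 : 0 < m := Nat.pos_of_ne_zero fun h => by rw [h] at hm; omega
    have h5 : m < n := by
      have := hr.two_le
      rw [hm]
      nlinarith
    by_cases h6 : r = 2
    · obtain ⟨s, h7⟩ := ih m h5 h4 _ (iter_top hk h1 2).1 (iter_top hk h1 2).2 fun x => by
        rw [← Function.iterate_mul, ← h6, ← hm, h2]
      obtain ⟨c, -, h8⟩ := exists_conj_of_sq (hA.to_subgroup ⊤) hF (isFullyNormalized_of_normal F le_rfl fun _ _ _ _ => t _)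
        hk (fun _ _ => t _) (fun u _ => ⟨k u, t _, fun x _ => by rw [hk.mul (t _) (t _), hk.mul (t _) (t _), hk.inv (t _)]⟩)
        ⟨s, t _, fun x _ => h7 x⟩
      exact ⟨c, fun x => h8 x (t _)⟩
    · refine ih m h5 h4 k hk h1 fun x => by_contra fun h7 => ?_
      refine Tr.false (M := fun _ _ => False) (K := ⊤) hA ⟨(iter_top hk h1 m).1, fun _ _ => t _, ⟨r, 1, hr, h6, fun y _ => ?_⟩,
        fun h8 => h7 (h8 x (t _)), id⟩ ⟨le_top, le_rfl, fun _ _ => t _, fun y _ => (iter_top hk h1 m).2 y⟩ le_rfl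
      rw [pow_one, ← Function.iterate_mul, Nat.mul_comm, ← hm, h2]

theorem inF_of [Finite A] (hA : IsPGroup 2 A) (hF : F.IsSaturated 2) {M : Subgroup A → (A → A) → Prop} (hM : Closed F M)
    {f ψ : A → A} (hf : Mp F ⊤ f) (h1 : Mp F ⊤ ψ) (h2 : M ⊤ ψ) {X : Set A} (hX : Subgroup.closure X = ⊤)
    (h : ∀ x ∈ X, (ψ x)⁻¹ * f x ∈ Sq (⊤ : Subgroup A)) : M ⊤ f := by
  have t := fun y : A => Subgroup.mem_top y
  obtain ⟨R, χ, h3, -, h4⟩ := word_inv hM h1 h2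
  obtain rfl : R = ⊤ := top_le_iff.1 fun y hy => by
    obtain ⟨x, hx, rfl⟩ := h1.surj (fun _ _ => t _) hy
    exact (h4 x hx).1
  have h5 := hf.comp h3 fun _ _ => t _
  have h6 : ∀ x ∈ Sq (⊤ : Subgroup A), χ x ∈ Sq (⊤ : Subgroup A) :=
    mem_of_gens' (X := {y | ∃ a ∈ (⊤ : Subgroup A), y = a * a}) (fun _ _ => t _) h3
      fun _ ⟨a, ha, h7⟩ => by rw [h7, h3.mul ha ha]; exact sq_mem (t _)
  have h7 : ∀ x, χ (f x) * x⁻¹ ∈ Sq (⊤ : Subgroup A) := fun x =>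
    triv_gens (g := fun x => χ (f x)) le_rfl le_top (fun _ _ => t _) (fun _ a _ b => h5.mul a b) (X := X) (fun _ _ => t _)
      (fun y hy => by
        have h8 := conj_mem_of_sq le_rfl le_top (t y) (h6 _ (h y hy))
        rwa [h3.mul (t _) (t _), h3.inv (t _), (h4 y (t _)).2, mul_inv_cancel_left] at h8) x (hX ▸ t x)
  let σ : Equiv.Perm A := Equiv.ofBijective (fun x => χ (f x))
    (Finite.injective_iff_bijective.1 fun _ _ h8 => h5.inj (t _) (t _) h8)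
  obtain ⟨s, h8⟩ := inn_of_triv hA hF (orderOf σ) (orderOf_pos σ) _ h5 h7 fun x => by
    have h8 : (fun x => χ (f x)) = σ := rfl
    rw [h8, ← Equiv.Perm.coe_pow, pow_orderOf_eq_one]
    rfl
  have h9 := mp_conj F (P := ⊤) le_rfl (t s)
  refine hM.congr _ _ _ (h9.comp h1 fun _ _ => t _) (hM.comp _ _ _ _ h9 h1 (hM.conj ⊤ le_rfl s (t s)) h2 fun _ _ => t _)
    fun x _ => ?_
  obtain ⟨y, -, h10⟩ := h1.surj (fun _ _ => t _) (t (f x))
  show f x = ψ (s * x * s⁻¹)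
  rw [← h8 x, ← h10, (h4 y (t _)).2]

end

variable {A : Type} [Group A] {g : Gp} {cx : Cx} {a : Ab A} {Q : Subgroup A} {τ : A} {t : ℕ} {e : ℕ → A} {f : A → A}
  {st : PM}

theorem dyn2_spec (hK : g.K) (hc : CxOK g cx) (ha : AbOK g cx.nx a) (hs : WF g st) {x y w : ℕ} (hx : x < g.N)
    (hP : mem cx.P x = true) (hy : y < g.N) (hl : g.dyn2 cx t st x w = true) (h0 : Cy g cx a Q τ t st x y) :
    Cy g cx a Q τ t st x (g.m (g.cj0 (g.by' w 1) (g.gam cx.nx w y)) (g.i (lk st.tab (g.df cx x w)))) := by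
  intro e f h hg hx1 hx0
  have he := h.rn.en
  unfold Gp.dyn2 Gp.stC at hl
  simp only [an_iff, nz_iff, beq_iff, allP_iff, orr_iff] at hl
  obtain ⟨⟨h1, h2, h3, h4⟩, h5, h6, h7⟩ := hl
  have hγ : ∀ b, b < g.N → g.gam cx.nx w b < g.N := fun _ hb => hK.gam_lt _ w hb
  have hc' := hK.by_lt w 1
  have h8 := stN_spec hK ha h.rn h1
  have h9 : ¬ cx.ex = true → e (g.by' w 1) = 1 := fun h10 => by rw [h4.resolve_right h10, hK.e_zero he]
  have h10 : ¬ cx.ex = true → (fun u => (e (g.by' w 1))⁻¹ * f u * e (g.by' w 1)) = f := fun h10 => by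
    funext u
    rw [h9 h10, inv_one, one_mul, mul_one]
  have d1 : g.df cx x w < g.N := he.lt _ (hK.i_lt _ hx) _ (hγ _ hx)
  have d2 : e (g.df cx x w) = (e x)⁻¹ * e (g.gam cx.nx w x) := by
    unfold Gp.df
    rw [he.mul _ (hK.i_lt _ hx) _ (hγ _ hx), hK.e_i he hx]
  have d3 := (hK.mem_val he hs (h.val hs hg) d1).1 h6
  obtain ⟨d4, d5⟩ := hK.tab_val he hs (h.val hs hg) d1 d3
  have d6 : e (g.m (g.cj0 (g.by' w 1) (g.gam cx.nx w y)) (g.i (lk st.tab (g.df cx x w)))) =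
      e (g.by' w 1) * e (g.gam cx.nx w y) * (e (g.by' w 1))⁻¹ * (f (e (g.df cx x w)))⁻¹ := by
    rw [he.mul _ (hK.cj0_lt hc' (hγ _ hy)) _ (hK.i_lt _ d4), hK.e_i he d4, hK.e_cj0 he hc' (hγ _ hy), d5]
  refine h0 (fun b => e (g.gam cx.nx w b)) (fun u => (e (g.by' w 1))⁻¹ * f u * e (g.by' w 1))
    ⟨h8, (hK.dom_stab he hγ h8.en hc.wP (allP_iff.2 h2)).trans h.P, ?_, ?_, fun h11 => ?_, fun h11 => ?_,
      fun h11 => ?_⟩ (fun p hp => ?_) (fun h11 => ?_) fun h11 => ?_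
  · have h11 := (h.mem hK hc (he.lt _ hc.t0 _ (hK.i_lt _ (hγ _ hc.t0)))).1 h3
    rw [he.mul _ hc.t0 _ (hK.i_lt _ (hγ _ hc.t0)), hK.e_i he (hγ _ hc.t0)] at h11
    have h12 := Q.mul_mem h.t0 h11
    rwa [mul_assoc, inv_mul_cancel_left] at h12
  · exact (h.mp.comp (mp_conj a.F le_top (Subgroup.mem_top (e (g.by' w 1))⁻¹)) fun _ _ => Subgroup.mem_top _).congr
      fun u _ => by rw [inv_inv]
  · rw [h10 h11]
    exact h.au h11
  · rw [h10 (hc.nex' h11)]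
    exact h.di h11
  · show _ ∧ e (g.gam cx.nx w t) = τ
    rw [h5]
    exact h.t h11
  · obtain ⟨h11, h12⟩ := h7 p hp
    have h13 := hγ _ (hs.gs p hp).2
    obtain ⟨-, -, h14, h15⟩ := (h.lk hs hg).1 (g.gam cx.nx w p.1) (by
      rw [h12]
      exact fun h14 => h11 ((hK.cj0_eq_zero he hc' h13).1 h14))
    refine ⟨h14, ?_⟩
    show (e (g.by' w 1))⁻¹ * f (e (g.gam cx.nx w p.1)) * e (g.by' w 1) = e (g.gam cx.nx w p.2)
    rw [h15, h12, hK.e_cj0 he hc' h13]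
    group
  · show (e (g.by' w 1))⁻¹ * f (e (g.gam cx.nx w x)) * e (g.by' w 1) = e (g.gam cx.nx w y)
    rw [← mul_inv_cancel_left (e x) (e (g.gam cx.nx w x)), ← d2, h.mp.mul ((h.mem hK hc hx).1 hP) (hg.le d3), hx1 h11, d6]
    group
  · obtain ⟨h12, h13⟩ := hx0 h11
    refine ⟨h12, ?_⟩
    have h14 : e (g.gam cx.nx w 0) = 1 := hK.e_zero h8.en
    rw [d6, h9 (hc.nex' h12), one_mul, inv_one, mul_one, d2, h11, h14, hK.e_zero he, inv_one, mul_one, h.mp.one, inv_one,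
      mul_one] at h13
    exact h13

theorem syms2_spec (hK : g.K) (hc : CxOK g cx) (ha : AbOK g cx.nx a) (hs : WF g st) {x gv sy M : ℕ} (hx : x < g.N)
    (hP : mem cx.P x = true) (h : Ms g cx a Q τ t st x M) :
    ∀ k, Ms g cx a Q τ t st x (g.syms2 cx t st x gv sy M k) := by
  intro k
  induction k with
  | zero => exact h
  | succ k ih =>
    show Ms g cx a Q τ t st x (frc _ (g.sym2 cx t st x (g.syms2 cx t st x gv sy M k) (g.by' sy (Nat.add k k))))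
    rw [frc_eq]
    unfold Gp.sym2
    generalize Nat.land _ 18446744073709551615 = w
    by_cases h1 : an (nz (lk (g.syms2 cx t st x gv sy M k) (g.by' sy (Nat.add k k)))) (g.dyn2 cx t st x w) = true
    · rw [iF_pos h1]
      rw [an_iff, nz_iff] at h1
      exact ih.lor (ms_pt fun _ => dyn2_spec hK hc ha hs hx hP (hK.by_lt _ _) h1.2 (ih _ (hK.by_lt _ _) h1.1))
    · rw [iF_neg h1]
      exact ih

theorem cov_img (hK : g.K) (hc : CxOK g cx) (h : Hb g cx a Q τ t e f) (hs : WF g st) (hg : Gens e f Q st.gs)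
    {x M : ℕ} (hl : g.cov cx st x M = true) : ∃ y, y < g.N ∧ f (e x) = e y ∧ lk M y ≠ 0 := by
  have he := h.rn.en
  obtain ⟨hx, h1, h0⟩ := cov_lt hK hc he hl
  have hQ := (h.mem hK hc hx).1 h1
  unfold Gp.cov at hl
  rw [an_iff, an_iff, beq_iff, beq_iff] at hl
  obtain ⟨-, h2, h3⟩ := hl
  obtain ⟨y, hy, hxy⟩ := he.surj (f (e x))
  refine ⟨y, hy, hxy.symm, fun h4 => ?_⟩
  have h5 : lk (Nat.lor (Nat.lor (g.nzm (Nat.lor (g.flt cx st x) st.itab)) 1) (Nat.lor cx.ntg M)) y = 0 := by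
    rw [lk_lor_eq_zero, lk_lor_eq_zero, lk_lor_eq_zero, hK.lk_nzm _ hy, lk_one]
    refine ⟨⟨if_pos (lk_lor_eq_zero.2 ⟨flt_zero hK hc h hs hg hx hy hQ hxy.symm, ?_⟩), if_neg fun h5 => ?_⟩, ?_, h4⟩
    · by_contra h5
      have hv := h.val hs hg
      obtain ⟨-, h6, h7, h8⟩ := (h.lk hs hg).2 y h5
      have h9 : lk st.itab y = x := he.inj h6 hx (h.mp.inj h7 hQ (h8.trans hxy))
      have h10 := (hv.el _ (hv.itab y h5)).2.2.1
      rw [h9, h2] at h10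
      have h11 : y = 0 := h10.symm
      rw [h11, hK.e_zero he, ← h.mp.one] at hxy
      exact h0 ((hK.e_eq_one he hx).1 (h.mp.inj hQ Q.one_mem hxy.symm))
    · rw [h5, hK.e_zero he, ← h.mp.one] at hxy
      exact h0 ((hK.e_eq_one he hx).1 (h.mp.inj hQ Q.one_mem hxy.symm))
    · by_cases h5 : cx.ex = true
      · rw [(hc.ex h5).2.1, lk_zero]
      · rw [(hc.nex h5).1, lk_xor_eq_zero, hK.lk_O hy, hK.lk_msk _ hy,
          if_pos ((h.mem hK hc hy).2 (hxy ▸ (h.au h5).mem _ hQ))]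
  rw [h3, hK.lk_O hy] at h5
  exact one_ne_zero h5

theorem dyI_spec (hK : g.K) (hc : CxOK g cx) (h : Hb g cx a Q τ t e f) (hs : WF g st) (hg : Gens e f Q st.gs)
    {x M : ℕ} (hl : g.dyI cx st M x = true) : x < g.N ∧ e x ∈ Q ∧ ∃ y, y < g.N ∧ f (e x) = e y ∧ lk M y ≠ 0 := by
  unfold Gp.dyI at hl
  rcases iF_iff.1 hl with ⟨h1, h2⟩ | ⟨-, h2⟩
  · obtain ⟨h3, h4, h5, h6⟩ := (h.lk hs hg).1 x (nz_iff.1 h1)
    exact ⟨h3, h5, _, h4, h6, nz_iff.1 h2⟩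
  · obtain ⟨h3, h4, -⟩ := cov_lt hK hc h.rn.en h2
    exact ⟨h3, (h.mem hK hc h3).1 h4, cov_img hK hc h hs hg h2⟩

theorem dyI_msk (hK : g.K) (hc : CxOK g cx) (h : Hb g cx a Q τ t e f) (hs : WF g st) (hg : Gens e f Q st.gs)
    {K : PM} (hK' : WS g K) {x : ℕ} (hl : g.dyI cx st (g.msk K) x = true) : e x ∈ Q ∧ f (e x) ∈ dom e K := by
  obtain ⟨-, h1, y, hy, h2, h3⟩ := dyI_spec hK hc h hs hg hl
  refine ⟨h1, h2 ▸ (hK.mem_ws h.rn.en hK' hy).1 (by_contra fun h4 => h3 ?_)⟩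
  rw [hK.lk_msk K hy, if_neg h4]

theorem lfM2_false (hK : g.K) (hc : CxOK g cx) (ha : AbOK g cx.nx a) (h : Hb g cx a Q τ t e f) (hx : ¬ cx.ex = true)
    (hs : WF g st) (hg : Gens e f Q st.gs) {w : ℕ} (hl : g.lfM2 cx st w = true) : False := by
  have he := h.rn.en
  unfold Gp.lfM2 at hl
  simp only [an_iff, iF_iff, beq_iff, allP_iff] at hl
  have hw := hK.ws_mkS w
  have hW : ∀ {y : ℕ}, y < g.N → (mem cx.nx.W y = true ↔ e y ∈ a.W) := fun hy => h.rn.W ▸ hK.mem_ws he ha.wW hy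
  refine (h.au hx).nm ?_
  rcases hl with ⟨h1, h2, hl⟩ | ⟨-, ⟨h1, h2, hl⟩ | ⟨-, h1, h2, h3⟩⟩
  · have h3 : dom e (g.mkS w) = a.W := (hK.dom_of_tab he hw ha.wW h2).trans h.rn.W
    have h4 := fun p hp => dyI_msk hK hc h hs hg ha.wW (hl p hp)
    refine ha.k1 h1 Q f h.mp (h3 ▸ dom_le fun p hp => (h4 p hp).1) ?_
    rw [← h3]
    refine mem_of_gens (X := gS e (g.mkS w).gs) (fun _ ⟨p, hp, h5⟩ => h5 ▸ (h4 p hp).1) h.mp ?_
    rintro _ ⟨p, hp, rfl⟩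
    rw [h3, ← h.rn.W]
    exact (h4 p hp).2
  · obtain ⟨h5, h6, h7⟩ := ha.k2 h1
    have h3 : dom e (g.mkS w) = Q := (hK.dom_of_tab he hw hc.wP h2).trans h.P
    refine h7 Q f h.mp (focP_of_gens h6 h.mp (X := gS e (g.mkS w).gs) h3.symm ?_)
    rintro _ ⟨p, hp, rfl⟩
    obtain ⟨hp', -, y, hy, h10, h11⟩ := dyI_spec hK hc h hs hg (hl p hp)
    rw [h10]
    by_cases h9 : mem cx.nx.W p.1 = true
    · rw [iF_pos h9, hK.lk_msk _ hy] at h11
      exact a.W.mul_mem (a.W.inv_mem ((hW hp').1 h9)) ((hW hy).1 (by_contra fun h12 => h11 (if_neg h12)))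
    · rw [iF_neg h9] at h11
      refine h5 _ _ (fun h12 => h9 ((hW hp').2 h12)) fun h12 => h11 ?_
      rw [lk_xor_eq_zero, hK.lk_O hy, hK.lk_msk _ hy, if_pos ((hW hy).2 h12)]
  · obtain ⟨h5, h7, y, hy, h8, h9⟩ := dyI_spec hK hc h hs hg h3
    have h10 := (hW (he.lt _ (hK.i_lt _ ha.z_lt) _ h5)).1 h2
    rw [he.mul _ (hK.i_lt _ ha.z_lt) _ h5, hK.e_i he ha.z_lt] at h10
    have h11 := (hK.lk_cos he ha.wW ha.z_lt hy).1 h9
    rw [h.rn.W] at h11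
    have h12 := a.W.mul_mem h.rn.z h10
    have h13 := a.W.mul_mem h.rn.z h11
    rw [mul_assoc, mul_inv_cancel_left] at h12 h13
    exact ha.k3 h1 Q f h.mp ⟨e w, h7, h12, h8 ▸ h13⟩

theorem lfI2_false (hK : g.K) (hc : CxOK g cx) (ha : AbOK g cx.nx a) (h : Hb g cx a Q τ t e f) (hx : ¬ cx.ex = true)
    (hs : WF g st) (hg : Gens e f Q st.gs) {T : PM} (hT : WS g T) {w : ℕ} (hl : g.lfI2 cx st T w = true) : False := by
  have he := h.rn.en
  obtain ⟨_, hA⟩ := hK.pgroup he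
  unfold Gp.lfI2 at hl
  simp only [an_iff, nz_iff, allP_iff] at hl
  obtain ⟨h1, h2, hl⟩ := hl
  have h3 : Q = ⊤ := h.P ▸ hK.full_top he hc.wP.toWF (Gp.K.val_ws he hc.wP) h1
  have h4 : dom e T = ⊤ := hK.full_top he hT.toWF (Gp.K.val_ws he hT) h2
  subst h3
  obtain ⟨ψ, h5, h6, h7⟩ := ev_gs hK he ha.cl h.rn.hl hK.ws_s0.toWF (hm_s0 ha.cl e) w hT.toWF fun p hp => (hl p hp).1
  rw [h4] at h5 h6
  obtain ⟨h8, -, h9⟩ := hK.adS_spec hK.ws_s0 (φ := fun i => g.q (g.by' cx.ph i)) (fun i => hK.q_lt (hK.by_lt _ _))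
    (len1 cx.ph)
  have h10 : dom e (g.sqS cx.ph) ≤ Sq ⊤ := dom_le fun p hp => by
    rcases h9 p hp with h5 | ⟨i, -, h5⟩
    · exact absurd h5 List.not_mem_nil
    · rw [h5, hK.e_q he (hK.by_lt _ _)]
      exact sq_mem (Subgroup.mem_top _)
  refine (h.au hx).nm (inF_of hA ha.sat ha.cl h.mp h5 h6 (X := gS e T.gs) h4 ?_)
  rintro _ ⟨p, hp, rfl⟩
  obtain ⟨-, -, y, hy, h11, h12⟩ := dyI_spec hK hc h hs hg (hl p hp).2
  rw [h11, (h7 p hp).2]
  exact h10 ((hK.lk_cos he h8 (h7 p hp).1 hy).1 h12)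

theorem lfSw_false (hK : g.K) (hc : CxOK g cx) (h : Hb g cx a Q τ t e f) (hx : ¬ cx.ex = true)
    (hs : WF g st) (hg : Gens e f Q st.gs) {T K : PM} (hT : WS g T) (hK' : WS g K) (hl : g.lfSw cx st T K = true) :
    False := by
  have he := h.rn.en
  unfold Gp.lfSw at hl
  simp only [an_iff, nt_iff, allP_iff] at hl
  obtain ⟨h1, h2, h3⟩ := hl
  have key : ∀ {X Y : PM}, WS g Y → (∀ p ∈ X.gs.ls, g.dyI cx st (g.msk Y) p.1 = true) → ∀ u ∈ dom e X, f u ∈ dom e Y :=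
    fun {X Y} hY h4 => mem_of_gens (X := gS e X.gs) (fun _ ⟨p, hp, h5⟩ => h5 ▸ (dyI_msk hK hc h hs hg hY (h4 p hp)).1) h.mp
      fun _ ⟨p, hp, h5⟩ => h5 ▸ (dyI_msk hK hc h hs hg hY (h4 p hp)).2
  obtain ⟨r, k, hr, hr2, h4⟩ := (h.au hx).ord
  obtain ⟨m, hm⟩ : Odd (r ^ k) := (hr.odd_of_ne_two hr2).pow
  have h5 : ∀ j, ∀ u ∈ dom e T, f^[2 * j] u ∈ dom e T := fun j u hu => by
    induction j with
    | zero => exact hu
    | succ j ih =>
      rw [Nat.mul_succ, Function.iterate_succ_apply', Function.iterate_succ_apply']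
      exact key hT h3 _ (key hK' h2 _ ih)
  refine h1 fun p hp => (hK.mem_ws he hK' (hT.gs p hp).1).2 ?_
  rw [← h4 _ (dyI_msk hK hc h hs hg hK' (h2 p hp)).1, hm]
  exact (Function.iterate_succ_apply' f (2 * m) (e p.1)).symm ▸ key hK' h2 _ (h5 m _ (gS_mem hp))

theorem lfD_false (hK : g.K) (hc : CxOK g cx) (ha : AbOK g cx.nx a) (h : Hb g cx a Q τ t e f)
    (hs : WF g st) (hg : Gens e f Q st.gs) {T K w : ℕ} (hl : g.lfD cx st T K w = true) : False := by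
  unfold Gp.lfD at hl
  rw [an_iff, nt_iff, iF_iff, iF_iff] at hl
  rcases hl.2 with ⟨-, ⟨-, h1⟩ | ⟨-, h1⟩⟩ | ⟨-, h1⟩
  · exact lfI2_false hK hc ha h hl.1 hs hg (hK.ws_mkS T) h1
  · exact lfSw_false hK hc h hl.1 hs hg (hK.ws_mkS T) (hK.ws_mkS K) h1
  · exact lfM2_false hK hc ha h hl.1 hs hg h1

theorem go2_spec (hK : g.K) (hc : CxOK g cx) (ha : AbOK g cx.nx a)
    (hcu : ∀ t w, cx.cu t w = true → Cl g cx a Q τ t (g.mkP w)) (c : Ct) : ∀ t st, t < g.N → WF g st →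
      ((g.go2 cx c).1 t st = true → Cl g cx a Q τ t st) ∧
        ∀ x, x < g.N → mem cx.P x = true → Ms g cx a Q τ t st x ((g.go2 cx c).2 t st x) := by
  induction c with
  | nil => exact fun t st _ _ => ⟨fun h => absurd h Bool.false_ne_true, fun _ _ _ => ms_zero⟩
  | cons y fl sub rest ih1 ih2 =>
    refine fun t st ht hs => ⟨fun h => absurd h Bool.false_ne_true, fun x hx hP => ?_⟩
    refine Ms.lor (ms_iF fun h1 hy e f h hg hx1 hx0 => ?_) ((ih2 t st ht hs).2 x hx hP)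
    rcases iF_iff.1 h1 with ⟨h2, h3⟩ | ⟨h2, h3⟩
    · exact (ih1 t _ ht (nxt_wf hK hs ht hx hy fl)).1 h3 e f h
        (nxt_gens hK hc h hs ht hx hy fl hg ((h.mem hK hc hx).1 hP) (hx1 (nz_iff.1 h2)))
    · obtain ⟨h4, h5⟩ := hx0 (not_not.1 fun h4 => h2 (nz_iff.2 h4))
      have h6 : e (g.q y) = τ * τ := by rw [hK.e_q h.rn.en hy, h5]
      exact (ih1 y _ hy (hK.ad_spec hs (hK.q_lt hy) (hK.q_lt hy)).1).1 h3 e f
        ⟨h.rn, h.P, h.t0, h.mp, h.au, h.di, fun _ => ⟨h4, h5⟩⟩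
        (ad_gens hK hs (hK.q_lt hy) (hK.q_lt hy) hg (h6 ▸ (h.di h4).tsq) (h6 ▸ (h.di h4).fix))
  | br x gv sy kids ih =>
    refine fun t st ht hs => ⟨fun h1 e f h hg => ?_, fun _ _ _ => ms_zero⟩
    rcases iF_iff.1 h1 with ⟨-, h3⟩ | ⟨h2, h3⟩
    · obtain ⟨h4, h5, -⟩ := cov_lt hK hc h.rn.en h3
      exact cov_spec hK hc h hs hg h3 (syms2_spec hK hc ha hs h4 h5 ((ih t st ht hs).2 x h4 h5) _)
    · have h4 : x = 0 := not_not.1 fun h4 => h2 (nz_iff.2 h4)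
      subst h4
      exact covT_spec hK hc h hg h3 (syms2_spec hK hc ha hs hK.N_pos (mem_iff'.2 (Or.inr rfl))
        ((ih t st ht hs).2 0 hK.N_pos (mem_iff'.2 (Or.inr rfl))) _)
  | kil y fl d rest ih =>
    refine fun t st ht hs => ⟨fun h => absurd h Bool.false_ne_true, fun x hx hP => ?_⟩
    exact Ms.lor (ms_iF fun h1 hy e f h hg hx1 _ =>
      (kil_false hK hc h ht hs hg hx hy ((h.mem hK hc hx).1 hP) hx1 h1).elim) ((ih t st ht hs).2 x hx hP)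
  | lf d =>
    exact fun t st ht hs => ⟨fun h1 e f h hg => (lfK_false hK hc h ht (h.lk hs hg).1 (h.lk hs hg).2 h1).elim,
      fun _ _ _ => ms_zero⟩
  | mc w => exact fun t st _ hs => ⟨fun h1 e f h hg => (lfMc_false hK hc ha h hs hg h1).elim, fun _ _ _ => ms_zero⟩
  | ur ch => exact fun t st _ hs => ⟨fun h1 e f h hg => (lfUr_false hK hc h hs hg h1).elim, fun _ _ _ => ms_zero⟩
  | v1 T K w k =>
    refine fun t st _ hs => ⟨fun h1 e f h hg => False.elim ?_, fun _ _ _ => ms_zero⟩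
    rcases iF_iff.1 h1 with ⟨-, h2⟩ | ⟨-, h2⟩
    · exact lfV1_false hK hc ha h hs hg (hK.ws_mkS T) (hK.ws_mkS K) h2
    · exact lfD_false hK hc ha h hs hg h2
  | ine w => exact fun t st _ hs => ⟨fun h1 e f h hg => (lfIn_false hK hc ha h hs hg h1).elim, fun _ _ _ => ms_zero⟩
  | ref k B ws => exact fun t st _ hs => ⟨fun h1 e f h hg => lfRef_goal hK ha h hs hg h1, fun _ _ _ => ms_zero⟩
  | cut w => exact fun t st _ hs => ⟨fun h1 e f h hg => lfCut_goal hcu h hs hg h1, fun _ _ _ => ms_zero⟩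

end Cfsg.Agent.FS.NB
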