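import Cfsg.Agent.FS.N.B.Ni
import Cfsg.Agent.FS.N.B.Cf

/-!
# The checker of part B for S5288: the invariants of the groups with systems and the glue of a level
-/

set_option autoImplicit false

namespace Cfsg.Agent.FS.NB

open Cfsg Cfsg.FusionSystem

def I3 : List (ℕ × ℕ × ℕ × ℕ) :=
  [(6, 8, 40, 28)]

def I4 : List (ℕ × ℕ × ℕ × ℕ) :=
  [(6, 12, 112, 28), (10, 12, 112, 52), (12, 16, 160, 112)]

def I5 : List (ℕ × ℕ × ℕ × ℕ) :=
  [(8, 24, 448, 40), (10, 20, 352, 52), (16, 24, 352, 136), (18, 20, 352, 100), (20, 24, 448, 208)]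

def I6 : List (ℕ × ℕ × ℕ × ℕ) :=
  [(18, 36, 1216, 100), (20, 24, 1024, 208), (20, 48, 1408, 208), (28, 40, 1024, 256), (28, 48, 1024, 352), (28, 64, 1024, 448), (28, 64, 1216, 496), (34, 36, 1216, 196), (36, 40, 1408, 400)]

def I7 : List (ℕ × ℕ × ℕ × ℕ) :=
  [(12, 32, 5632, 64), (28, 64, 2944, 256), (34, 68, 4480, 196), (36, 40, 3328, 400), (36, 80, 2176, 544), (36, 80, 4096, 400), (36, 112, 2176, 544), (36, 112, 2176, 640), (44, 80, 2560, 688), (44, 112, 2560, 928), (52, 72, 3328, 496), (66, 68, 4480, 388), (68, 72, 4864, 784)]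

def I8 : List (ℕ × ℕ × ℕ × ℕ) :=
  [(24, 64, 11776, 256), (36, 80, 8704, 400), (36, 80, 11776, 400), (36, 112, 8704, 496), (52, 112, 8704, 496), (52, 176, 6400, 1072), (60, 144, 5632, 1072), (66, 132, 17152, 388), (68, 72, 11776, 784), (68, 144, 13312, 784), (68, 176, 6400, 1456), (72, 224, 8704, 1792), (72, 224, 8704, 2272), (84, 112, 8704, 1264), (88, 224, 10240, 3712), (100, 136, 11776, 976), (112, 256, 14848, 7936), (130, 132, 17152, 772), (132, 136, 17920, 1552)]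

def I9 : List (ℕ × ℕ × ℕ × ℕ) :=
  [(20, 48, 77824, 112), (52, 112, 24064, 496), (52, 240, 17920, 1072), (68, 144, 28672, 784), (68, 144, 34816, 784), (68, 304, 14848, 1456), (72, 352, 22528, 1792), (88, 224, 16384, 1408), (88, 288, 17920, 2176), (100, 208, 28672, 976), (116, 304, 17920, 3184), (120, 224, 22528, 2944), (120, 288, 22528, 3712), (120, 352, 22528, 4864), (120, 512, 36352, 8128), (128, 448, 22528, 8512), (130, 260, 67072, 772), (132, 136, 44032, 1552), (132, 272, 47104, 1552), (144, 320, 34816, 6688), (144, 448, 28672, 9088), (144, 448, 34816, 7840), (196, 264, 44032, 1936), (216, 512, 64000, 21952), (258, 260, 67072, 1540), (260, 264, 68608, 3088)]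

theorem Clf.cms {n : ℕ} {I : List (ℕ × ℕ × ℕ × ℕ)} {l : List ℕ} (h : Clf n l) : Cms n I l :=
  fun R hR => Cm.of_f (h R hR)

/-- **a level**: `l` in the order of `gl`, the other groups in `xs` and `rs` -/
theorem lev_of2 {n : ℕ} {gl l xs rs : List ℕ} {I I2 : List (ℕ × ℕ × ℕ × ℕ)} {L : List N.Ent}
    (hl : ∀ (A : Type) [Group A] [Finite A], Nat.card A = 2 ^ n → ∀ F : N.Sys A, N.Hy2 F →
      ∃ R ∈ gl, ∃ y : ℕ → A, N.Pc16 n R y)
    (hI : N.LevI (n - 1) I) (h1 : Clf n l) (h3 : Cms n I xs) (h2 : Crs n I I2 L rs) (hc : cvr (xs ++ rs) gl l = true) :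
    N.Lev n L ∧ N.LevI n I2 := by
  have key : ∀ (A : Type) [Group A] [Finite A], Nat.card A = 2 ^ n → ∀ F : N.Sys A, N.Hy2 F →
      ∃ R ∈ rs, ∃ y : ℕ → A, N.Pc16 n R y := fun A _ _ hA F hF => by
    obtain ⟨R, hR, y, hy⟩ := hl A hA F hF
    rcases cvr_spec hc R hR with k | k
    · obtain ⟨_, hp, -⟩ := (h1.cms R k).hit hI hy hF
      exact absurd hp List.not_mem_nil
    · rcases List.mem_append.1 k with k | k
      · obtain ⟨_, hp, -⟩ := (h3 R k).hit hI hy hF
        exact absurd hp List.not_mem_nil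
      · exact ⟨R, k, y, hy⟩
  refine ⟨fun A _ _ hA F hF => ?_, fun A _ _ hA F hF => ?_⟩ <;> obtain ⟨R, hR, y, hy⟩ := key A hA F hF
  · exact (h2 R hR).1.hit hI hy hF
  · exact (h2 R hR).2 A y hy

end Cfsg.Agent.FS.NB
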