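import Cfsg.Agent.FS.N.B.Val

/-!
# The checker of part B: the candidates for essential subgroups (statement helper80, proof helper98; project FS)
-/

set_option autoImplicit false

namespace Cfsg.Agent.FS.NB

open Cfsg Cfsg.FusionSystem Cfsg.Agent.H752 Cfsg.Agent.FS.Th Cfsg.Agent.FS.Pc Cfsg.Agent.FS.Sw Cfsg.Agent.FS.B
open Asm (En)

namespace LevAux

theorem land_hi : ∀ i, i < 16 → ∀ x, x < 65536 → (x &&& (65536 - 1 <<< i) = 0 ↔ x >>> i = 0) := by
  have h0 : ∀ i, i < 16 → ∀ k, k < 16 → (65536 - 1 <<< i).testBit k = decide (i ≤ k) := by decide +kernel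
  intro i hi x hx
  refine ⟨fun h => Nat.eq_of_testBit_eq fun k => ?_, fun h => Nat.eq_of_testBit_eq fun k => ?_⟩
  · rw [Nat.testBit_shiftRight, Nat.zero_testBit]
    by_cases hk : i + k < 16
    · have h1 := congrArg (fun z => Nat.testBit z (i + k)) h
      simp only [Nat.testBit_and, h0 i hi _ hk, Nat.zero_testBit, Nat.le_add_right, decide_true, Bool.and_true] at h1
      exact h1
    · exact Nat.testBit_lt_two_pow (hx.trans_le (Nat.pow_le_pow_right (n := 2) (by norm_num) (not_lt.1 hk)))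
  · rw [Nat.testBit_and, Nat.zero_testBit]
    by_cases hk : k < i
    · rw [h0 i hi k (by omega), decide_eq_false (by omega), Bool.and_false]
    · have h1 := congrArg (fun z => Nat.testBit z (k - i)) h
      simp only [Nat.testBit_shiftRight, Nat.zero_testBit] at h1
      rw [show i + (k - i) = k by omega] at h1
      rw [h1, Bool.false_and]

variable {A : Type} [Group A] {y : ℕ → A} {n R : ℕ}

/-- the series of a presentation -/
def Ser (y : ℕ → A) (n : ℕ) (Z : ℕ → Subgroup A) : Prop :=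
  ∀ i, i ≤ n → ∀ x, x ∈ Z i ↔ ∃ a, a < 2 ^ i ∧ x = el y i a

theorem exists_ser [Finite A] (h : IsPc y 0 n 16 R) (hn : n ≤ 16) : ∃ Z, Ser y n Z := by
  have h1 : ∀ i, ∃ Z : Subgroup A, i ≤ n → ∀ x, x ∈ Z ↔ ∃ a, a < 2 ^ i ∧ x = el y i a := fun i => by
    by_cases hi : i ≤ n
    swap
    · exact ⟨⊤, fun h2 => absurd h2 hi⟩
    let S : Submonoid A :=
      { carrier := {x | ∃ a, a < 2 ^ i ∧ x = el y i a}
        one_mem' := ⟨0, Nat.two_pow_pos i, (el_nil y i).symm⟩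
        mul_mem' := by
          rintro _ _ ⟨a, ha, rfl⟩ ⟨b, hb, rfl⟩
          obtain ⟨h2, h3⟩ := h.tab_ok' (by omega) i hi a ha b hb
          rw [Nat.zero_add] at h2 h3
          exact ⟨_, h2, h3⟩ }
    refine ⟨⟨S, fun {x} hx => ?_⟩, fun _ _ => Iff.rfl⟩
    have h2 : x⁻¹ = x ^ (orderOf x - 1) := by
      rw [inv_eq_iff_mul_eq_one, ← pow_succ', Nat.sub_add_cancel (orderOf_pos x), pow_orderOf_eq_one]
    rw [h2]
    exact S.pow_mem hx _
  choose Z hZ using h1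
  exact ⟨Z, hZ⟩

variable {Z : ℕ → Subgroup A}

theorem Ser.el_mem (h : Ser y n Z) {i : ℕ} (hi : i ≤ n) (a : ℕ) : el y i a ∈ Z i :=
  (h i hi _).2 ⟨_, Nat.mod_lt _ (Nat.two_pow_pos i), (el_mod y i a).symm⟩

theorem Ser.zero (h : Ser y n Z) : Z 0 = ⊥ := by
  refine le_bot_iff.1 fun x hx => ?_
  obtain ⟨a, -, rfl⟩ := (h 0 (Nat.zero_le n) x).1 hx
  exact Subgroup.one_mem _

theorem Ser.succ (h : Ser y n Z) {i : ℕ} (hi : i < n) (x : A) : x ∈ Z (i + 1) ↔ x ∈ Z i ∨ (y i)⁻¹ * x ∈ Z i := by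
  constructor
  · intro hx
    obtain ⟨a, -, rfl⟩ := (h _ hi x).1 hx
    rw [el_succ]
    cases a.testBit i
    · rw [cond_false, one_mul]
      exact Or.inl (h.el_mem hi.le a)
    · rw [cond_true, inv_mul_cancel_left]
      exact Or.inr (h.el_mem hi.le a)
  · rintro (hx | hx)
    · obtain ⟨a, ha, rfl⟩ := (h _ hi.le x).1 hx
      rw [← el_of_lt y ha (Nat.le_succ i)]
      exact h.el_mem hi a
    · obtain ⟨a, ha, h1⟩ := (h _ hi.le _).1 hx
      rw [inv_mul_eq_iff_eq_mul, ← el_top y ha] at h1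
      rw [h1]
      exact h.el_mem hi _

theorem Ser.gen (h : Ser y n Z) {k i : ℕ} (hk : k < i) (hi : i ≤ n) : y k ∈ Z i := by
  have h1 := el_top y (Nat.two_pow_pos k)
  rw [el_nil, mul_one, Nat.zero_xor,
    ← el_of_lt y (Nat.pow_lt_pow_right (by norm_num) (Nat.lt_succ_self k)) (show k + 1 ≤ i from hk)] at h1
  rw [← h1]
  exact h.el_mem hi _

theorem Ser.cen (h : Ser y n Z) (hp : IsPc y 0 n 16 R) (hR : ∀ k, k < n → ∀ j, j < k → get 16 R (tri k j) >>> j = 1)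
    (ht : Z n = ⊤) {i : ℕ} (hi : i < n) (hN : (Z i).Normal) (g : A) : g * y i * g⁻¹ * (y i)⁻¹ ∈ Z i := by
  let π := QuotientGroup.mk' (Z i)
  have h1 : ∀ x, π x = 1 ↔ x ∈ Z i := fun x => QuotientGroup.eq_one_iff x
  obtain ⟨a, -, rfl⟩ := (h n le_rfl g).1 (ht ▸ Subgroup.mem_top g)
  have h2 : el y n a ∈ (Subgroup.centralizer {π (y i)}).comap π := Pc.el_mem a n fun k hk => by
    rw [Subgroup.mem_comap, Subgroup.mem_centralizer_singleton_iff]
    rcases lt_trichotomy k i with h2 | rfl | h2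
    · rw [(h1 _).2 (h.gen h2 hi.le), one_mul, mul_one]
    · rfl
    · have h3 := hp.cj k hk i h2
      have h4 := hR k hk i h2
      generalize get 16 R (tri k i) = b at h3 h4
      have h5 : b = (b % 2 ^ i) ^^^ 2 ^ i := by
        rw [← two_pow_add_eq_xor (Nat.mod_lt _ (Nat.two_pow_pos i))]
        rw [Nat.shiftRight_eq_div_pow] at h4
        have h6 := Nat.div_add_mod b (2 ^ i)
        rw [h4, Nat.mul_one] at h6
        exact h6.symm
      have h6 : b < 2 ^ (i + 1) := by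
        rw [Nat.shiftRight_eq_div_pow] at h4
        rw [Nat.pow_succ]
        exact Nat.lt_mul_of_div_lt (by omega) (Nat.two_pow_pos i) |>.trans_eq (Nat.mul_comm _ _)
      simp only [Nat.zero_add] at h3
      rw [el_of_lt y h6 (show i + 1 ≤ k from h2), h5, el_top y (Nat.mod_lt _ (Nat.two_pow_pos i))] at h3
      rw [← map_mul, ← map_mul, h3, map_mul π _ (_ * _), map_mul π (y i), (h1 _).2 (h.el_mem hi.le _), mul_one, map_mul]
  rw [Subgroup.mem_comap, Subgroup.mem_centralizer_singleton_iff] at h2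
  rw [← h1, map_mul, map_mul, map_mul, h2, map_inv, map_inv, mul_inv_cancel_right, mul_inv_cancel]

theorem Ser.normal (h : Ser y n Z) (hp : IsPc y 0 n 16 R) (hR : ∀ k, k < n → ∀ j, j < k → get 16 R (tri k j) >>> j = 1)
    (ht : Z n = ⊤) : ∀ i, i ≤ n → (Z i).Normal
  | 0, _ => by rw [h.zero]; infer_instance
  | i + 1, hi => by
    have h1 := h.normal hp hR ht i (by omega)
    refine ⟨fun x hx g => (h.succ hi _).2 (((h.succ hi x).1 hx).imp (fun h2 => h1.conj_mem x h2 g) fun h2 => ?_)⟩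
    rw [show (y i)⁻¹ * (g * x * g⁻¹) = (y i)⁻¹ * (g * y i * g⁻¹ * (y i)⁻¹) * (y i)⁻¹⁻¹ * (g * ((y i)⁻¹ * x) * g⁻¹) by group]
    exact (Z i).mul_mem (h1.conj_mem _ (h.cen hp hR ht hi h1 g) _) (h1.conj_mem _ h2 g)

end LevAux

open LevAux

namespace Gp.K

variable {g : Gp} (hK : g.K) {A : Type} [Group A] {e : ℕ → A} (he : En g.m g.N e) {Z : ℕ → Subgroup A}
  (hZ : Ser (fun i => e (2 ^ i)) g.n Z)
include hK he hZ

theorem lev_cos {i a b : ℕ} (hi : i ≤ g.n) (ha : a < g.N) (hb : b < g.N) :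
    (e a)⁻¹ * e b ∈ Z i ↔ a >>> i = b >>> i := by
  have h0 := (hK.pc A e he).2
  have h1 : ∀ c, c < g.N → e c = el (fun j => e (2 ^ (i + j))) (g.n - i) (c >>> i) * el (fun i => e (2 ^ i)) i c :=
    fun c hc => by rw [h0 c hc, ← el_split (fun i => e (2 ^ i)), Nat.add_sub_cancel' hi]
  constructor
  · intro h
    obtain ⟨c, hc, h2⟩ := (hZ i hi _).1 ((Z i).mul_mem (hZ.el_mem hi a) h)
    have h3 : (2 ^ i * (a / 2 ^ i) + c) / 2 ^ i = a / 2 ^ i := by
      rw [Nat.mul_add_div (Nat.two_pow_pos i), Nat.div_eq_of_lt hc, Nat.add_zero]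
    have h4 : 2 ^ i * (a / 2 ^ i) + c < g.N := by
      have h5 : g.N = 2 ^ (g.n - i) * 2 ^ i := by rw [hK.hN, ← Nat.pow_add, Nat.sub_add_cancel hi]
      rw [h5] at ha ⊢
      rw [← Nat.div_lt_iff_lt_mul (Nat.two_pow_pos i)] at ha ⊢
      rwa [h3]
    have h5 : e (2 ^ i * (a / 2 ^ i) + c) = e b := by
      rw [h1 _ h4, Nat.shiftRight_eq_div_pow, h3, ← el_mod _ i, Nat.mul_add_mod, el_mod, ← h2,
        ← Nat.shiftRight_eq_div_pow, ← mul_assoc, ← h1 a ha, mul_inv_cancel_left]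
    rw [← he.inj h4 hb h5, Nat.shiftRight_eq_div_pow, Nat.shiftRight_eq_div_pow, h3]
  · intro h
    rw [h1 a ha, h1 b hb, h, mul_inv_rev, mul_assoc, inv_mul_cancel_left]
    exact (Z i).mul_mem ((Z i).inv_mem (hZ.el_mem hi a)) (hZ.el_mem hi b)

theorem lev_mem {i a : ℕ} (hi : i ≤ g.n) (ha : a < g.N) : e a ∈ Z i ↔ a >>> i = 0 := by
  have h := hK.lev_cos he hZ hi hK.N_pos ha
  rwa [hK.e_zero he, inv_one, one_mul, Nat.zero_shiftRight, eq_comm] at h

theorem lev_cmi {i u s : ℕ} (hi : i < g.n) (hu : u < g.N) (hs : s < g.N) :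
    lk (g.cmi i u) s ≠ 0 ↔ (e s * e u)⁻¹ * (e u * e s) ∈ Z i := by
  have h8 := hK.n9
  have h1 : lk (g.tw u u) s = g.m s u ^^^ g.m u s := by
    unfold Gp.tw
    rw [lk_xor, hK.c_eq u hu s hs]
    rfl
  have h2 : Nat.sub 65536 (Nat.shiftLeft 1 i) < 65536 := by
    rw [one_shl]
    exact Nat.sub_lt (by norm_num) (Nat.two_pow_pos i)
  rw [← he.mul s hs u hu, ← he.mul u hu s hs, hK.lev_cos he hZ hi.le (he.lt s hs u hu) (he.lt u hu s hs),
    ← Nat.xor_eq_zero_iff, ← Nat.shiftRight_xor_distrib, ← h1, ← land_hi i (by omega) _ (lk_lt _ _)]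
  unfold Gp.cmi
  rw [hK.lk_zm _ hs, lk_land, hK.lk_mul_O h2 hs]
  show (if lk (g.tw u u) s &&& 65536 - 1 <<< i = 0 then 1 else 0) ≠ 0 ↔ _
  split_ifs with h3
  · exact iff_of_true one_ne_zero h3
  · exact iff_of_false (fun h => h rfl) h3

end Gp.K

theorem Gp.K.lev_spec {g : Gp} (hK : g.K) {CA : List Ds} {C : ℕ} (h : g.lev CA C = true) {A : Type} [Group A]
    {F : FusionSystem (⊤ : Subgroup A)} (hF : F.IsSaturated 2) : Alive g F CA := by
  intro e he Q hQ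
  obtain ⟨_, hA⟩ := hK.pgroup he
  obtain ⟨hp, h0⟩ := hK.pc A e he
  obtain ⟨Z, hZ⟩ := exists_ser hp (hK.n9.trans (by norm_num))
  have ht : Z g.n = ⊤ := top_le_iff.1 fun x _ => by
    obtain ⟨a, ha, rfl⟩ := he.surj x
    rw [h0 a ha]
    exact hZ.el_mem le_rfl a
  have hR : ∀ k, k < g.n → ∀ j, j < k → get 16 g.R (tri k j) >>> j = 1 := fun k hk j hj => by
    rw [← lk_eq]
    exact hK.rel_cj k hk j hj
  have hN := hZ.normal hp hR ht
  obtain ⟨hne, i, hi, v, hv⟩ := level hA hF hQ hZ.zero ht (fun i hi => hZ.succ hi)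
    fun i hi => hZ.cen hp hR ht hi (hN i hi.le)
  obtain ⟨a, ha, rfl⟩ := he.surj v
  have hu : (a >>> i) <<< i < g.N := by
    rw [Nat.shiftLeft_eq, Nat.shiftRight_eq_div_pow]
    exact (Nat.div_mul_le_self _ _).trans_lt ha
  obtain ⟨h1, h2, h3⟩ := hv (e ((a >>> i) <<< i)) ((hK.lev_cos he hZ hi.le hu ha).2 (Nat.shiftLeft_shiftRight _ _))
  have h4 : a >>> i < Nat.shiftRight g.N i := by
    have h5 : g.N = 2 ^ (g.n - i) * 2 ^ i := by rw [hK.hN, ← Nat.pow_add, Nat.sub_add_cancel hi.le]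
    rw [nshr, Nat.shiftRight_eq_div_pow, Nat.shiftRight_eq_div_pow, Nat.div_lt_iff_lt_mul (Nat.two_pow_pos i), h5,
      Nat.mul_div_cancel _ (Nat.two_pow_pos i), ← h5]
    exact ha
  rcases orr_iff.1 (allN_iff.1 (allN_iff.1 h i hi) _ h4) with h5 | h5
  · refine absurd ((hK.lev_mem he hZ hi hu).2 ?_) h1
    rw [Nat.succ_eq_add_one, Nat.shiftRight_add, Nat.shiftLeft_shiftRight, Nat.shiftRight_one]
    exact Nat.div_eq_of_lt (Nat.lt_succ_of_le (ble_iff.1 h5))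
  rw [frc_eq, nshl] at h5
  generalize (a >>> i) <<< i = u at hu h1 h2 h3 h5
  have hh := hK.by_lt C (Nat.shiftLeft (Nat.add (Nat.shiftRight g.N i) (a >>> i)) 1)
  generalize g.by' C (Nat.shiftLeft (Nat.add (Nat.shiftRight g.N i) (a >>> i)) 1) = c at hh h5
  generalize lk C (Nat.succ (Nat.shiftLeft (Nat.add (Nat.shiftRight g.N i) (a >>> i)) 1)) = j at h5
  rcases orr_iff.1 h5 with h6 | h6
  · rw [← hK.e_q he hu, hK.lev_mem he hZ hi.le (hK.q_lt hu)] at h2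
    exact absurd h2 (nz_iff.1 h6)
  rcases orr_iff.1 h6 with h7 | h7
  · refine absurd (top_le_iff.1 fun x _ => ?_) hne
    obtain ⟨s, hs, rfl⟩ := he.surj x
    rw [h3, ← hK.lev_cmi he hZ hi hu hs, beq_iff.1 h7, hK.lk_O hs]
    exact one_ne_zero
  obtain ⟨h8, h9⟩ := an_iff.1 h7
  rw [frc_eq, frc_eq, beq_iff] at h9
  refine ⟨_, nth_mem ⟨0, 0, 0, 0⟩ (blt_iff.1 h8), c, hh, ?_⟩
  have he' := hK.en_cj he hh
  ext x
  obtain ⟨s, hs, rfl⟩ := he'.surj x
  have h10 := hK.lev_cmi he hZ hi (hK.cj0_lt (hK.i_lt c hh) hu) hs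
  rw [h9, hK.lk_msk _ hs, hK.e_cj0 he (hK.i_lt c hh) hu, hK.e_i he hh] at h10
  refine (hK.mem_ws he' (hK.ws_mkS _) hs).symm.trans ?_
  show _ ↔ e (g.cj c s) ∈ Q
  rw [h3, hK.e_cj he hh hs, show (e c * e s * (e c)⁻¹ * e u)⁻¹ * (e u * (e c * e s * (e c)⁻¹)) =
    e c * ((e s * ((e c)⁻¹ * e u * (e c)⁻¹⁻¹))⁻¹ * ((e c)⁻¹ * e u * (e c)⁻¹⁻¹ * e s)) * (e c)⁻¹ by group,
    (hN i hi.le).mem_comm_iff, inv_mul_cancel_left, ← h10]
  split_ifs with h11
  · exact iff_of_true h11 one_ne_zero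
  · exact iff_of_false h11 fun h => h rfl

end Cfsg.Agent.FS.NB
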