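import Cfsg.Agent.FS.N.B.Fd

/-!
# The certificate checker of part B for S5288: no subgroup of index two carries a system (definitions)
-/

set_option autoImplicit false

namespace Cfsg.Agent.FS.NB

open Cfsg Cfsg.FusionSystem Cfsg.Agent.FS.Pc Cfsg.Agent.FS.Sw

/-- the mask of the numbers `a < 2 ^ n` with even parity of `a &&& mu` -/
noncomputable def kmu (mu n : ℕ) : ℕ :=
  Nat.rec 1 (fun i X => frc X fun X => Nat.add X (Nat.shiftLeft
    (iF (nz (Nat.land (Nat.shiftRight mu i) 1)) (Nat.xor (ones 16 i) X) X) (Nat.shiftLeft 16 i))) n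

noncomputable def smN (n : ℕ) (φ : ℕ → ℕ) : ℕ := Nat.rec 0 (fun i r => Nat.add (φ i) r) n

namespace Gp

variable (g : Gp)

/-- the parity against `mu` is no homomorphism -/
noncomputable def nh (pa mu : ℕ) : Bool :=
  anyN g.n fun k => orr (nz (lk pa (Nat.land (g.q (Nat.shiftLeft 1 k)) mu)))
    (anyN k fun j => nz (lk pa (Nat.land (g.cm (Nat.shiftLeft 1 k) (Nat.shiftLeft 1 j)) mu)))

/-- the mask of the centralizer -/
def cen (a : ℕ) : ℕ := g.zm (g.tw a a)

/-- the number of commuting pairs in the mask -/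
noncomputable def prs (X : ℕ) : ℕ :=
  smN g.N fun a => iF (nz (lk X a)) (Nat.mod (Nat.land (frc a g.cen) X) 65535) 0

/-- the invariants of the subgroup with the mask `X` are not in the list -/
noncomputable def notI (I : List (ℕ × ℕ × ℕ × ℕ)) (Z2 Z4 X : ℕ) : Bool :=
  frc (Nat.land Z2 X) fun Y => frc (Nat.mod Y 65535) fun c1 => frc (Nat.mod (Nat.land Z4 X) 65535) fun c2 =>
    allL I fun p => orr (ne p.1 c1) (orr (ne p.2.1 c2) (orr (ne p.2.2.2 (g.prs Y)) (ne p.2.2.1 (g.prs X))))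

noncomputable def cln (I : List (ℕ × ℕ × ℕ × ℕ)) : Bool :=
  frc (parT g.n) fun pa => frc (g.zm g.sq) fun Z2 => frc (g.zm (vec g.N fun a => g.q (g.q a))) fun Z4 =>
    allN g.N fun mu => orr (Nat.beq mu 0) (orr (g.nh pa mu) (frc (kmu mu g.n) (g.notI I Z2 Z4)))

end Gp

/-- the whole check -/
noncomputable def Gh.cln (c : Gh) (I : List (ℕ × ℕ × ℕ × ℕ)) : Bool := mkG c.n c.R c.I fun g => an g.ok (g.cln I)

end Cfsg.Agent.FS.NB
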