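import Cfsg.Agent.FS.N.B.Fin
import Cfsg.Agent.FS.N.B.Nd
import Cfsg.Agent.FS.N.D.Sub

/-!
# The checker of part B for S5288: the subgroups of index two and the glue of a level (helper61)
-/

set_option autoImplicit false
set_option linter.unusedSectionVars false

namespace Cfsg.Agent.FS.NB

open Cfsg Cfsg.FusionSystem Cfsg.Agent.H752 Cfsg.Agent.FS.Th Cfsg.Agent.FS.Pc Cfsg.Agent.FS.Sw Cfsg.Agent.FS.B
open Asm (En TyL)

namespace Ni

open Fn

theorem smN_eq (n : ℕ) (φ : ℕ → ℕ) : smN n φ = ∑ a ∈ Finset.range n, φ a := by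
  induction n with
  | zero => rfl
  | succ n ih => rw [Finset.sum_range_succ, ← ih]; exact Nat.add_comm (φ n) (smN n φ)

theorem anyL_of {α : Type} {L : List α} {p : α → Bool} {a : α} (ha : a ∈ L) (h : p a = true) : anyL L p = true := by
  induction L with
  | nil => exact absurd ha List.not_mem_nil
  | cons b L ih => exact orr_iff.2 ((List.mem_cons.1 ha).imp (fun e : a = b => e ▸ h) ih)

theorem kmu_spec (mu : ℕ) : ∀ n, kmu mu n < 2 ^ (16 * 2 ^ n) ∧
    ∀ a, a < 2 ^ n → lk (kmu mu n) a = if Pc.par n (a &&& mu) = true then 0 else 1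
  | 0 => ⟨Nat.one_lt_two_pow (by decide), fun a ha => by rw [Nat.lt_one_iff.1 ha]; exact lk_one 0⟩
  | n + 1 => by
    obtain ⟨h1, h2⟩ := kmu_spec mu n
    have h0 : kmu mu (n + 1) = kmu mu n + (iF (nz (Nat.land (Nat.shiftRight mu n) 1)) (Nat.xor (ones 16 n) (kmu mu n))
        (kmu mu n)) <<< (16 * 2 ^ n) := by
      rw [← shl_eq 16 n]
      exact frc_eq (kmu mu n) fun X => Nat.add X (Nat.shiftLeft
        (iF (nz (Nat.land (Nat.shiftRight mu n) 1)) (Nat.xor (ones 16 n) X) X) (Nat.shiftLeft 16 n))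
    have hb : nz (Nat.land (Nat.shiftRight mu n) 1) = mu.testBit n := by
      rw [Bool.eq_iff_iff, nz_iff, nland, nshr, Nat.and_one_is_mod, Nat.testBit_eq_decide_div_mod_eq, decide_eq_true_eq,
        Nat.shiftRight_eq_div_pow]
      omega
    have ho : ones 16 n < 2 ^ (16 * 2 ^ n) := by
      have := mul_ones_lt (v := 1) (w := 16) (by norm_num) n
      rwa [Nat.one_mul] at this
    rw [h0, hb]
    refine ⟨?_, fun a ha => ?_⟩
    · rw [Nat.pow_succ 2, Nat.mul_two, Nat.mul_add]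
      refine cat_lt h1 ?_
      cases mu.testBit n
      · exact h1
      · exact Nat.xor_lt_two_pow ho h1
    by_cases h3 : a < 2 ^ n
    · rw [lk_eq, get_cat_lo _ h1 h3, ← lk_eq, h2 a h3, par_succ, Nat.testBit_and, Nat.testBit_lt_two_pow h3, Bool.false_and,
        Bool.false_xor]
    · obtain ⟨b, rfl⟩ := Nat.exists_eq_add_of_le (not_lt.1 h3)
      have h4 : b < 2 ^ n := by rw [Nat.pow_succ] at ha; omega
      have h5 : Pc.par n ((2 ^ n + b) &&& mu) = Pc.par n (b &&& mu) := par_congr n fun i hi => by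
        rw [Nat.testBit_and, Nat.testBit_and, Nat.testBit_two_pow_add_gt hi]
      have h6 : lk (ones 16 n) b = 1 := by
        have := get_mul_ones (v := 1) (w := 16) (by norm_num) n h4
        rwa [Nat.one_mul, ← lk_eq] at this
      rw [lk_eq, get_cat_hi _ h1, ← lk_eq, par_succ, h5, Nat.testBit_and, Nat.testBit_two_pow_add_eq,
        Nat.testBit_lt_two_pow h4]
      cases mu.testBit n
      · rw [iF_false, h2 b h4]
        cases Pc.par n (b &&& mu) <;> rfl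
      · rw [iF_true, lk_xor, h6, h2 b h4]
        cases Pc.par n (b &&& mu) <;> rfl

variable {A : Type} [Group A] {g : Gp} {e : ℕ → A}

open Classical in
/-- `X` is the mask of the property `p` -/
structure Msk (g : Gp) (e : ℕ → A) (X : ℕ) (p : A → Prop) : Prop where
  lt : X < 2 ^ (16 * g.N)
  lk : ∀ a, a < g.N → lk X a = if p (e a) then 1 else 0

theorem Msk.land {X Y : ℕ} {p q : A → Prop} (h : Msk g e X p) (k : Msk g e Y q) :
    Msk g e (Nat.land X Y) fun x => p x ∧ q x :=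
  ⟨Nat.and_lt_two_pow X k.lt, fun a ha => by
    rw [lk_land, h.lk a ha, k.lk a ha]
    by_cases h1 : p (e a) <;> by_cases h2 : q (e a) <;> simp [h1, h2]⟩

theorem msk_zm (hK : g.K) {V : ℕ} {p : A → Prop} (h : ∀ a, a < g.N → (lk V a = 0 ↔ p (e a))) : Msk g e (g.zm V) p :=
  ⟨hK.zm_lt V, fun a ha => by
    rw [hK.lk_zm V ha]
    by_cases h1 : p (e a)
    · rw [if_pos h1, if_pos ((h a ha).2 h1)]
    · rw [if_neg h1, if_neg fun h2 => h1 ((h a ha).1 h2)]⟩

theorem sum_en [Fintype A] (he : En g.m g.N e) (φ : A → ℕ) : ∑ a ∈ Finset.range g.N, φ (e a) = ∑ x, φ x := by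
  rw [Finset.sum_range]
  exact he.bij.sum_comp φ

open Classical in
theorem card_sum {α : Type} [Fintype α] (p : α → Prop) : Nat.card {x // p x} = ∑ x, if p x then 1 else 0 := by
  rw [Nat.card_eq_fintype_card, Fintype.card_subtype, Finset.card_filter]

theorem Msk.cnt (hK : g.K) (he : En g.m g.N e) {X : ℕ} {p : A → Prop} (h : Msk g e X p) :
    Nat.mod X 65535 = Nat.card {x // p x} := by
  classical
  have := (hK.pgroup he).1
  have := Fintype.ofFinite A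
  have h1 : Nat.card {x // p x} ≤ g.N := he.card ▸ Finite.card_subtype_le p
  have h2 := hK.N_le9
  rw [nmod, InvAux.mod_sum _ _ h.lt, Finset.sum_congr rfl fun a ha => h.lk a (Finset.mem_range.1 ha),
    sum_en he fun x => if p x then 1 else 0, ← card_sum]
  exact Nat.mod_eq_of_lt (by omega)

theorem Msk.prs (hK : g.K) (he : En g.m g.N e) {X : ℕ} {p : A → Prop} (h : Msk g e X p) :
    g.prs X = Nat.card {q : A × A // p q.1 ∧ p q.2 ∧ q.1 * q.2 = q.2 * q.1} := by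
  classical
  have := (hK.pgroup he).1
  have := Fintype.ofFinite A
  have h1 : ∀ a ∈ Finset.range g.N, iF (nz (NB.lk X a)) (Nat.mod (Nat.land (frc a g.cen) X) 65535) 0 =
      ∑ y, if p (e a) ∧ p y ∧ e a * y = y * e a then 1 else 0 := fun a ha => by
    replace ha := Finset.mem_range.1 ha
    rw [h.lk a ha]
    by_cases h2 : p (e a)
    · have h3 : Msk g e (g.cen a) fun y => y * e a = e a * y := msk_zm hK fun s hs => hK.tw_zero he ha ha hs
      rw [if_pos h2, iF_pos (show nz 1 = true from rfl), frc_eq, (h3.land h).cnt hK he, card_sum]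
      refine Finset.sum_congr rfl fun y _ => ?_
      congr 1
      exact propext ⟨fun k => ⟨h2, k.2, k.1.symm⟩, fun k => ⟨k.2.2.symm, k.2.1⟩⟩
    · rw [if_neg h2, iF_neg (by decide)]
      exact (Finset.sum_eq_zero fun y _ => if_neg fun k => h2 k.1).symm
  unfold Gp.prs
  rw [smN_eq, Finset.sum_congr rfl h1, sum_en he fun x => ∑ y, if p x ∧ p y ∧ x * y = y * x then 1 else 0, card_sum,
    Fintype.sum_prod_type]
  refine Finset.sum_congr rfl fun x _ => Finset.sum_congr rfl fun y _ => ?_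
  congr 1

/-- the invariants of a subgroup, counted in the group -/
noncomputable def iv (M : Subgroup A) : ℕ × ℕ × ℕ × ℕ :=
  (Nat.card {x : A // x * x = 1 ∧ x ∈ M}, Nat.card {x : A // x * x * (x * x) = 1 ∧ x ∈ M},
    Nat.card {q : A × A // q.1 ∈ M ∧ q.2 ∈ M ∧ q.1 * q.2 = q.2 * q.1},
    Nat.card {q : A × A // (q.1 * q.1 = 1 ∧ q.1 ∈ M) ∧ (q.2 * q.2 = 1 ∧ q.2 ∈ M) ∧ q.1 * q.2 = q.2 * q.1})

theorem inv4_sub (M : Subgroup A) : N.inv4 M = iv M := by
  refine Prod.ext (Nat.card_congr ?_) (Prod.ext (Nat.card_congr ?_) (Prod.ext (Nat.card_congr ?_) (Nat.card_congr ?_)))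
  · exact ⟨fun x => ⟨x.1, congrArg Subtype.val x.2, x.1.2⟩, fun x => ⟨⟨x.1, x.2.2⟩, Subtype.ext x.2.1⟩,
      fun _ => rfl, fun _ => rfl⟩
  · exact ⟨fun x => ⟨x.1, congrArg Subtype.val x.2, x.1.2⟩, fun x => ⟨⟨x.1, x.2.2⟩, Subtype.ext x.2.1⟩,
      fun _ => rfl, fun _ => rfl⟩
  · exact ⟨fun x => ⟨(x.1.1, x.1.2), x.1.1.2, x.1.2.2, congrArg Subtype.val x.2⟩,
      fun x => ⟨(⟨x.1.1, x.2.1⟩, ⟨x.1.2, x.2.2.1⟩), Subtype.ext x.2.2.2⟩, fun _ => rfl, fun _ => rfl⟩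
  · exact ⟨fun x => ⟨(x.1.1, x.1.2), ⟨congrArg Subtype.val x.2.1, x.1.1.2⟩, ⟨congrArg Subtype.val x.2.2.1, x.1.2.2⟩,
        congrArg Subtype.val x.2.2.2⟩,
      fun x => ⟨(⟨x.1.1, x.2.1.2⟩, ⟨x.1.2, x.2.2.1.2⟩), Subtype.ext x.2.1.1, Subtype.ext x.2.2.1.1, Subtype.ext x.2.2.2⟩,
      fun _ => rfl, fun _ => rfl⟩

theorem inv4_top : N.inv4 A = iv (⊤ : Subgroup A) := by
  unfold N.inv4 iv
  simp only [Subgroup.mem_top, and_true, true_and]

theorem notI_iv (hK : g.K) (he : En g.m g.N e) (I : List (ℕ × ℕ × ℕ × ℕ)) {M : Subgroup A} {X : ℕ}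
    (h : Msk g e X (· ∈ M)) :
    g.notI I (g.zm g.sq) (g.zm (vec g.N fun a => g.q (g.q a))) X = true ↔ iv M ∉ I := by
  have h2 : Msk g e (g.zm g.sq) fun x => x * x = 1 := msk_zm hK fun a ha => by
    rw [← hK.e_q he ha, hK.e_eq_one he (hK.q_lt ha)]
    rfl
  have h4 : Msk g e (g.zm (vec g.N fun a => g.q (g.q a))) fun x => x * x * (x * x) = 1 := msk_zm hK fun a ha => by
    rw [← hK.e_q he ha, ← hK.e_q he (hK.q_lt ha), hK.e_eq_one he (hK.q_lt (hK.q_lt ha)),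
      NB.lk_vec _ (fun b hb => (hK.q_lt (hK.q_lt hb)).trans_le hK.N_le) ha]
  unfold Gp.notI
  simp only [frc_eq, allL_iff, orr_iff, ne_iff]
  rw [(h2.land h).cnt hK he, (h4.land h).cnt hK he, (h2.land h).prs hK he, h.prs hK he]
  refine ⟨fun k hp => ?_, fun k p hp => by_contra fun h5 => k ?_⟩
  · rcases k _ hp with k | k | k | k <;> exact k rfl
  · simp only [not_or, not_not] at h5
    rwa [show iv M = p from (Prod.ext h5.1 (Prod.ext h5.2.1 (Prod.ext h5.2.2.2 h5.2.2.1))).symm]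

end Ni

open Ni Fn

open Classical in
theorem notI_iff {A : Type} [Group A] {g : Gp} {e : ℕ → A} (hK : g.K) (he : En g.m g.N e) (I : List (ℕ × ℕ × ℕ × ℕ))
    {M : Subgroup A} {X : ℕ} (h1 : X < 2 ^ (16 * g.N)) (h2 : ∀ a, a < g.N → lk X a = if e a ∈ M then 1 else 0) :
    g.notI I (g.zm g.sq) (g.zm (vec g.N fun a => g.q (g.q a))) X = true ↔ N.inv4 M ∉ I := by
  rw [inv4_sub]
  exact notI_iv hK he I ⟨h1, h2⟩

theorem Gp.cln_spec {A : Type} [Group A] {g : Gp} {e : ℕ → A} (hK : g.K) (he : En g.m g.N e) {I : List (ℕ × ℕ × ℕ × ℕ)}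
    (h : g.cln I = true) {M : Subgroup A} (hM : M.index = 2) : N.inv4 M ∉ I := by
  classical
  have hI : Ix M := fun u v => Subgroup.mul_mem_iff_of_index_two hM
  obtain ⟨mu, h1, h2⟩ := hI.mu (fun i => e (2 ^ i)) g.n
  replace h2 : ∀ a, a < g.N → (e a ∈ M ↔ ¬ Pc.par g.n (a &&& mu) = true) := fun a ha => by
    rw [(hK.pc A e he).2 a ha, h2]
  have h4 : ∀ a, a < g.N → e a ∈ M → ¬ nz (lk (parT g.n) (Nat.land a mu)) = true := fun a ha h5 h6 =>
    nz_iff.1 h6 (by rw [lk_pa hK ha, if_neg ((h2 a ha).1 h5)])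
  have hp : ∀ {k : ℕ}, k < g.n → Nat.shiftLeft 1 k < g.N := fun hk => by
    rw [one_shl, hK.hN]
    exact Nat.pow_lt_pow_right (by norm_num) hk
  unfold Gp.cln at h
  simp only [frc_eq, allN_iff, orr_iff, beq_iff] at h
  rcases h mu (hK.hN ▸ h1) with h5 | h5 | h5
  · have h6 : M = ⊤ := top_le_iff.1 fun x _ => by
      obtain ⟨a, ha, rfl⟩ := he.surj x
      rw [h2 a ha, h5, Nat.and_zero, par_zero]
      exact Bool.false_ne_true
    rw [h6, Subgroup.index_top] at hM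
    exact absurd hM (by decide)
  · obtain ⟨k, hk, h6⟩ := anyN_ex h5
    rcases orr_iff.1 h6 with h6 | h6
    · exact absurd h6 (h4 _ (hK.q_lt (hp hk)) (hK.e_q he (hp hk) ▸ hI.sq _))
    · obtain ⟨j, hj, h7⟩ := anyN_ex h6
      exact absurd h7 (h4 _ (hK.cm_lt (hp hk) (hp (hj.trans hk))) (hK.e_cm he (hp hk) (hp (hj.trans hk)) ▸ hI.cm _ _))
  · obtain ⟨k1, k2⟩ := kmu_spec mu g.n
    refine (notI_iff hK he I (hK.hN ▸ k1) fun a ha => ?_).1 h5
    rw [k2 a (hK.hN ▸ ha)]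
    by_cases h6 : e a ∈ M
    · rw [if_pos h6, if_neg ((h2 a ha).1 h6)]
    · rw [if_neg h6, if_pos (not_not.1 fun h7 => h6 ((h2 a ha).2 h7))]

/-- **no subgroup of index two carries a system** -/
theorem Gh.clN {c : Gh} {I : List (ℕ × ℕ × ℕ × ℕ)} (h : c.cln I = true) : N.ClN c.n c.R I [] := by
  intro hI A _ y F hy hF hne
  unfold Gh.cln at h
  rw [mkG_eq, an_iff] at h
  obtain ⟨hK, he⟩ := gp_K h.1 hy.card hy.pc hy.span
  obtain ⟨_, hA⟩ := hK.pgroup he
  obtain ⟨h1, h2⟩ := N.D.boxD3 A hA F hF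
  obtain ⟨M, hM, h3⟩ := h1 hne
  obtain ⟨F₀, h4⟩ := h2 M hM h3
  refine absurd (hI M ?_ F₀ h4) (Gp.cln_spec hK he h.2 hM)
  have h5 := M.card_mul_index
  rw [hM, hy.card] at h5
  rcases hn : c.n with _ | m
  · rw [hn] at h5
    omega
  · rw [hn, Nat.pow_succ] at h5
    exact Nat.eq_of_mul_eq_mul_right (by norm_num) h5

/-- the invariants of the group are in the list -/
def InI (n R : ℕ) (I : List (ℕ × ℕ × ℕ × ℕ)) : Prop :=
  ∀ (A : Type) [Group A] (y : ℕ → A), N.Pc16 n R y → N.inv4 A ∈ I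

noncomputable def Gh.isI (c : Gh) (I : List (ℕ × ℕ × ℕ × ℕ)) : Bool :=
  mkG c.n c.R c.I fun g => an g.ok (nt (g.notI I (g.zm g.sq) (g.zm (vec g.N fun a => g.q (g.q a))) g.O))

theorem Gh.inI {c : Gh} {I : List (ℕ × ℕ × ℕ × ℕ)} (h : c.isI I = true) : InI c.n c.R I := by
  intro A _ y hy
  unfold Gh.isI at h
  rw [mkG_eq, an_iff, nt_iff] at h
  obtain ⟨hK, he⟩ := gp_K h.1 hy.card hy.pc hy.span
  rw [inv4_top]
  exact not_not.1 fun h1 => h.2 ((notI_iv hK he I (M := ⊤) ⟨hK.O_lt, fun a ha => by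
    rw [hK.lk_O ha, if_pos (Subgroup.mem_top _)]⟩).2 h1)

/-- both modes -/
def Cm (n R : ℕ) (I : List (ℕ × ℕ × ℕ × ℕ)) (L : List N.Ent) : Prop := N.ClP n R L ∧ N.ClN n R I L

section glue

variable {n R : ℕ} {I I2 : List (ℕ × ℕ × ℕ × ℕ)} {L E : List N.Ent} {l l' : List ℕ}

theorem Cm.of_f (h : ClF n R false L) : Cm n R I L :=
  ⟨fun A _ y F hy hF _ => h A y F hy hF fun k => absurd k Bool.false_ne_true,
    fun _ A _ y F hy hF _ => h A y F hy hF fun k => absurd k Bool.false_ne_true⟩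

theorem Cm.of_p (h : ClF n R true L) (h2 : N.ClN n R I []) : Cm n R I L :=
  ⟨fun A _ y F hy hF k => h A y F hy hF fun _ => k, fun hI A _ y F hy hF k =>
    let ⟨_, hp, _⟩ := h2 hI A y F hy hF k
    absurd hp List.not_mem_nil⟩

theorem Cm.mono (h : Cm n R I E) (hE : ∀ p ∈ E, p ∈ L) : Cm n R I L :=
  ⟨fun A _ y F hy hF k => (h.1 A y F hy hF k).imp fun p hp => ⟨hE p hp.1, hp.2⟩,
    fun hI A _ y F hy hF k => (h.2 hI A y F hy hF k).imp fun p hp => ⟨hE p hp.1, hp.2⟩⟩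

theorem Cm.hit (h : Cm n R I L) (hI : N.LevI (n - 1) I) {A : Type} [Group A] {y : ℕ → A} (hy : N.Pc16 n R y) {F : N.Sys A}
    (hF : N.Hy2 F) : ∃ p ∈ L, N.Hit p F := by
  by_cases k : N.hyp F = ⊤
  · exact h.1 A y F hy hF k
  · exact h.2 hI A y F hy hF k

/-- groups without systems -/
def Cms (n : ℕ) (I : List (ℕ × ℕ × ℕ × ℕ)) (l : List ℕ) : Prop := ∀ R ∈ l, Cm n R I []

theorem Cms.nil : Cms n I [] := fun _ h => absurd h List.not_mem_nil

theorem Cms.cons (h : Cm n R I []) (h2 : Cms n I l) : Cms n I (R :: l) := List.forall_mem_cons.2 ⟨h, h2⟩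

theorem Cms.app (h : Cms n I l) (h2 : Cms n I l') : Cms n I (l ++ l') := List.forall_mem_append.2 ⟨h, h2⟩

/-- groups with systems -/
def Crs (n : ℕ) (I I2 : List (ℕ × ℕ × ℕ × ℕ)) (L : List N.Ent) (l : List ℕ) : Prop := ∀ R ∈ l, Cm n R I L ∧ InI n R I2

theorem Crs.nil : Crs n I I2 L [] := fun _ h => absurd h List.not_mem_nil

theorem Crs.cons (h : Cm n R I E) (hE : ∀ p ∈ E, p ∈ L) (hi : InI n R I2) (h2 : Crs n I I2 L l) : Crs n I I2 L (R :: l) :=
  List.forall_mem_cons.2 ⟨⟨h.mono hE, hi⟩, h2⟩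

theorem Crs.app (h : Crs n I I2 L l) (h2 : Crs n I I2 L l') : Crs n I I2 L (l ++ l') := List.forall_mem_append.2 ⟨h, h2⟩

end glue

/-- `gl` is the list `l` with some members of `rs` put in -/
noncomputable def cvr (rs : List ℕ) (gl : List ℕ) : List ℕ → Bool :=
  List.rec (fun _ => true) (fun a _ ih l => List.rec (an (anyL rs (Nat.beq a)) (ih []))
    (fun b l' _ => iF (Nat.beq a b) (ih l') (an (anyL rs (Nat.beq a)) (ih l))) l) gl

theorem cvr_spec {rs gl l : List ℕ} (h : cvr rs gl l = true) : ∀ R ∈ gl, R ∈ l ∨ R ∈ rs := by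
  have h0 : ∀ {a : ℕ}, anyL rs (Nat.beq a) = true → a ∈ rs := fun k =>
    let ⟨_, hb, k2⟩ := anyL_ex k
    beq_iff.1 k2 ▸ hb
  induction gl generalizing l with
  | nil => exact fun _ k => absurd k List.not_mem_nil
  | cons a gl ih =>
    cases l with
    | nil =>
      have h1 := an_iff.1 (show an (anyL rs (Nat.beq a)) (cvr rs gl []) = true from h)
      exact List.forall_mem_cons.2 ⟨.inr (h0 h1.1), ih h1.2⟩
    | cons b l =>
      rcases iF_iff.1 (show iF (Nat.beq a b) (cvr rs gl l) (an (anyL rs (Nat.beq a)) (cvr rs gl (b :: l))) = true from h) with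
        h1 | h1
      · exact List.forall_mem_cons.2 ⟨.inl (beq_iff.1 h1.1 ▸ List.mem_cons_self),
          fun R hR => (ih h1.2 R hR).imp_left (List.mem_cons_of_mem _)⟩
      · exact List.forall_mem_cons.2 ⟨.inr (h0 (an_iff.1 h1.2).1), ih (an_iff.1 h1.2).2⟩

/-- **a level** -/
theorem lev_of {n : ℕ} {gl l rs : List ℕ} {I I2 : List (ℕ × ℕ × ℕ × ℕ)} {L : List N.Ent}
    (hl : ∀ (A : Type) [Group A] [Finite A], Nat.card A = 2 ^ n → ∀ F : N.Sys A, N.Hy2 F →
      ∃ R ∈ gl, ∃ y : ℕ → A, N.Pc16 n R y)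
    (hI : N.LevI (n - 1) I) (h1 : Cms n I l) (h2 : Crs n I I2 L rs) (hc : cvr rs gl l = true) :
    N.Lev n L ∧ N.LevI n I2 := by
  have key : ∀ (A : Type) [Group A] [Finite A], Nat.card A = 2 ^ n → ∀ F : N.Sys A, N.Hy2 F →
      ∃ R ∈ rs, ∃ y : ℕ → A, N.Pc16 n R y := fun A _ _ hA F hF => by
    obtain ⟨R, hR, y, hy⟩ := hl A hA F hF
    rcases cvr_spec hc R hR with k | k
    · obtain ⟨_, hp, -⟩ := (h1 R k).hit hI hy hF
      exact absurd hp List.not_mem_nil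
    · exact ⟨R, k, y, hy⟩
  refine ⟨fun A _ _ hA F hF => ?_, fun A _ _ hA F hF => ?_⟩ <;> obtain ⟨R, hR, y, hy⟩ := key A hA F hF
  · exact (h2 R hR).1.hit hI hy hF
  · exact (h2 R hR).2 A y hy

end Cfsg.Agent.FS.NB
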