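import Cfsg.Agent.FS.N.B.Main
import Cfsg.Agent.FS.N.B.Gx

/-!
# The checker of part B for S5288, second version: the nodes
-/

set_option autoImplicit false

namespace Cfsg.Agent.FS.NB

open Cfsg Cfsg.FusionSystem Cfsg.Agent.H752 Cfsg.Agent.FS.Th Cfsg.Agent.FS.Pc Cfsg.Agent.FS.Sw Cfsg.Agent.FS.B
open Asm (En TyL)

variable {A : Type} [Group A] {g : Gp} {x : Nx} {a : Ab A} {e : ℕ → A} {cu : ℕ → ℕ → ℕ → Bool}

theorem srch2_spec (hK : g.K) (ha : AbOK g x a) {d : Ds} (hcu : CuOK g a (g.cxP x cu d)) {c : Ct}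
    (h : g.srch2 x cu d c = true) : PCl g x a d.P := by
  intro e he hE
  unfold Gp.srch2 at h
  rw [an_iff] at h
  obtain ⟨τ, f, h1, h2, h3⟩ := hE _ (hK.okN_spec he.en (hK.ws_mkS _) (hK.by_lt _ _) h.1)
  exact (go2_spec (cx := g.cxP x cu d) hK (cxP_ok hK d) ha (hcu _ τ) c 0 s0 hK.N_pos hK.ws_s0.toWF).1 h.2 e f
    ⟨he, rfl, h1, h2.mp, fun _ => h2, fun _ => h3, fun h4 => absurd rfl h4⟩ gens_s0

theorem covP2_spec (hK : g.K) (ha : AbOK g x a) : ∀ (AL : List Ds), (∀ d ∈ AL, CuOK g a (g.cxP x cu d)) →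
    ∀ (c : Ct) (dn : List ℕ), (∀ P ∈ dn, PCl g x a P) → g.covP2 x cu AL c dn = true → ∀ d ∈ AL, PCl g x a d.P := by
  intro AL
  induction AL with
  | nil => exact fun _ _ _ _ _ d hd => absurd hd List.not_mem_nil
  | cons d AL ih =>
    intro hcu c dn hdn h
    cases c with
    | cons w j sub rest =>
      have h' : an (iF (nz w) (an (Nat.blt j dn.length) (frc w (g.symP x d (nth 0 dn j)))) (g.srch2 x cu d sub))
        (g.covP2 x cu AL rest (d.P :: dn)) = true := h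
      rw [an_iff, iF_iff, an_iff, frc_eq, blt_iff] at h'
      have h1 : PCl g x a d.P := by
        rcases h'.1 with ⟨-, h1, h2⟩ | ⟨-, h1⟩
        · exact symP_spec hK ha h2 (hdn _ (nth_mem 0 h1))
        · exact srch2_spec hK ha (hcu d List.mem_cons_self) h1
      intro d' hd'
      rcases List.mem_cons.1 hd' with rfl | hd'
      · exact h1
      · exact ih (fun d hd => hcu d (List.mem_cons_of_mem _ hd)) rest _
          (fun P hP => (List.mem_cons.1 hP).elim (fun h2 => h2 ▸ h1) (hdn P)) h'.2 d' hd'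
    | _ => exact absurd h Bool.false_ne_true

theorem top2_spec (hK : g.K) (ha : AbOK g x a) {d : Ds} (hcu : CuOK g a (g.cxP x cu d)) (hf : g.full (g.mkS d.P) = true)
    (h0 : d.t0 = 0) {c : Ct} (h : (g.go2 (g.cxP x cu d) c).1 0 s0 = true) (he : RN g x a e) {f : A → A}
    (h1 : Au a.F a.M ⊤ f) : a.G := by
  have h2 : (g.cxP x cu d).t0 = 0 := by
    show g.by' d.t0 0 = 0
    rw [h0]
    exact Nat.zero_and _
  exact (go2_spec (cx := g.cxP x cu d) hK (cxP_ok hK d) ha (hcu _ 1) c 0 s0 hK.N_pos hK.ws_s0.toWF).1 h e f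
    ⟨he, hK.full_top he.en (hK.ws_mkS _).toWF (Gp.K.val_ws he.en (hK.ws_mkS _)) hf, Subgroup.mem_top _, h1.mp,
      fun _ => h1, fun h3 => absurd h2 h3, fun h4 => absurd rfl h4⟩ gens_s0

theorem extC2_spec (hK : g.K) (ha : AbOK g x a) (he : RN g x a e) {nd : Nd} (hL : HL g a.F Tv e nd.L)
    (hcu : CuOK g a (g.cxE x cu nd.z)) (hT : a.F.IsFullyNormalized (dom e (g.mkS nd.W))) {c : Ct}
    (h : g.extC2 cu nd x c = true) : a.G := by
  unfold Gp.extC2 at h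
  rw [an_iff, an_iff] at h
  have h1 := hK.der_spec he.en (closed_tv a.F) hL hK.ws_s0.toWF (hm_s0 (closed_tv a.F) e) (β := lk g.id)
    (fun b hb => by rwa [hK.id_eq b hb]) h.2.1 nd.a1 List.mem_cons_self
  obtain ⟨k, h2, h3⟩ := ext_spec hK he.en ha.sat (hK.ws_mkS _) hT (hK.wf_mkP _) (hK.ws_mkS _)
    (Gp.K.hm_congr (e := fun b => e (lk g.id b)) (fun b hb => by rw [hK.id_eq b hb]) (hK.wf_mkP _) h1) h.1
  exact (go2_spec (cx := g.cxE x cu nd.z) hK (cxE_ok hK _) ha (hcu _ 1) c 0 _ hK.N_pos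
    (hK.wf_mkP _)).1 h.2.2 e k ⟨he, rfl, by
      show 1 * (e 0)⁻¹ ∈ _
      rw [hK.e_zero he.en, inv_one, mul_one]
      exact Subgroup.one_mem _, h2, fun h5 => absurd rfl h5, fun h5 => absurd rfl h5, fun h5 => absurd rfl h5⟩ h3

theorem nod2_spec (hK : g.K) {pf : Bool} {F : FusionSystem (⊤ : Subgroup A)} (hF : Hy pf F) {Xs cuts : List (List ℕ)}
    {AL : List Ds} (hA : Alive g F AL) (hc : ∀ L ∈ cuts, NC g F Xs L) {dT : Ds} {nd : Nd}
    (hcu : ∀ M W z C, AbOK g (g.nxOf cuts nd) ⟨F, M, W, z, Goal g F Xs, C⟩ →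
      ∀ d ∈ dT :: AL, CuOK g ⟨F, M, W, z, Goal g F Xs, C⟩ (g.cxP (g.nxOf cuts nd) cu d))
    (h : g.nod2 pf Xs AL dT cu cuts nd = true) : NC g F Xs nd.L := by
  intro e he hL
  obtain ⟨_, hp⟩ := hK.pgroup he
  unfold Gp.nod2 Gp.nod1 at h
  have hkd : (g.nxOf cuts nd).kd = nd.kd := rfl
  have hxL : (g.nxOf cuts nd).L = nd.L := rfl
  have hxc : (g.nxOf cuts nd).cuts = cuts := rfl
  have hxW : (g.nxOf cuts nd).W =
    iF (Nat.beq nd.kd 3) (g.cmS nd.W) (iF (Nat.ble 4 nd.kd) s0 (g.mkS nd.W)) := rfl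
  have hxC : (g.nxOf cuts nd).cl = iF (Nat.beq nd.kd 5) (List.rec [] (fun a _ ih => g.mkS a :: ih) nd.cl) [] := rfl
  have hxz : (g.nxOf cuts nd).z = iF (Nat.beq nd.kd 3) (g.by' nd.z 0) 0 := rfl
  generalize g.nxOf cuts nd = x at h hcu hkd hxL hxc hxW hxz hxC
  have hS := hK.ws_mkS dT.P
  have hW : WS g x.W := by
    rw [hxW]
    cases Nat.beq nd.kd 3
    · cases Nat.ble 4 nd.kd
      · exact hK.ws_mkS _
      · exact hK.ws_s0
    · exact (cmS_spec hK _).1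
  have hz : x.z < g.N := by
    rw [hxz]
    cases Nat.beq nd.kd 3
    · exact hK.N_pos
    · exact hK.by_lt _ _
  have hz0 : nd.kd ≠ 3 → x.z = 0 := fun h1 => by rw [hxz, iF_neg fun h2 => h1 (beq_iff.1 h2)]
  have hzz : (e x.z)⁻¹ * e x.z ∈ dom e x.W := by
    rw [inv_mul_cancel]
    exact Subgroup.one_mem _
  have hc' : ∀ L ∈ x.cuts, ∀ e : ℕ → A, En g.m g.N e → HL g F Tv e L → Goal g F Xs := hxc ▸ hc
  have hwC : ∀ X ∈ x.cl, WS g X := by
    rw [hxC]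
    cases Nat.beq nd.kd 5
    · exact fun _ h => absurd h List.not_mem_nil
    · exact ws_cl hK _
  have hC0 : nd.kd ≠ 5 → CL e x.cl fun _ => False := fun h1 => by
    rw [hxC, iF_neg fun h2 => h1 (beq_iff.1 h2)]
    exact cl_nil
  have ha0 : ∀ M, Closed F M → x.kd = 0 ∨ x.kd = 4 →
      AbOK g x ⟨F, M, dom e x.W, e x.z, Goal g F Xs, fun _ => False⟩ := fun M hM h0 =>
    ⟨hF.sat, hM, hW, hz, fun h1 => by omega, fun h1 => by omega, fun h1 => by omega, hc', hwC, fun _ _ h => h.elim,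
      fun _ => cls_false, fun h1 => by omega, fun h1 => by omega⟩
  rw [an_iff, orr_iff, an_iff, ne_iff, ne_iff, an_iff, an_iff, beq_iff, iF_iff, beq_iff] at h
  obtain ⟨hpf, hf, ht, ⟨h4, h⟩ | ⟨h4, h⟩⟩ := h
  · rw [an_iff] at h
    exact extC2_spec (cu := fun _ _ _ => false) hK (ha0 Tv (closed_tv F) (by omega)) ⟨he, hxL ▸ hL, rfl, hzz, hC0 (by omega)⟩ hL
      (fun _ _ _ _ h => absurd h Bool.false_ne_true)
      (isFullyNormalized_of_normal F le_top fun s _ => hK.nrm_spec he hS (hK.ws_mkS _) hf h.1 s) h.2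
  rw [an_iff, an_iff, orr_iff, beq_iff, iF_iff, beq_iff] at h
  obtain ⟨h1, h2, h3⟩ := h
  have key0 : ∀ M C, AbOK g x ⟨F, M, dom e x.W, e x.z, Goal g F Xs, C⟩ → HL g F M e x.L → nd.kd ≠ 3 → CL e x.cl C →
      (∀ s, ∀ y ∈ dom e x.W, s * y * s⁻¹ ∈ dom e x.W) →
      ∀ P f, Mp F P f → ¬ M P f → Goal g F Xs := fun M C ha h5 h6 hC hn' P f h7 h8 =>
    fail_spec hK ha ⟨he, h5, rfl, hzz, hC⟩ hn' (hz0 h6) hA
      (fun _ h9 => top2_spec hK ha (hcu _ _ _ _ ha dT List.mem_cons_self) hf ht h2 ⟨he, h5, rfl, hzz, hC⟩ h9)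
      (covP2_spec hK ha AL (fun d hd => hcu _ _ _ _ ha d (List.mem_cons_of_mem _ hd)) nd.ps []
        (fun _ h => absurd h List.not_mem_nil) (h3.resolve_left h6)) h7 h8
  rcases h1 with ⟨h5, h1⟩ | ⟨hk5, h1⟩
  · rw [an_iff] at h1
    have hC : CL e x.cl fun Y => ∃ X ∈ x.cl, dom e X = Y := fun _ => Iff.rfl
    generalize (fun Y => ∃ X ∈ x.cl, dom e X = Y) = C at hC
    obtain ⟨h6, h7, h8, h9, h10⟩ := clsOK_spec hK he hC hwC hS hf (hK.ws_mkS _) h1.1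
    by_cases h11 : ∀ P f, Mp F P f → clsP C P f
    · have h12 := fn_of_cls h11 h6 h9
      refine extC2_spec (cu := fun _ _ _ => false) (x := g.nxE x.cuts nd) (a := ⟨F, Tv, dom e (g.mkS nd.W), 1, Goal g F Xs, fun _ => False⟩) hK
        ⟨hF.sat, closed_tv F, hK.ws_mkS _, hK.N_pos, fun h => absurd h (show ¬ 6 = 1 by decide),
          fun h => absurd h (show ¬ 6 = 2 by decide), fun h => absurd h (show ¬ 6 = 3 by decide), hc',
          fun _ h => absurd h List.not_mem_nil, fun _ _ h => h.elim, fun _ => cls_false,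
          fun h => absurd h (show ¬ 6 = 5 by decide), fun _ => h12⟩ ⟨he, hL, rfl, ?_, cl_nil⟩ hL
        (fun _ _ _ _ h => absurd h Bool.false_ne_true) h12 h1.2
      show (1 : A)⁻¹ * e 0 ∈ _
      rw [hK.e_zero he, inv_one, mul_one]
      exact Subgroup.one_mem _
    · simp only [not_forall] at h11
      obtain ⟨P, f, h12, h13⟩ := h11
      refine key0 (clsP C) C ⟨hF.sat, closed_clsP F h8, hW, hz, fun h1 => by omega, fun h1 => by omega,
        fun h1 => by omega, hc', hwC, h7, h8, fun _ _ _ h14 => h14, fun h1 => by omega⟩ (fun s hs => ?_) (by omega) hC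
        (fun s y hy => ?_) P f h12 h13
      · obtain ⟨k, h14, -, h15⟩ := hL s (hxL ▸ hs)
        exact ⟨k, h14, hC.map hK he hwC h7 (hK.wf_mkP s) h14 h15 (h10 s hs), h15⟩
      · rw [hxW, h5, show iF (Nat.beq 5 3) (g.cmS nd.W) (iF (Nat.ble 4 5) s0 (g.mkS nd.W)) = s0 from rfl, dom_s0,
          Subgroup.mem_bot] at hy ⊢
        rw [hy, mul_one, mul_inv_cancel]
  unfold Gp.kdOK at h1
  simp only [an_iff, iF_iff, nz_iff, beq_iff, allP_iff, allL_iff, orr_iff, nt_iff, blt_iff] at h1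
  obtain ⟨hn, h1⟩ := h1
  have hn' := hK.nrm_spec he hS hW hf hn
  have hm : ∀ {b : ℕ}, b < g.N → (mem x.W b = true ↔ e b ∈ dom e x.W) := fun hb => hK.mem_ws he hW hb
  have key : ∀ M, AbOK g x ⟨F, M, dom e x.W, e x.z, Goal g F Xs, fun _ => False⟩ → HL g F M e x.L → nd.kd ≠ 3 →
      ∀ P f, Mp F P f → ¬ M P f → Goal g F Xs := fun M ha h5 h6 => key0 M _ ha h5 h6 (hC0 hk5) hn'
  rcases h1 with ⟨-, ⟨h5, h6, h7⟩ | ⟨h5, hcm, ⟨h6, h7, h8, h9⟩ | ⟨-, h6, h7, h8, h9, h10⟩⟩⟩ | ⟨h5, h6, h7⟩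
  · have hWl := (Gp.K.lk_val hW.toWF (Gp.K.val_ws he hW) le_rfl).1
    obtain ⟨h8, ⟨P, f, h9, h10⟩, h11⟩ := nor_node hF.toHy0 (W := dom e x.W) (fun h8 => h6 (by
      by_contra h9
      obtain ⟨i, hi⟩ : ∃ i, lk x.W.tab i ≠ 0 := by
        by_contra h10
        exact h9 (eq_of_lk (N := x.W.tab) (Nat.lt_two_pow_self.trans_le (Nat.pow_le_pow_right (by norm_num) (by omega)))
          (Nat.two_pow_pos _) fun i _ => by rw [lk_zero]; exact not_not.1 fun h11 => h10 ⟨i, h11⟩)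
      obtain ⟨h10, -, h11, -⟩ := hWl i hi
      rw [h8, Subgroup.mem_bot, hK.e_eq_one he h10] at h11
      exact hi (by rw [h11]; exact hWl.zero hK he (hm_id _)))) hn'
    refine key (norP F (dom e x.W)) ⟨hF.sat, h8, hW, hz, fun _ => h11, fun h1 => by omega, fun h1 => by omega, hc', hwC,
      fun _ _ h => h.elim, fun _ => cls_false, fun h1 => by omega, fun h1 => by omega⟩
      (fun s hs => ?_) (by omega) P f h9 h10
    obtain ⟨k, h12, -, h13⟩ := hL s (hxL ▸ hs)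
    have h14 := (Gp.K.lk_val (hK.wf_mkP s) ((hK.wf_mkP s).val A e k _ he (hm_of_mp h12) h13) le_rfl).1
    have h15 : ∀ p ∈ x.W.gs.ls, e p.1 ∈ dom e (g.mkP s) ∧ k (e p.1) ∈ dom e x.W := fun p hp => by
      obtain ⟨-, -, h16, h17⟩ := h14 p.1 fun h16 => h7 s hs p hp (by rw [h16]; exact hWl.zero hK he (hm_id _))
      exact ⟨h16, h17 ▸ (hWl _ (h7 s hs p hp)).2.2.1⟩
    exact ⟨k, h12, h11 _ _ h12 (dom_le fun p hp => (h15 p hp).1) (mem_of_gens (X := gS e x.W.gs)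
      (fun _ ⟨p, hp, h16⟩ => h16 ▸ (h15 p hp).1) h12 fun _ ⟨p, hp, h16⟩ => h16 ▸ (h15 p hp).2), h13⟩
  · have hb := hK.by_lt nd.a1 0
    obtain ⟨h10, P, f, h11, h12⟩ := foc_node hp ⟨hF.sat, hF.core, hF.pf (hpf.resolve_right fun h0 => by omega)⟩
      (W := dom e x.W)
      (fun h10 => h7 ((hm hb).2 (h10 ▸ Subgroup.mem_top _))) (hK.cms_spec he hS hW hf hn hcm)
    have h13 : ∀ u, u ∉ dom e x.W → (e (g.by' nd.a1 0))⁻¹ * u ∈ dom e x.W := fun u hu => by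
      obtain ⟨j, hj, rfl⟩ := he.surj u
      refine (hK.lk_cos he hW hb hj).1 fun h13 => ?_
      have h14 : lk (Nat.lor (g.msk x.W) (g.cos x.W (g.by' nd.a1 0))) j = 0 :=
        lk_lor_eq_zero.2 ⟨by rw [hK.lk_msk _ hj, if_neg fun h14 => hu ((hm hj).1 h14)], h13⟩
      rw [h8, hK.lk_O hj] at h14
      exact one_ne_zero h14
    refine key (focP (dom e x.W)) ⟨hF.sat, h10, hW, hz, fun h1 => by omega, fun _ => ⟨fun u v hu hv => ?_, hn',
      fun _ _ _ h14 => h14⟩, fun h1 => by omega, hc', hwC,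
      fun _ _ h => h.elim, fun _ => cls_false, fun h1 => by omega, fun h1 => by omega⟩ (fun s hs => ?_) (by omega) P f h11 h12
    · have h14 := Subgroup.mul_mem _ (Subgroup.inv_mem _ (h13 u hu)) (h13 v hv)
      rwa [mul_inv_rev, inv_inv, mul_assoc, mul_inv_cancel_left] at h14
    · obtain ⟨k, h14, -, h15⟩ := hL s (hxL ▸ hs)
      refine ⟨k, h14, focP_of_gens hn' h14 (X := gS e (g.mkP s).gs) rfl ?_, h15⟩
      rintro _ ⟨p, hp, rfl⟩
      obtain ⟨h16, h17⟩ := (hK.wf_mkP s).gs p hp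
      rw [(h15 p hp).2, ← hK.e_i he h16, ← he.mul _ (hK.i_lt _ h16) _ h17]
      exact (hm (he.lt _ (hK.i_lt _ h16) _ h17)).1 (h9 s hs p hp)
  · have h11 : x.W = g.cmS nd.W := by rw [hxW, iF_pos (beq_iff.2 (hkd ▸ h6))]
    obtain ⟨h12, ⟨f, h13⟩, h14⟩ := cen_node hp ⟨hF.sat, hF.core, hF.pf (hpf.resolve_right fun h0 => by omega)⟩
      (W := dom e x.W) (X := gS e x.W.gs) rfl (by
      rintro _ ⟨p, hp, rfl⟩
      obtain ⟨u, v, hu, hv, h12⟩ := (cmS_spec hK nd.W).2 p (h11 ▸ hp)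
      exact ⟨e u, e v, by rw [h12, hK.e_cm he hu hv]⟩) (hK.cms_spec he hS hW hf hn hcm) (z := e x.z)
      (fun h12 => h7 ((hm hz).2 h12)) (by rw [← hK.e_q he hz, h8, hK.e_zero he]) fun u => by
        obtain ⟨j, hj, rfl⟩ := he.surj u
        rw [← he.mul _ hj _ hz, ← he.mul _ hz _ hj, ← hK.c_eq _ hz _ hj, ← h9]
        rfl
    have ha : AbOK g x ⟨F, cenP (dom e x.W) (e x.z), dom e x.W, e x.z, Goal g F Xs, fun _ => False⟩ :=
      ⟨hF.sat, h12, hW, hz, fun h1 => by omega, fun h1 => by omega, fun _ => h14, hc', hwC,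
      fun _ _ h => h.elim, fun _ => cls_false, fun h1 => by omega, fun h1 => by omega⟩
    refine top2_spec hK ha (hcu _ _ _ _ ha dT List.mem_cons_self) hf ht h2 ⟨he, fun s hs => ?_, rfl, hzz, hC0 hk5⟩ h13
    obtain ⟨k, h15, -, h16⟩ := hL s (hxL ▸ hs)
    refine ⟨k, h15, fun h17 => ?_, h16⟩
    have hv := (hK.wf_mkP s).val A e k _ he (hm_of_mp h15) h16
    have h18 := (h10 s hs).resolve_left (not_not.2 (hK.full_of_mem fun b hb =>
      (hK.mem_val he (hK.wf_mkP s) hv hb).2 (h17 ▸ Subgroup.mem_top _)))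
    obtain ⟨h19, h20⟩ := hK.tab_val he (hK.wf_mkP s) hv hz (h17 ▸ Subgroup.mem_top _)
    rw [h20, ← hK.e_i he hz, ← he.mul _ (hK.i_lt _ hz) _ h19]
    exact (hm (he.lt _ (hK.i_lt _ hz) _ h19)).1 h18
  · have h8 : x.kd = 0 := not_not.1 h5
    have h9 := lbeq_eq h7
    by_cases h10 : ∀ P f, Mp F P f → ME F e (g.ty x.L) P f
    · refine ⟨e, he, nd.a1, h6, h9 ▸ ⟨fun L hL' => ?_, fun M hM h11 P f h12 => h10 P f h12 M hM h11⟩⟩
      obtain ⟨s, hs, rfl⟩ := List.mem_map.1 hL'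
      obtain ⟨k, h11, -, h12⟩ := hL s (hxL ▸ hs)
      exact ⟨k, h11, fun p hp => (h12 p hp).2⟩
    · simp only [not_forall] at h10
      obtain ⟨P, f, h11, h12⟩ := h10
      refine key (ME F e (g.ty x.L)) (ha0 _ (closed_ME F e _) (Or.inl h8)) (fun s hs => ?_) (by omega) P f h11 h12
      obtain ⟨k, h13, -, h14⟩ := hL s (hxL ▸ hs)
      exact ⟨k, h13, fun M _ h15 => h15 _ (List.mem_map.2 ⟨s, hs, rfl⟩) k h13 fun p hp => (h14 p hp).2, h14⟩

namespace Gh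

/-- the parts of the list are settled -/
def PC (c : Gh) (cuts : List (List ℕ)) (h : Nd) (l : List (ℕ × ℕ × ℕ)) : Prop :=
  ∀ (A : Type) [Group A] (F : FusionSystem (⊤ : Subgroup A)), c.g.K → ∀ M W z C,
    AbOK c.g (c.g.nxOf cuts h) ⟨F, M, W, z, Goal c.g F c.Xs, C⟩ → ∀ d ∈ c.dT :: c.AL, ∀ p ∈ l, p.1 = d.P → ∀ Q τ cu,
      Cl c.g (c.g.cxP (c.g.nxOf cuts h) cu d) ⟨F, M, W, z, Goal c.g F c.Xs, C⟩ Q τ p.2.1 (c.g.mkP p.2.2)

variable {c : Gh} {cuts : List (List ℕ)} {h : Nd} {l l' : List (ℕ × ℕ × ℕ)}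

theorem PC.nil : c.PC cuts h [] := fun _ _ _ _ _ _ _ _ _ _ _ _ k => absurd k List.not_mem_nil

theorem PC.app (k : c.PC cuts h l) (k' : c.PC cuts h l') : c.PC cuts h (l ++ l') :=
  fun A _ F hK M W z C ha d hd p hp => (List.mem_append.1 hp).elim (k A F hK M W z C ha d hd p) (k' A F hK M W z C ha d hd p)

theorem PC.cok (k : c.PC cuts h l) {A : Type} [Group A] {F : FusionSystem (⊤ : Subgroup A)} (hK : c.g.K) (M W z C)
    (ha : AbOK c.g (c.g.nxOf cuts h) ⟨F, M, W, z, Goal c.g F c.Xs, C⟩) (d : Ds) (hd : d ∈ c.dT :: c.AL) :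
    CuOK c.g ⟨F, M, W, z, Goal c.g F c.Xs, C⟩ (c.g.cxP (c.g.nxOf cuts h) (cuL l) d) := fun Q τ t w k1 => by
  obtain ⟨p, hp, k2⟩ := exL_iff.1 (show exL l _ = true from k1)
  rw [an_iff, an_iff, beq_iff, beq_iff, beq_iff] at k2
  rw [← k2.1, ← k2.2.1]
  exact k A F hK M W z C ha d hd p hp k2.2.2 Q τ _

theorem PC.one (k : c.PC cuts h l) {P t w : ℕ} {ct : Ct} (k1 : c.part cuts l h P t w ct = true) : c.PC cuts h [(P, t, w)] := by
  intro A _ F hK M W z C ha d hd p hp h1 Q τ cu e f h2 h3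
  rw [List.mem_singleton.1 hp] at h1 h2 h3
  unfold part at k1
  rw [mkG_eq, an_iff, blt_iff, allL_iff] at k1
  exact (go2_spec (cx := c.g.cxP (c.g.nxOf cuts h) (cuL l) d) hK (cxP_ok hK d) ha (k.cok hK M W z C ha d hd Q τ) ct t _ k1.1
    (hK.wf_mkP w)).1 ((orr_iff.1 (k1.2 d hd)).resolve_left fun h4 => ne_iff.1 h4 h1.symm) e f
    ⟨h2.rn, h2.P, h2.t0, h2.mp, h2.au, h2.di, h2.t⟩ h3

theorem PC.cons (k : c.PC cuts h l) {P t w : ℕ} {ct : Ct} (k1 : c.part cuts l h P t w ct = true) (k' : c.PC cuts h l') :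
    c.PC cuts h ((P, t, w) :: l') := (k.one k1).app k'

/-- a node with parts -/
theorem stepC (hb : c.Base) (h0 : c.NCs cuts) (k : c.PC cuts h l) {top ps ex : Ct}
    (k1 : c.nod cuts l (h.wt top ps ex) = true) : c.NCs (h.L :: cuts) := fun A _ F hK hF => by
  unfold nod at k1
  rw [mkG_eq] at k1
  exact List.forall_mem_cons.2 ⟨nod2_spec (nd := h.wt top ps ex) hK hF (hb.2 A F hK hF.sat) (h0 A F hK hF) (k.cok hK) k1,
    h0 A F hK hF⟩

/-- a node without parts -/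
theorem step2 (hb : c.Base) (h0 : c.NCs cuts) {nd : Nd} (k1 : c.nod cuts [] nd = true) : c.NCs (aft [nd] cuts) :=
  stepC (h := nd) (top := nd.top) (ps := nd.ps) (ex := nd.ex) hb h0 PC.nil k1

end Gh

end Cfsg.Agent.FS.NB
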