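import Cfsg.Agent.FS.N.B.Nx

/-!
# The checker of part B for S5288, second version: lists of parts, images of parts under symmetries
-/

set_option autoImplicit false

namespace Cfsg.Agent.FS.NB

open Cfsg Cfsg.FusionSystem Cfsg.Agent.H752 Cfsg.Agent.FS.Th Cfsg.Agent.FS.Pc Cfsg.Agent.FS.Sw Cfsg.Agent.FS.B
open Asm (En TyL)

/-- a part of a search, or the image `w` of the part `v` under the symmetry `s` -/
inductive It
  | pt (P t w : ℕ) (ct : Ct)
  | sy (P t w v s : ℕ)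

noncomputable def It.key (i : It) : ℕ × ℕ × ℕ := It.rec (fun P t w _ => (P, t, w)) (fun P t w _ _ => (P, t, w)) i

noncomputable def aftI (is : List It) : List (ℕ × ℕ × ℕ) → List (ℕ × ℕ × ℕ) :=
  List.rec (fun l => l) (fun i _ ih l => ih (i.key :: l)) is

noncomputable def subI (l l' : List (ℕ × ℕ × ℕ)) : Bool := allL l fun p => cuL l' p.1 p.2.1 p.2.2

namespace Gp

variable (g : Gp)

noncomputable def sy1 (cx : Cx) (t w v s : ℕ) : Bool :=
  an (nt cx.ex) (an (g.stC cx s) (an (Nat.beq (g.gam cx.nx s t) t) (allP (g.mkP v).gs fun a b =>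
    an (nz (g.gam cx.nx s b)) (Nat.beq (lk (g.mkP w).tab (g.gam cx.nx s a)) (g.gam cx.nx s b)))))

noncomputable def it1 (dl : List Ds) (x : Nx) (l : List (ℕ × ℕ × ℕ)) (i : It) : Bool :=
  It.rec (fun P t w ct => an (Nat.blt t g.N) (allL dl fun d =>
      orr (ne d.P P) ((g.go2 (g.cxP x (cuL l) d) ct).1 t (g.mkP w))))
    (fun P t w v s => an (cuL l P t v) (allL dl fun d =>
      orr (ne d.P P) (frc s (g.sy1 (g.cxP x (fun _ _ _ => false) d) t w v)))) i

noncomputable def its (dl : List Ds) (x : Nx) (is : List It) : List (ℕ × ℕ × ℕ) → Bool :=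
  List.rec (fun _ => true) (fun i _ ih l => an (g.it1 dl x l i) (ih (i.key :: l))) is

end Gp

noncomputable def Gh.its (c : Gh) (cuts : List (List ℕ)) (h : Nd) (is : List It) (l : List (ℕ × ℕ × ℕ)) : Bool :=
  mkG c.n c.R c.I fun g => g.its (c.dT :: c.AL) (g.nxOf cuts h) is l

theorem sy1_spec {A : Type} [Group A] {g : Gp} {cx : Cx} {a : Ab A} {Q : Subgroup A} {τ : A} {t w v s : ℕ} (hK : g.K)
    (hc : CxOK g cx) (ha : AbOK g cx.nx a) (hl : g.sy1 cx t w v s = true) (h0 : Cl g cx a Q τ t (g.mkP v)) :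
    Cl g cx a Q τ t (g.mkP w) := by
  intro e f h hg
  have he := h.rn.en
  unfold Gp.sy1 Gp.stC at hl
  simp only [an_iff, nz_iff, beq_iff, allP_iff] at hl
  obtain ⟨-, ⟨h1, h2, h3, -⟩, h5, h7⟩ := hl
  have hγ : ∀ b, b < g.N → g.gam cx.nx s b < g.N := fun _ hb => hK.gam_lt _ s hb
  have h8 := stN_spec hK ha h.rn h1
  refine h0 (fun b => e (g.gam cx.nx s b)) f
    ⟨h8, (hK.dom_stab he hγ h8.en hc.wP (allP_iff.2 h2)).trans h.P, ?_, h.mp, h.au, h.di, fun h11 => ?_⟩ fun p hp => ?_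
  · have h11 := (h.mem hK hc (he.lt _ hc.t0 _ (hK.i_lt _ (hγ _ hc.t0)))).1 h3
    rw [he.mul _ hc.t0 _ (hK.i_lt _ (hγ _ hc.t0)), hK.e_i he (hγ _ hc.t0)] at h11
    have h12 := Q.mul_mem h.t0 h11
    rwa [mul_assoc, inv_mul_cancel_left] at h12
  · show _ ∧ e (g.gam cx.nx s t) = τ
    rw [h5]
    exact h.t h11
  · obtain ⟨h11, h12⟩ := h7 p hp
    obtain ⟨-, -, h14, h15⟩ := (h.lk (hK.wf_mkP w) hg).1 (g.gam cx.nx s p.1) (h12 ▸ h11)
    rw [h12] at h15
    exact ⟨h14, h15⟩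

theorem cuL_mem {l : List (ℕ × ℕ × ℕ)} {P t w : ℕ} (h : cuL l P t w = true) : (P, t, w) ∈ l := by
  obtain ⟨⟨a, b, c⟩, hp, k⟩ := exL_iff.1 (show exL l _ = true from h)
  rw [an_iff, an_iff, beq_iff, beq_iff, beq_iff] at k
  obtain ⟨rfl, rfl, rfl⟩ : c = w ∧ b = t ∧ a = P := k
  exact hp

namespace Gh

variable {c : Gh} {cuts : List (List ℕ)} {h : Nd} {l l' : List (ℕ × ℕ × ℕ)}

theorem PC.sub (k : c.PC cuts h l') (k1 : subI l l' = true) : c.PC cuts h l :=
  fun A _ F hK M W z C ha d hd p hp => k A F hK M W z C ha d hd p (cuL_mem (allL_iff.1 k1 p hp))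

theorem PC.it (k : c.PC cuts h l) {i : It} (k1 : c.g.it1 (c.dT :: c.AL) (c.g.nxOf cuts h) l i = true) :
    c.PC cuts h (i.key :: l) := by
  refine PC.app (l := [i.key]) ?_ k
  cases i with
  | pt P t w ct =>
    refine k.one (ct := ct) ?_
    unfold part
    rw [mkG_eq]
    exact k1
  | sy P t w v s =>
    intro A _ F hK M W z C ha d hd p hp h1 Q τ cu e f h2 h3
    rw [List.mem_singleton.1 hp] at h1 h2 h3
    obtain ⟨h4, h5⟩ := an_iff.1 (show an _ _ = true from k1)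
    have h6 := (orr_iff.1 (allL_iff.1 h5 d hd)).resolve_left fun h4 => ne_iff.1 h4 h1.symm
    rw [frc_eq] at h6
    exact sy1_spec (cx := c.g.cxP (c.g.nxOf cuts h) (fun _ _ _ => false) d) hK (cxP_ok hK d) ha h6
      (k A F hK M W z C ha d hd _ (cuL_mem h4) h1 Q τ _) e f ⟨h2.rn, h2.P, h2.t0, h2.mp, h2.au, h2.di, h2.t⟩ h3

theorem PC.its0 : ∀ (is : List It) (l : List (ℕ × ℕ × ℕ)), c.PC cuts h l →
    c.g.its (c.dT :: c.AL) (c.g.nxOf cuts h) is l = true → c.PC cuts h (aftI is l)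
  | [], _, k, _ => k
  | i :: is, l, k, k1 =>
    have k2 := an_iff.1 (show an (c.g.it1 (c.dT :: c.AL) (c.g.nxOf cuts h) l i)
      (c.g.its (c.dT :: c.AL) (c.g.nxOf cuts h) is (i.key :: l)) = true from k1)
    PC.its0 is _ (k.it k2.1) k2.2

/-- a further list of parts -/
theorem PC.more (k : c.PC cuts h l') {is : List It} (k1 : c.its cuts h is l = true) (k2 : subI l l' = true) :
    c.PC cuts h (aftI is l') := by
  unfold its at k1
  rw [mkG_eq] at k1
  have h1 := PC.its0 is l (k.sub k2) k1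
  have h2 : ∀ (is : List It) (l l' : List (ℕ × ℕ × ℕ)), ∀ p ∈ aftI is l', p ∈ aftI is l ∨ p ∈ l' := fun is => by
    have h3 : ∀ (is : List It) (l : List (ℕ × ℕ × ℕ)), ∀ p, p ∈ aftI is l ↔ p ∈ is.map It.key ∨ p ∈ l := fun is => by
      induction is with
      | nil => exact fun l p => ⟨Or.inr, fun k => k.resolve_left List.not_mem_nil⟩
      | cons i is ih =>
        intro l p
        rw [show aftI (i :: is) l = aftI is (i.key :: l) from rfl, ih, List.map_cons, List.mem_cons, List.mem_cons]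
        tauto
    exact fun l l' p hp => ((h3 is l' p).1 hp).imp_left fun k => (h3 is l p).2 (Or.inl k)
  exact fun A _ F hK M W z C ha d hd p hp =>
    (h2 is l l' p hp).elim (h1 A F hK M W z C ha d hd p) (k A F hK M W z C ha d hd p)

end Gh

end Cfsg.Agent.FS.NB
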