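import Cfsg.Agent.FS.N.B.Bas

/-!
# The checker of part B for S5288 (port of FS/B to cells of 16 bits): partial maps
-/

set_option autoImplicit false

namespace Cfsg.Agent.FS.NB

open Cfsg Cfsg.FusionSystem Cfsg.Agent.H752 Cfsg.Agent.FS.Th Cfsg.Agent.FS.Pc Cfsg.Agent.FS.Sw Cfsg.Agent.FS.B
open Asm (En)

namespace ValAux

section

variable {A : Type} [Group A] {D : Subgroup A} {φ : A → A}

theorem hm_one (h : Hm D φ) : φ 1 = 1 := by
  have h1 := h.mul 1 D.one_mem 1 D.one_mem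
  rw [mul_one] at h1
  exact (left_eq_mul.1 h1)

theorem hm_inv (h : Hm D φ) {x : A} (hx : x ∈ D) : φ x⁻¹ = (φ x)⁻¹ := by
  have h1 := h.mul x hx x⁻¹ (D.inv_mem hx)
  rw [mul_inv_cancel, hm_one h] at h1
  exact eq_inv_of_mul_eq_one_right h1.symm

theorem hm_mono (h : Hm D φ) {D' : Subgroup A} (hle : D' ≤ D) : Hm D' φ :=
  ⟨fun x hx y hy => h.mul x (hle hx) y (hle hy), fun x hx y hy => h.inj x (hle hx) y (hle hy)⟩

theorem closure_le_of_gens {e : ℕ → A} {l : PL} (h : Gens e φ D l) : Subgroup.closure (gS e l) ≤ D := by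
  rw [Subgroup.closure_le]
  rintro _ ⟨p, hp, rfl⟩
  exact (h p hp).1

theorem mem_gS {e : ℕ → A} {l : PL} {p : ℕ × ℕ} (hp : p ∈ l.ls) : e p.1 ∈ Subgroup.closure (gS e l) :=
  Subgroup.subset_closure ⟨p, hp, rfl⟩

theorem closure_le_of {e : ℕ → A} {l : PL} {X : Subgroup A} (h : ∀ p ∈ l.ls, e p.1 ∈ X) :
    Subgroup.closure (gS e l) ≤ X := by
  rw [Subgroup.closure_le]
  rintro _ ⟨p, hp, rfl⟩
  exact h p hp

/-- a subgroup together with one coset -/
def dblS (X : Subgroup A) (a : A) (h1 : ∀ x ∈ X, a * x * a⁻¹ ∈ X) (h2 : a * a ∈ X) : Subgroup A where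
  carrier := {y | y ∈ X ∨ a⁻¹ * y ∈ X}
  one_mem' := Or.inl X.one_mem
  mul_mem' := by
    have h3 : ∀ x ∈ X, a⁻¹ * x * a ∈ X := fun x hx => by
      have h4 := X.mul_mem (X.mul_mem (X.inv_mem h2) (h1 x hx)) h2
      simpa [mul_assoc] using h4
    rintro x y (hx | hx) (hy | hy)
    · exact Or.inl (X.mul_mem hx hy)
    · right
      have h4 := X.mul_mem (h3 x hx) hy
      simpa [mul_assoc] using h4
    · right
      have h4 := X.mul_mem hx hy
      simpa [mul_assoc] using h4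
    · left
      have h4 := X.mul_mem (X.mul_mem (h1 _ hx) h2) hy
      simpa [mul_assoc] using h4
  inv_mem' := by
    rintro x (hx | hx)
    · exact Or.inl (X.inv_mem hx)
    · right
      have h4 := X.mul_mem (X.inv_mem h2) (h1 _ (X.inv_mem hx))
      simpa [mul_assoc] using h4

end

/-- the tables describe the graph -/
structure Tb (l : PL) (t it : ℕ) : Prop where
  el : ∀ p ∈ l.ls, lk t p.1 = p.2 ∧ lk it p.2 = p.1
  tab : ∀ a, lk t a ≠ 0 → (a, lk t a) ∈ l.ls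
  itab : ∀ b, lk it b ≠ 0 → (lk it b, b) ∈ l.ls

theorem Tb.cons {el : PL} {t it u v : ℕ} (h : Tb el t it) (hu : u < 65536) (hv : v < 65536)
    (hc : ∀ p ∈ el.ls, p.1 = u ↔ p.2 = v) : Tb (.cons u v el) (Nat.lor t (pt v u)) (Nat.lor it (pt u v)) := by
  have h1 : lk (Nat.lor t (pt v u)) u = v := by
    rw [lk_lor, lk_pt hv, if_pos rfl]
    by_cases h0 : lk t u = 0
    · rw [h0, Nat.zero_or]
    · rw [show lk t u = v from (hc _ (h.tab u h0)).1 rfl, Nat.or_self]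
  have h2 : lk (Nat.lor it (pt u v)) v = u := by
    rw [lk_lor, lk_pt hu, if_pos rfl]
    by_cases h0 : lk it v = 0
    · rw [h0, Nat.zero_or]
    · rw [show lk it v = u from (hc _ (h.itab v h0)).2 rfl, Nat.or_self]
  have h3 : ∀ i, i ≠ u → lk (Nat.lor t (pt v u)) i = lk t i := fun i hi => by
    rw [lk_lor, lk_pt hv, if_neg hi, Nat.or_zero]
  have h4 : ∀ i, i ≠ v → lk (Nat.lor it (pt u v)) i = lk it i := fun i hi => by
    rw [lk_lor, lk_pt hu, if_neg hi, Nat.or_zero]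
  refine ⟨fun p hp => ?_, fun a ha => ?_, fun b hb => ?_⟩
  · rw [PL.ls_cons, List.mem_cons] at hp
    rcases hp with rfl | hp
    · exact ⟨h1, h2⟩
    · by_cases h5 : p.1 = u
      · rw [h5, (hc p hp).1 h5]
        exact ⟨h1, h2⟩
      · rw [h3 _ h5, h4 _ fun h6 => h5 ((hc p hp).2 h6)]
        exact h.el p hp
  · rw [PL.ls_cons, List.mem_cons]
    by_cases h5 : a = u
    · rw [h5, h1]
      exact Or.inl rfl
    · rw [h3 _ h5] at ha ⊢
      exact Or.inr (h.tab a ha)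
  · rw [PL.ls_cons, List.mem_cons]
    by_cases h5 : b = v
    · rw [h5, h2]
      exact Or.inl rfl
    · rw [h4 _ h5] at hb ⊢
      exact Or.inr (h.itab b hb)

/-- the loop of `dbl` -/
noncomputable def aux (g : Gp) (G : PL) (a b : ℕ) (l : PL) : PL → ℕ → ℕ → PM :=
  PL.rec (motive := fun _ => PL → ℕ → ℕ → PM) (fun el t it => ⟨G, el, t, it⟩)
    (fun h k _ ih el t it => ih (.cons (lk (g.r a) h) (lk (g.r b) k) el)
      (Nat.lor t (pt (lk (g.r b) k) (lk (g.r a) h))) (Nat.lor it (pt (lk (g.r a) h) (lk (g.r b) k)))) l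

theorem dbl_eq (g : Gp) (s : PM) (a b : ℕ) : g.dbl s a b = aux g (.cons a b s.gs) a b s.el s.el s.tab s.itab := rfl

theorem aux_cons (g : Gp) (G : PL) (a b h k : ℕ) (l el : PL) (t it : ℕ) : aux g G a b (.cons h k l) el t it =
    aux g G a b l (.cons (g.m a h) (g.m b k) el) (Nat.lor t (pt (g.m b k) (g.m a h)))
      (Nat.lor it (pt (g.m a h) (g.m b k))) := rfl

theorem aux_gs (g : Gp) (G : PL) (a b : ℕ) (l : PL) : ∀ el t it, (aux g G a b l el t it).gs = G := by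
  induction l with
  | nil => exact fun _ _ _ => rfl
  | cons h k l ih => exact fun _ _ _ => ih _ _ _

theorem aux_el (g : Gp) (G : PL) (a b : ℕ) (l : PL) : ∀ el t it p, p ∈ (aux g G a b l el t it).el.ls ↔
    p ∈ el.ls ∨ ∃ q ∈ l.ls, p = (g.m a q.1, g.m b q.2) := by
  induction l with
  | nil => exact fun el _ _ p => ⟨Or.inl, fun h => h.elim id fun ⟨q, hq, _⟩ => absurd hq List.not_mem_nil⟩
  | cons h k l ih =>
    intro el t it p
    rw [aux_cons, ih, PL.ls_cons, PL.ls_cons, List.mem_cons]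
    constructor
    · rintro ((h1 | h1) | ⟨q, hq, h1⟩)
      · exact Or.inr ⟨(h, k), List.mem_cons_self, h1⟩
      · exact Or.inl h1
      · exact Or.inr ⟨q, List.mem_cons_of_mem _ hq, h1⟩
    · rintro (h1 | ⟨q, hq, h1⟩)
      · exact Or.inl (Or.inr h1)
      · rcases List.mem_cons.1 hq with rfl | hq
        · exact Or.inl (Or.inl h1)
        · exact Or.inr ⟨q, hq, h1⟩

theorem aux_tb (g : Gp) (G : PL) (a b : ℕ) {R : ℕ × ℕ → Prop} (hR : ∀ p q, R p → R q → (p.1 = q.1 ↔ p.2 = q.2))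
    (l : PL) : (∀ q ∈ l.ls, R (g.m a q.1, g.m b q.2)) → ∀ (el : PL) (t it : ℕ), (∀ p ∈ el.ls, R p) → Tb el t it →
      Tb (aux g G a b l el t it).el (aux g G a b l el t it).tab (aux g G a b l el t it).itab := by
  induction l with
  | nil => exact fun _ _ _ _ _ h => h
  | cons h k l ih =>
    intro hl el t it h1 h2
    have h3 := hl (h, k) List.mem_cons_self
    rw [aux_cons]
    refine ih (fun q hq => hl q (List.mem_cons_of_mem _ hq)) _ _ _ (fun p hp => ?_)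
      (h2.cons (lk_lt _ _) (lk_lt _ _) fun p hp => hR p _ (h1 p hp) h3)
    rcases List.mem_cons.1 hp with rfl | hp
    · exact h3
    · exact h1 p hp

theorem scan_cases (g : Gp) (t a b : ℕ) (kf : ℕ → ℕ → PM) (kd : PM) (l : PL) :
    (g.scan t a b l kf kd = kd ∧ ∀ p ∈ l.ls, lk t (g.cj a p.1) ≠ 0) ∨
      ∃ p ∈ l.ls, g.scan t a b l kf kd = kf (g.cj a p.1) (g.cj b p.2) := by
  induction l with
  | nil => exact Or.inl ⟨rfl, fun _ hp => absurd hp List.not_mem_nil⟩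
  | cons h k l ih =>
    have h1 : g.scan t a b (.cons h k l) kf kd =
        iF (nz (lk t (g.cj a h))) (g.scan t a b l kf kd) (kf (g.cj a h) (g.cj b k)) := rfl
    by_cases h2 : nz (lk t (g.cj a h)) = true
    · rw [h1, iF_pos h2]
      rcases ih with ⟨h3, h4⟩ | ⟨p, hp, h3⟩
      · refine Or.inl ⟨h3, fun p hp => ?_⟩
        rcases List.mem_cons.1 hp with rfl | hp
        · exact nz_iff.1 h2
        · exact h4 p hp
      · exact Or.inr ⟨p, List.mem_cons_of_mem _ hp, h3⟩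
    · rw [h1, iF_neg h2]
      exact Or.inr ⟨(h, k), List.mem_cons_self, rfl⟩

theorem adF_succ (g : Gp) (fu : ℕ) (s : PM) (a b : ℕ) : g.adF (fu + 1) s a b = iF (mem s a) s
    (g.scan s.tab a b s.gs (fun x y => fin s a b (g.adF fu (g.adF fu s x y) a b))
      (iF (mem s (g.q a)) (g.dbl s a b) (fin s a b (g.adF fu (g.adF fu s (g.q a) (g.q b)) a b)))) := rfl

variable {g : Gp} (hK : g.K)
include hK

theorem mem_val' {A : Type} [Group A] {e : ℕ → A} (he : En g.m g.N e) {s : PM} {φ : A → A} (hv : Val g e φ s) {a : ℕ}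
    (ha : a < g.N) : mem s a = true ↔ e a ∈ dom e s := by
  rw [mem_iff']
  constructor
  · rintro (h | h)
    · exact (hv.el _ (hv.tab a h)).1
    · rw [h, hK.e_zero he]
      exact Subgroup.one_mem _
  · intro h
    obtain ⟨b, hb⟩ := hv.cov a ha h
    obtain ⟨-, h1, h2, -⟩ := hv.el _ hb
    by_cases h0 : b = 0
    · right
      rw [h0, hK.e_zero he, ← hm_one hv.hm] at h1
      exact (hK.e_eq_one he ha).1 (hv.hm.inj _ h _ (Subgroup.one_mem _) h1)
    · left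
      rwa [h2]

theorem wf_dbl {s : PM} (hs : WF g s) {a b : ℕ} (ha : a < g.N) (hb : b < g.N)
    (h1 : ∀ p ∈ s.gs.ls, lk s.tab (g.cj a p.1) ≠ 0) (h2 : mem s (g.q a) = true) : WF g (g.dbl s a b) := by
  have hgs : (g.dbl s a b).gs = .cons a b s.gs := by rw [dbl_eq, aux_gs]
  have hel : ∀ p, p ∈ (g.dbl s a b).el.ls ↔ p ∈ s.el.ls ∨ ∃ q ∈ s.el.ls, p = (g.m a q.1, g.m b q.2) := fun p => by
    rw [dbl_eq, aux_el]
  refine ⟨fun p hp => ?_, fun p hp => ?_, fun A _ e φ D he hφ hg => ?_⟩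
  · rw [hgs] at hp
    rcases List.mem_cons.1 hp with rfl | hp
    · exact ⟨ha, hb⟩
    · exact hs.gs p hp
  · rcases (hel p).1 hp with hp | ⟨q, hq, rfl⟩
    · exact hs.el p hp
    · exact ⟨hK.m_lt a ha _ (hs.el q hq).1, hK.m_lt b hb _ (hs.el q hq).2⟩
  have hD : dom e (g.dbl s a b) ≤ D := closure_le_of_gens hg
  rw [hgs] at hg
  have hab := hg (a, b) List.mem_cons_self
  have hv := hs.val A e φ D he hφ fun p hp => hg p (List.mem_cons_of_mem _ hp)
  have hle : dom e s ≤ dom e (g.dbl s a b) := closure_le_of fun p hp =>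
    mem_gS (by rw [hgs]; exact List.mem_cons_of_mem _ hp)
  have haD : e a ∈ dom e (g.dbl s a b) := mem_gS (p := (a, b)) (by rw [hgs]; exact List.mem_cons_self)
  have hR : ∀ p ∈ (g.dbl s a b).el.ls,
      p.1 < g.N ∧ p.2 < g.N ∧ e p.1 ∈ dom e (g.dbl s a b) ∧ φ (e p.1) = e p.2 := fun p hp => by
    rcases (hel p).1 hp with hp | ⟨q, hq, rfl⟩
    · exact ⟨(hs.el p hp).1, (hs.el p hp).2, hle (hv.el p hp).1, (hv.el p hp).2.1⟩
    · refine ⟨hK.m_lt a ha _ (hs.el q hq).1, hK.m_lt b hb _ (hs.el q hq).2, ?_, ?_⟩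
      · rw [he.mul a ha _ (hs.el q hq).1]
        exact Subgroup.mul_mem _ haD (hle (hv.el q hq).1)
      · rw [he.mul a ha _ (hs.el q hq).1, he.mul b hb _ (hs.el q hq).2, hφ.mul _ hab.1 _ (hD (hle (hv.el q hq).1)),
          hab.2, (hv.el q hq).2.1]
  have hT := aux_tb g (.cons a b s.gs) a b
    (R := fun p => p.1 < g.N ∧ p.2 < g.N ∧ e p.1 ∈ dom e (g.dbl s a b) ∧ φ (e p.1) = e p.2)
    (fun p q hp hq => ⟨fun h => he.inj hp.2.1 hq.2.1 (by rw [← hp.2.2.2, ← hq.2.2.2, h]),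
      fun h => he.inj hp.1 hq.1 (hφ.inj _ (hD hp.2.2.1) _ (hD hq.2.2.1) (by rw [hp.2.2.2, hq.2.2.2, h]))⟩)
    s.el (fun q hq => hR _ ((hel _).2 (Or.inr ⟨q, hq, rfl⟩))) s.el s.tab s.itab
    (fun p hp => hR p ((hel p).2 (Or.inl hp))) ⟨fun p hp => (hv.el p hp).2.2, hv.tab, hv.itab⟩
  rw [← dbl_eq] at hT
  refine ⟨hm_mono hφ hD, fun p hp => ⟨(hR p hp).2.2.1, (hR p hp).2.2.2, hT.el p hp⟩, fun c hc hcD => ?_, hT.tab,
    hT.itab⟩
  have n1 : ∀ x ∈ dom e s, e a * x * (e a)⁻¹ ∈ dom e s := fun x hx =>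
    closure_le_of (X := (dom e s).comap (MulAut.conj (e a)).toMonoidHom) (fun p hp => by
      have h3 := (hv.el _ (hv.tab _ (h1 p hp))).1
      rwa [hK.e_cj he ha (hs.gs p hp).1] at h3) hx
  have n2 : e a * e a ∈ dom e s := by
    rw [← hK.e_q he ha]
    exact (mem_val' hK he hv (hK.q_lt ha)).1 h2
  have h3 : dom e (g.dbl s a b) ≤ dblS (dom e s) (e a) n1 n2 := closure_le_of fun p hp => by
    rw [hgs] at hp
    rcases List.mem_cons.1 hp with rfl | hp
    · exact Or.inr (by rw [inv_mul_cancel]; exact Subgroup.one_mem _)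
    · exact Or.inl (mem_gS hp)
  rcases h3 hcD with h4 | h4
  · obtain ⟨d, hd⟩ := hv.cov c hc h4
    exact ⟨d, (hel _).2 (Or.inl hd)⟩
  · obtain ⟨h, hh, h5⟩ := he.surj ((e a)⁻¹ * e c)
    obtain ⟨k, hk⟩ := hv.cov h hh (h5 ▸ h4)
    refine ⟨g.m b k, (hel _).2 (Or.inr ⟨(h, k), hk, ?_⟩)⟩
    rw [he.inj hc (hK.m_lt a ha h hh) (by rw [he.mul a ha h hh, h5, mul_inv_cancel_left])]

theorem wf_fin {s s' : PM} (hs : WF g s) (hs' : WF g s') {a b x y : ℕ} (ha : a < g.N) (hb : b < g.N)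
    (h1 : ∀ p ∈ s.gs.ls, p ∈ s'.gs.ls) (h2 : ∀ p ∈ s'.gs.ls, p = (a, b) ∨ p = (x, y) ∨ p ∈ s.gs.ls)
    (hxy : ∀ (A : Type) [Group A] (e : ℕ → A) (φ : A → A) (D : Subgroup A), En g.m g.N e → Hm D φ →
      Gens e φ D (.cons a b s.gs) → e x ∈ D ∧ φ (e x) = e y) :
    WF g (fin s a b s') ∧ (fin s a b s' = s ∨ (fin s a b s').gs = .cons a b s.gs) := by
  unfold fin
  by_cases h3 : mem s' a = true
  · rw [iF_pos h3]
    refine ⟨⟨fun p hp => ?_, hs'.el, fun A _ e φ D he hφ hg => ?_⟩, Or.inr rfl⟩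
    · rcases List.mem_cons.1 hp with rfl | hp
      · exact ⟨ha, hb⟩
      · exact hs.gs p hp
    have hD : Subgroup.closure (gS e (.cons a b s.gs)) ≤ D := closure_le_of_gens hg
    have hg' : Gens e φ (Subgroup.closure (gS e (.cons a b s.gs))) (.cons a b s.gs) := fun p hp =>
      ⟨mem_gS hp, (hg p hp).2⟩
    have h4 : Gens e φ (Subgroup.closure (gS e (.cons a b s.gs))) s'.gs := fun p hp => by
      rcases h2 p hp with rfl | rfl | hp
      · exact hg' _ List.mem_cons_self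
      · exact hxy A e φ _ he (hm_mono hφ hD) hg'
      · exact hg' p (List.mem_cons_of_mem _ hp)
    have hv := hs'.val A e φ _ he (hm_mono hφ hD) h4
    have h5 : Subgroup.closure (gS e (.cons a b s.gs)) = dom e s' := by
      refine le_antisymm (closure_le_of fun p hp => ?_) (closure_le_of_gens h4)
      rcases List.mem_cons.1 hp with rfl | hp
      · exact (mem_val' hK he hv ha).1 h3
      · exact mem_gS (h1 p hp)
    have h6 : dom e ⟨.cons a b s.gs, s'.el, s'.tab, s'.itab⟩ = dom e s' := h5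
    exact ⟨h6 ▸ hv.hm, fun p hp => h6 ▸ hv.el p hp, fun c hc h => hv.cov c hc (h6 ▸ h), hv.tab, hv.itab⟩
  · rw [iF_neg h3]
    exact ⟨hs, Or.inl rfl⟩

theorem adF_spec (fu : ℕ) : ∀ (s : PM) (a b : ℕ), WF g s → a < g.N → b < g.N →
    WF g (g.adF fu s a b) ∧ (g.adF fu s a b = s ∨ (g.adF fu s a b).gs = .cons a b s.gs) := by
  induction fu with
  | zero => exact fun s a b hs _ _ => ⟨hs, Or.inl rfl⟩
  | succ fu ih =>
    intro s a b hs ha hb
    have key : ∀ x y, x < g.N → y < g.N → (∀ (A : Type) [Group A] (e : ℕ → A) (φ : A → A) (D : Subgroup A),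
        En g.m g.N e → Hm D φ → Gens e φ D (.cons a b s.gs) → e x ∈ D ∧ φ (e x) = e y) →
        WF g (fin s a b (g.adF fu (g.adF fu s x y) a b)) ∧ (fin s a b (g.adF fu (g.adF fu s x y) a b) = s ∨
          (fin s a b (g.adF fu (g.adF fu s x y) a b)).gs = .cons a b s.gs) := fun x y hx hy hxy => by
      obtain ⟨w1, e1⟩ := ih s x y hs hx hy
      obtain ⟨w2, e2⟩ := ih _ a b w1 ha hb
      refine wf_fin hK hs w2 ha hb (fun p hp => ?_) (fun p hp => ?_) hxy
      · have h1 : p ∈ (g.adF fu s x y).gs.ls := by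
          rcases e1 with e1 | e1 <;> rw [e1]
          · exact hp
          · exact List.mem_cons_of_mem _ hp
        rcases e2 with e2 | e2 <;> rw [e2]
        · exact h1
        · exact List.mem_cons_of_mem _ h1
      · have h1 : p = (a, b) ∨ p ∈ (g.adF fu s x y).gs.ls := by
          rcases e2 with e2 | e2 <;> rw [e2] at hp
          · exact Or.inr hp
          · exact List.mem_cons.1 hp
        refine h1.imp_right fun h1 => ?_
        rcases e1 with e1 | e1 <;> rw [e1] at h1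
        · exact Or.inr h1
        · exact List.mem_cons.1 h1
    rw [adF_succ]
    by_cases h1 : mem s a = true
    · rw [iF_pos h1]
      exact ⟨hs, Or.inl rfl⟩
    rw [iF_neg h1]
    rcases scan_cases g s.tab a b (fun x y => fin s a b (g.adF fu (g.adF fu s x y) a b))
      (iF (mem s (g.q a)) (g.dbl s a b) (fin s a b (g.adF fu (g.adF fu s (g.q a) (g.q b)) a b))) s.gs with
      ⟨h2, h3⟩ | ⟨p, hp, h2⟩
    · rw [h2]
      by_cases h4 : mem s (g.q a) = true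
      · rw [iF_pos h4]
        exact ⟨wf_dbl hK hs ha hb h3 h4, Or.inr (by rw [dbl_eq, aux_gs])⟩
      · rw [iF_neg h4]
        refine key _ _ (hK.q_lt ha) (hK.q_lt hb) fun A _ e φ D he hφ hg => ?_
        have h5 := hg (a, b) List.mem_cons_self
        rw [hK.e_q he ha, hK.e_q he hb, hφ.mul _ h5.1 _ h5.1, h5.2]
        exact ⟨D.mul_mem h5.1 h5.1, rfl⟩
    · rw [h2]
      refine key _ _ (hK.cj_lt ha (hs.gs p hp).1) (hK.cj_lt hb (hs.gs p hp).2) fun A _ e φ D he hφ hg => ?_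
      have h5 := hg (a, b) List.mem_cons_self
      have h6 := hg p (List.mem_cons_of_mem _ hp)
      rw [hK.e_cj he ha (hs.gs p hp).1, hK.e_cj he hb (hs.gs p hp).2,
        hφ.mul _ (D.mul_mem h5.1 h6.1) _ (D.inv_mem h5.1), hφ.mul _ h5.1 _ h6.1, hm_inv hφ h5.1, h5.2, h6.2]
      exact ⟨D.mul_mem (D.mul_mem h5.1 h6.1) (D.inv_mem h5.1), rfl⟩

end ValAux

open ValAux

namespace Gp.K

variable {g : Gp} (hK : g.K)
include hK

theorem ws_s0 : WS g s0 := by
  have hel : ∀ p ∈ s0.el.ls, p = (0, 0) := fun p hp => List.mem_singleton.1 hp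
  refine ⟨⟨fun p hp => absurd hp List.not_mem_nil, fun p hp => ?_, fun A _ e φ D he hφ _ => ?_⟩,
    fun p hp => absurd hp List.not_mem_nil⟩
  · rw [hel p hp]
    exact ⟨hK.N_pos, hK.N_pos⟩
  have hb : ∀ X : Subgroup A, dom e s0 ≤ X := fun X => closure_le_of fun p hp => absurd hp List.not_mem_nil
  refine ⟨hm_mono hφ (hb D), fun p hp => ?_, fun a ha h => ⟨0, ?_⟩, fun a h => absurd (lk_zero a) h,
    fun a h => absurd (lk_zero a) h⟩
  · rw [hel p hp, hK.e_zero he]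
    exact ⟨Subgroup.one_mem _, hm_one hφ, lk_zero 0, lk_zero 0⟩
  · rw [(hK.e_eq_one he ha).1 (Subgroup.mem_bot.1 (hb ⊥ h))]
    exact List.mem_cons_self

theorem ad_spec {s : PM} (hs : WF g s) {a b : ℕ} (ha : a < g.N) (hb : b < g.N) :
    WF g (g.ad s a b) ∧ (g.ad s a b = s ∨ (g.ad s a b).gs = .cons a b s.gs) :=
  adF_spec hK 10 s a b hs ha hb

theorem adS_spec {K : PM} (hs : WS g K) {φ : ℕ → ℕ} (hφ : ∀ i, φ i < g.N) (k : ℕ) :
    WS g (g.adS K φ k) ∧ (∀ p ∈ K.gs.ls, p ∈ (g.adS K φ k).gs.ls) ∧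
      ∀ p ∈ (g.adS K φ k).gs.ls, p ∈ K.gs.ls ∨ ∃ i, i < k ∧ p.1 = φ i := by
  induction k with
  | zero => exact ⟨hs, fun _ hp => hp, fun _ hp => Or.inl hp⟩
  | succ k ih =>
    obtain ⟨h1, h2, h3⟩ := ih
    have h4 : g.adS K φ (k + 1) = g.ad (g.adS K φ k) (φ k) (φ k) := rfl
    obtain ⟨h5, h6⟩ := hK.ad_spec h1.toWF (hφ k) (hφ k)
    have h7 : ∀ p ∈ (g.adS K φ k).gs.ls, p ∈ K.gs.ls ∨ ∃ i, i < k + 1 ∧ p.1 = φ i := fun p hp =>
      (h3 p hp).imp_right fun ⟨i, hi, h⟩ => ⟨i, Nat.lt_succ_of_lt hi, h⟩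
    rw [h4]
    rcases h6 with h6 | h6
    · rw [h6]
      exact ⟨h1, h2, h7⟩
    · refine ⟨⟨h5, fun p hp => ?_⟩, fun p hp => ?_, fun p hp => ?_⟩
      · rw [h6] at hp
        rcases List.mem_cons.1 hp with rfl | hp
        · rfl
        · exact h1.dg p hp
      · rw [h6]
        exact List.mem_cons_of_mem _ (h2 p hp)
      · rw [h6] at hp
        rcases List.mem_cons.1 hp with rfl | hp
        · exact Or.inr ⟨k, Nat.lt_succ_self k, rfl⟩
        · exact h7 p hp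

theorem ws_mkS (w : ℕ) : WS g (g.mkS w) := by
  rw [Gp.mkS, frc_eq, Gp.mkS0, Gp.mkS1]
  exact (hK.adS_spec hK.ws_s0 (hK.by_lt (sl w)) _).1

theorem wf_mkP (w : ℕ) : WF g (g.mkP w) := by
  rw [Gp.mkP, frc_eq, Gp.mkP0, Gp.mkP1]
  generalize len2 (sl w) = k
  induction k with
  | zero => exact hK.ws_s0.toWF
  | succ k ih => exact (hK.ad_spec ih (hK.by_lt _ _) (hK.by_lt _ _)).1

theorem mkP_zero : g.mkP 0 = s0 := by
  have h1 : ∀ i, g.by' 0 i = 0 := fun i => by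
    change (0 >>> _) &&& g.mk' = 0
    rw [Nat.zero_shiftRight, Nat.zero_and]
  have h2 : g.mkP0 0 = g.ad s0 (g.by' 0 (Nat.add 0 0)) (g.by' 0 (Nat.succ (Nat.add 0 0))) := rfl
  have _ := hK
  rw [Gp.mkP, frc_eq, h2, h1, h1, Gp.ad, adF_succ, iF_pos (mem_iff'.2 (Or.inr rfl))]

variable {A : Type} [Group A] {e : ℕ → A} (he : En g.m g.N e)
include he

omit hK in
theorem val_ws {s : PM} (hs : WS g s) : Val g e (fun x => x) s :=
  hs.val A e _ ⊤ he (hm_id ⊤) fun p hp => ⟨Subgroup.mem_top _, by rw [hs.dg p hp]⟩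

theorem mem_val {s : PM} (hs : WF g s) {φ : A → A} (hv : Val g e φ s) {a : ℕ} (ha : a < g.N) :
    mem s a = true ↔ e a ∈ dom e s :=
  have _ := hs
  mem_val' hK he hv ha

theorem mem_ws {s : PM} (hs : WS g s) {a : ℕ} (ha : a < g.N) : mem s a = true ↔ e a ∈ dom e s :=
  hK.mem_val he hs.toWF (val_ws he hs) ha

/-- the table on the domain -/
theorem tab_val {s : PM} (hs : WF g s) {φ : A → A} (hv : Val g e φ s) {a : ℕ} (ha : a < g.N) (h : e a ∈ dom e s) :
    lk s.tab a < g.N ∧ φ (e a) = e (lk s.tab a) := by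
  have _ := hK
  have _ := he
  obtain ⟨b, hb⟩ := hv.cov a ha h
  obtain ⟨-, h1, h2, -⟩ := hv.el _ hb
  rw [show lk s.tab a = b from h2]
  exact ⟨(hs.el _ hb).2, h1⟩

omit hK he in
theorem lk_val {s : PM} (hs : WF g s) {φ : A → A} (hv : Val g e φ s) {Q : Subgroup A} (hQ : dom e s ≤ Q) :
    Lk g e Q φ (lk s.tab) ∧ Li g e Q φ (lk s.itab) :=
  ⟨fun a h => ⟨(hs.el _ (hv.tab a h)).1, (hs.el _ (hv.tab a h)).2, hQ (hv.el _ (hv.tab a h)).1,
      (hv.el _ (hv.tab a h)).2.1⟩,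
    fun b h => ⟨(hs.el _ (hv.itab b h)).2, (hs.el _ (hv.itab b h)).1, hQ (hv.el _ (hv.itab b h)).1,
      (hv.el _ (hv.itab b h)).2.1⟩⟩

end Gp.K

end Cfsg.Agent.FS.NB
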